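/-
The number of points and the order of the torus.
-/
import Cfsg.Agent.Lib.SingerPrime.OverTorus

set_option autoImplicit false
set_option linter.unusedSectionVars false
set_option linter.style.haveILetI false

namespace CfsgLib.SingerPrime.Singer

open Module
open CfsgLib.SingerFive

variable {F L : Type*} [Field F] [Field L] [Algebra F L] [Finite L]

set_option quotPrecheck false in
local notation "𝕟" => Module.finrank F L

theorem finite_base (F L : Type*) [Field F] [Field L] [Algebra F L] [Finite L] : Finite F :=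
  Finite.of_injective _ (algebraMap F L).injective

theorem card_units_L (hn : Nat.Prime 𝕟) : Nat.card Lˣ = Nat.card F ^ 𝕟 - 1 := by
  haveI := finite_base F L
  haveI : FiniteDimensional F L := finiteDim
  rw [Nat.card_units, Module.natCard_eq_pow_finrank (K := F) (V := L)]

theorem card_units_pts : Nat.card Lˣ = Nat.card (Sub F L 1) * Nat.card Fˣ := by
  classical
  choose r hr hP using fun P : Sub F L 1 => exists_pt P
  rw [← Nat.card_prod]
  refine (Nat.card_eq_of_bijective (fun x : Sub F L 1 × Fˣ => Units.mk0 ((x.2 : F) • r x.1)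
    (smul_ne_zero x.2.ne_zero (hr _))) ⟨?_, ?_⟩).symm
  · rintro ⟨P, c⟩ ⟨P', c'⟩ h
    have h1 : (c : F) • r P = (c' : F) • r P' := congrArg Units.val h
    have hPP : P = P' := by
      rw [hP P, hP P']
      refine Subtype.ext ?_
      show F ∙ r P = F ∙ r P'
      rw [← Submodule.span_singleton_smul_eq c.isUnit (r P), h1, Submodule.span_singleton_smul_eq c'.isUnit]
    subst hPP
    rw [Units.ext (smul_left_injective F (hr P) h1)]
  · intro u
    obtain ⟨c, hc, hu⟩ := pt_eq_pt (hr (pt (u : L) u.ne_zero)) u.ne_zero (hP _).symm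
    exact ⟨(pt (u : L) u.ne_zero, Units.mk0 c hc), Units.ext hu.symm⟩

theorem card_normOne : Nat.card (normOne F L) = Nat.card (Sub F L 1) := by
  haveI := finite_base F L
  have h := (normOne F L).card_mul_index
  rw [normOne, Subgroup.index_ker, MonoidHom.range_eq_top.mpr (FiniteField.unitsMap_norm_surjective F L),
    Subgroup.card_top, card_units_pts (F := F) (L := L)] at h
  exact Nat.eq_of_mul_eq_mul_right Nat.card_pos h

theorem card_pts_mul (hn : Nat.Prime 𝕟) :
    Nat.card (Sub F L 1) * (Nat.card F - 1) = Nat.card F ^ 𝕟 - 1 := by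
  haveI := finite_base F L
  rw [← card_units_L hn, card_units_pts (F := F) (L := L), Nat.card_units]

theorem geom_odd (r : ℕ) : ∀ m : ℕ,
    (1 + (r + 2) * (r + 3) * ∑ i ∈ Finset.range m, (r + 2) ^ (2 * i)) * (r + 1) + 1 = (r + 2) ^ (2 * m + 1)
  | 0 => by simp
  | m + 1 => by
    have h := geom_odd r m
    rw [Finset.sum_range_succ, show 2 * (m + 1) + 1 = 2 * m + 1 + 2 by ring, pow_add _ (2 * m + 1), ← h]
    have h' : (r + 2) * (r + 2) ^ (2 * m) = (1 + (r + 2) * (r + 3) * ∑ i ∈ Finset.range m, (r + 2) ^ (2 * i)) * (r + 1) + 1 := by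
      rw [h, pow_succ, mul_comm]
    linear_combination ((r + 3) * (r + 1)) * h'

/-- The half sum. -/
noncomputable def half (F L : Type*) [Field F] [Field L] [Algebra F L] : ℕ :=
  ∑ i ∈ Finset.range ((Module.finrank F L - 1) / 2), Nat.card F ^ (2 * i)

theorem card_pts_eq (hn : Nat.Prime 𝕟) (hodd : Odd 𝕟) :
    Nat.card (Sub F L 1) = 1 + Nat.card F * (Nat.card F + 1) * half F L := by
  haveI := finite_base F L
  have h := card_pts_mul (F := F) (L := L) hn
  have h1 : 2 ≤ Nat.card F := Finite.one_lt_card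
  obtain ⟨r, hr⟩ : ∃ r, Nat.card F = r + 2 := ⟨Nat.card F - 2, by omega⟩
  obtain ⟨m, hm⟩ := hodd
  have hg := geom_odd r m
  rw [half, hr, show (𝕟 - 1) / 2 = m by omega]
  rw [hr, hm] at h
  refine Nat.eq_of_mul_eq_mul_right (show 0 < r + 1 by omega) ?_
  rw [show r + 2 - 1 = r + 1 by omega] at h
  rw [h, show r + 2 + 1 = r + 3 by ring]
  omega

theorem half_pos (h7 : 7 ≤ 𝕟) : Nat.card F ^ 4 ≤ half F L := by
  rw [half]
  exact Finset.single_le_sum (f := fun i => Nat.card F ^ (2 * i)) (fun _ _ => Nat.zero_le _)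
    (a := 2) (Finset.mem_range.mpr (show 2 < (𝕟 - 1) / 2 by omega))

theorem pow_le_pts (hn : Nat.Prime 𝕟) : Nat.card F ^ (𝕟 - 1) ≤ Nat.card (Sub F L 1) := by
  haveI := finite_base F L
  have h := card_pts_mul (F := F) (L := L) hn
  have h1 : 2 ≤ Nat.card F := Finite.one_lt_card
  by_contra hlt
  push Not at hlt
  have h2 := Nat.mul_le_mul_right (Nat.card F - 1) (show Nat.card (Sub F L 1) + 1 ≤ _ from hlt)
  have h3 : Nat.card F ^ 𝕟 = Nat.card F ^ (𝕟 - 1) * Nat.card F := by
    rw [← pow_succ, Nat.sub_add_cancel hn.pos]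
  have h4 : Nat.card F ^ (𝕟 - 1) * (Nat.card F - 1) + Nat.card F ^ (𝕟 - 1) = Nat.card F ^ (𝕟 - 1) * Nat.card F := by
    conv_rhs => rw [show Nat.card F = Nat.card F - 1 + 1 by omega, mul_add, mul_one]
    rw [show Nat.card F - 1 + 1 = Nat.card F by omega]
  have h5 : 1 ≤ Nat.card F ^ (𝕟 - 1) := Nat.one_le_pow _ _ (by omega)
  rw [Nat.add_mul, h] at h2
  omega

/-- The points are as many as the roots of unity times the torus. -/
theorem Over.card_pts_roots {M : Subgroup (L ≃ₗ[F] L)} (O : Over M) :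
    Nat.card (Sub F L 1) = Nat.card (rootsOfUnity 𝕟 F) * Nat.card O.tor := by
  classical
  haveI := finite_base F L
  haveI : Fintype F := Fintype.ofFinite F
  let f : normOne F L →* (onPts M).range := (onPts M).rangeRestrict.comp O.incl
  have hmul : Nat.card (normOne F L) = Nat.card f.ker * Nat.card O.tor := by
    rw [← f.ker.card_mul_index, Subgroup.index_ker]
    rfl
  have hbij : Nat.card f.ker = Nat.card (rootsOfUnity 𝕟 F) := by
    have hk : ∀ c : rootsOfUnity 𝕟 F, Units.map (algebraMap F L : F →* L) (c : Fˣ) ∈ normOne F L := fun c => by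
      rw [mem_normOne]
      show Algebra.norm F (algebraMap F L ((c : Fˣ) : F)) = 1
      have := c.2
      rw [mem_rootsOfUnity] at this
      rw [norm_algebraMap' O.prime, ← Units.val_pow_eq_pow_val, this, Units.val_one]
    have hk' : ∀ c : rootsOfUnity 𝕟 F, (⟨_, hk c⟩ : normOne F L) ∈ f.ker := fun c =>
      Subtype.ext (Equiv.ext fun P => smul_eq_of_range ⟨_, rfl⟩ P)
    refine (Nat.card_eq_of_bijective (fun c => (⟨_, hk' c⟩ : f.ker)) ⟨?_, ?_⟩).symm
    · intro a b h
      have h1 := congrArg (fun x : f.ker => (((x.1 : normOne F L) : Lˣ) : L)) h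
      exact Subtype.ext (Units.ext ((algebraMap F L).injective h1))
    · rintro ⟨⟨u, hu⟩, hk⟩
      have h1 := (trivial_iff_range u).mp fun P => by
        have := congrArg (fun x : (onPts M).range => (x : Equiv.Perm (Sub F L 1)) P) hk
        exact this
      obtain ⟨c, hc⟩ := h1
      have hc0 : c ≠ 0 := fun h0 => u.ne_zero (by rw [← hc, h0, map_zero])
      refine ⟨⟨Units.mk0 c hc0, ?_⟩, Subtype.ext (Subtype.ext (Units.ext hc))⟩
      rw [mem_rootsOfUnity, Units.ext_iff, Units.val_pow_eq_pow_val, Units.val_mk0, Units.val_one,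
        ← norm_algebraMap' (L := L) O.prime, hc]
      exact mem_normOne.mp hu
  rw [← card_normOne, hmul, hbij]

/-- The points split into one or `n` regular orbits of the torus. -/
theorem Over.exists_classes {M : Subgroup (L ≃ₗ[F] L)} (O : Over M) :
    ∃ d, (d = 1 ∨ (d = 𝕟 ∧ 𝕟 ∣ Nat.card F - 1)) ∧ Nat.card (Sub F L 1) = d * Nat.card O.tor := by
  classical
  haveI := finite_base F L
  haveI : Fintype F := Fintype.ofFinite F
  refine ⟨Nat.card (rootsOfUnity 𝕟 F), ?_, O.card_pts_roots⟩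
  have hle : Nat.card (rootsOfUnity 𝕟 F) ≤ 𝕟 := by
    haveI : NeZero 𝕟 := ⟨O.prime.ne_zero⟩
    exact card_rootsOfUnity F 𝕟
  haveI : Fact (Nat.Prime 𝕟) := ⟨O.prime⟩
  obtain ⟨k, hk⟩ := IsPGroup.iff_card.mp (show IsPGroup 𝕟 (rootsOfUnity 𝕟 F) from
    fun c => ⟨1, Subtype.ext (by rw [pow_one, SubmonoidClass.coe_pow]; exact c.2)⟩)
  rcases Nat.eq_zero_or_pos k with rfl | hk0
  · left; simpa using hk
  · right
    have h5 : Nat.card (rootsOfUnity 𝕟 F) = 𝕟 := by
      refine le_antisymm hle ?_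
      rw [hk]
      exact Nat.le_self_pow hk0.ne' 𝕟
    refine ⟨h5, ?_⟩
    rw [← Nat.card_units, ← h5]
    exact Subgroup.card_subgroup_dvd_card _

theorem two_pow_big : ∀ m, 7 ≤ m → m ^ 2 + 3 * m + 3 ≤ 2 ^ m := by
  intro m hm
  induction m, hm using Nat.le_induction with
  | base => norm_num
  | succ m hm ih => rw [pow_succ 2 m]; nlinarith

/-- The torus is large. -/
theorem Over.tor_big {M : Subgroup (L ≃ₗ[F] L)} (O : Over M) :
    𝕟 ^ 2 + 3 * 𝕟 + 2 ≤ Nat.card O.tor ∧ Nat.card (Sub F L 1) ≤ 𝕟 * Nat.card O.tor := by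
  haveI := finite_base F L
  obtain ⟨d, hd, hcard⟩ := O.exists_classes
  have hq : 2 ≤ Nat.card F := Finite.one_lt_card
  have h7 := O.seven
  rcases hd with rfl | ⟨rfl, hdvd⟩
  · rw [one_mul] at hcard
    refine ⟨?_, hcard ▸ Nat.le_mul_of_pos_left _ O.prime.pos⟩
    have h := card_pts_mul (F := F) (L := L) O.prime
    have h1 := two_pow_big _ h7
    rcases Nat.eq_or_lt_of_le hq with h2 | h2
    · rw [← hcard]
      rw [← h2, show (2 : ℕ) - 1 = 1 from rfl, mul_one] at h
      omega
    · have h3 := pow_le_pts (F := F) (L := L) O.prime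
      have h4 : 3 ^ (𝕟 - 1) ≤ Nat.card F ^ (𝕟 - 1) := Nat.pow_le_pow_left h2 _
      have h5 : 2 ^ 𝕟 ≤ 3 ^ (𝕟 - 1) := by
        obtain ⟨j, hj⟩ : ∃ j, 𝕟 = j + 3 := ⟨𝕟 - 3, by omega⟩
        rw [hj, show j + 3 - 1 = j + 2 by omega, pow_add, pow_add]
        exact Nat.mul_le_mul (Nat.pow_le_pow_left (by norm_num) j) (by norm_num)
      omega
  · refine ⟨?_, hcard.le⟩
    have hle := Nat.le_of_dvd (by omega) hdvd
    have h3 := pow_le_pts (F := F) (L := L) O.prime
    have h4 : (𝕟 + 1) ^ 4 ≤ Nat.card F ^ (𝕟 - 1) :=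
      (Nat.pow_le_pow_left (by omega) 4).trans (Nat.pow_le_pow_right (by omega) (by omega))
    rw [hcard] at h3
    refine Nat.le_of_mul_le_mul_left (le_trans ?_ (h4.trans h3)) O.prime.pos
    nlinarith [sq_nonneg (𝕟 : ℕ), Nat.mul_le_mul (Nat.mul_le_mul h7 h7) h7]

end CfsgLib.SingerPrime.Singer
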