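/-
Flag transitivity from a mated line.
-/
import Cfsg.Agent.Lib.SingerPrime.OverClasses

set_option autoImplicit false
set_option linter.unusedSectionVars false
set_option linter.style.haveILetI false
set_option maxHeartbeats 1000000

namespace CfsgLib.SingerPrime.Singer

open Module
open CfsgLib.SingerFive

variable {F L : Type*} [Field F] [Field L] [Algebra F L] [Finite L] {M : Subgroup (L ≃ₗ[F] L)}

set_option quotPrecheck false in
local notation "𝕟" => Module.finrank F L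

/-- An equidistributed group with a mated line is transitive on flags. -/
theorem Over.flags_transitive {O : Over M} (hE : Equidistributed O) {W₀ : Sub F L 2}
    (hW₀ : Mated W₀) (ψ : Sub F L 1 → Sub F L 2 → Prop)
    (hinv : ∀ g ∈ M, ∀ P W, ψ P W → ψ (g • P) (g • W)) {P₁ : Sub F L 1} {W₁ : Sub F L 2}
    (hP₁ : P₁.1 ≤ W₁.1) (h₁ : ψ P₁ W₁) : ∀ P W, P.1 ≤ W.1 → ψ P W := by
  classical
  haveI := finite_base F L
  haveI : Fintype (Sub F L 2) := Fintype.ofFinite _
  haveI : Fintype (Sub F L 1) := Fintype.ofFinite _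
  haveI : Fintype Lˣ := Fintype.ofFinite _
  have hinv' : ∀ g ∈ M, ∀ P W, ψ (g • P) (g • W) → ψ P W := fun g hg P W h => by
    simpa using hinv g⁻¹ (inv_mem hg) _ _ h
  let e : Sub F L 2 → ℕ := fun W => Nat.card {P : Sub F L 1 // P.1 ≤ W.1 ∧ ψ P W}
  have he : ∀ g ∈ M, ∀ W, e (g • W) = e W := fun g hg W => by
    refine (Nat.card_congr (Equiv.subtypeEquiv (MulAction.toPerm g) fun P => ?_)).symm
    rw [MulAction.toPerm_apply]
    exact ⟨fun h => ⟨Submodule.map_mono h.1, hinv g hg P W h.2⟩,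
      fun h => ⟨(Submodule.map_le_map_iff_of_injective (LinearEquiv.injective g) _ _).mp h.1, hinv' g hg P W h.2⟩⟩
  have hec : ∀ W, e W = e W₁ :=
    O.lines_transitive hE (fun W => e W = e W₁) (fun g hg W h => (he g hg W).trans h) (W₀ := W₁) rfl
  have he1 : 1 ≤ e W₁ := Nat.one_le_iff_ne_zero.mpr (Nat.card_ne_zero.mpr ⟨⟨⟨P₁, hP₁, h₁⟩⟩, inferInstance⟩)
  let A : Sub F L 1 → ℕ := fun P =>
    Nat.card {a : Lˣ // ψ ((mulE a : L ≃ₗ[F] L) • P) ((mulE a : L ≃ₗ[F] L) • W₀)}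
  -- every point of the mated line has the same count
  have hA : ∀ P P', P.1 ≤ W₀.1 → P'.1 ≤ W₀.1 → A P = A P' := by
    let S : Sub F L 1 → Sub F L 1 → Prop := fun P Q => P ≠ Q ∧ ∃ U : Sub F L 2, P.1 ≤ U.1 ∧ Q.1 ≤ U.1 ∧ ψ P U
    have hS : ∀ g ∈ M, ∀ P Q, S P Q → S (g • P) (g • Q) := by
      rintro g hg P Q ⟨hne, U, hP, hQ, hU⟩
      exact ⟨fun h => hne (MulAction.injective g h), g • U, Submodule.map_mono hP, Submodule.map_mono hQ, hinv g hg P U hU⟩
    have key : ∀ P, P.1 ≤ W₀.1 → ∃ t, t ∈ normOne F L ∧ (t : L) ∉ Set.range (algebraMap F L) ∧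
        A P = Nat.card {Q : Sub F L 1 // S Q ((mulE t : L ≃ₗ[F] L) • Q)} * Nat.card Fˣ := by
      intro P hP
      obtain ⟨Q, hQ, hne, hcls⟩ := hW₀ P hP
      obtain ⟨x, hx, rfl⟩ := exists_pt P
      obtain ⟨y, hy, rfl⟩ := exists_pt Q
      rw [show (pt y hy : Sub F L 1) = pt ((Units.mk0 y hy : Lˣ) : L) (Units.ne_zero _) from rfl, pcls_pt O.prime,
        show (pt x hx : Sub F L 1) = pt ((Units.mk0 x hx : Lˣ) : L) (Units.ne_zero _) from rfl, pcls_pt O.prime] at hcls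
      obtain ⟨t, ht, htn, hmem⟩ := exists_tor_of_ncls O.prime (indep_of_ne hx hy (Ne.symm hne)) hcls.symm
      refine ⟨t, ht, htn, ?_⟩
      rw [← card_units_filter fun Q => S Q ((mulE t : L ≃ₗ[F] L) • Q)]
      refine Nat.card_congr (Equiv.subtypeEquiv (Equiv.mulRight (Units.mk0 x hx)) fun a => ?_)
      have ha : pt ((Equiv.mulRight (Units.mk0 x hx) a : Lˣ) : L) (Units.ne_zero _) =
          (pt ((a : L) * x) (mul_ne_zero a.ne_zero hx) : Sub F L 1) := rfl
      rw [ha, mulE_pt a x hx]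
      have hne' : (pt ((a : L) * x) (mul_ne_zero a.ne_zero hx) : Sub F L 1) ≠
          (mulE t : L ≃ₗ[F] L) • pt ((a : L) * x) (mul_ne_zero a.ne_zero hx) :=
        fun h => htn (mem_range_of_fix h.symm)
      have h1 : (pt ((a : L) * x) (mul_ne_zero a.ne_zero hx) : Sub F L 1).1 ≤ ((mulE a : L ≃ₗ[F] L) • W₀).1 :=
        (pt_le_iff _ _).mpr (mem_sub_smul (mulE a : L ≃ₗ[F] L) W₀ ((pt_le_iff hx _).mp hP))
      have h2 : ((mulE t : L ≃ₗ[F] L) • pt ((a : L) * x) (mul_ne_zero a.ne_zero hx)).1 ≤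
          ((mulE a : L ≃ₗ[F] L) • W₀).1 := by
        rw [mulE_pt]
        refine (pt_le_iff _ _).mpr ?_
        rw [mul_left_comm]
        exact mem_sub_smul (mulE a : L ≃ₗ[F] L) W₀ (hmem W₀.1 ((pt_le_iff hy _).mp hQ))
      constructor
      · intro h
        exact ⟨hne', _, h1, h2, h⟩
      · rintro ⟨-, U', hP', hQ', hU'⟩
        rwa [(existsUnique_line _ _ hne').unique ⟨h1, h2⟩ ⟨hP', hQ'⟩]
    intro P P' hP hP'
    obtain ⟨t, ht, htn, h1⟩ := key P hP
    obtain ⟨t', ht', htn', h2⟩ := key P' hP'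
    rw [h1, h2, hE S hS t t' ht ht' htn htn']
  obtain ⟨x₀, hx₀, hx₀W⟩ : ∃ x : L, x ≠ 0 ∧ x ∈ W₀.1 := by
    obtain ⟨v, w, h, rfl⟩ := exists_line2 W₀
    exact ⟨v, h.ne_zero 0, Submodule.subset_span (by simp)⟩
  set P₀ : Sub F L 1 := pt x₀ hx₀ with hP₀def
  have hP₀ : P₀.1 ≤ W₀.1 := (pt_le_iff hx₀ _).mpr hx₀W
  have hsum : (Nat.card F + 1) * A P₀ = Nat.card Lˣ * e W₁ := by
    have h1 : ∑ a : Lˣ, e ((mulE a : L ≃ₗ[F] L) • W₀) = ∑ P ∈ Finset.univ.filter (fun P : Sub F L 1 => P.1 ≤ W₀.1), A P := by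
      have h2 : ∀ a : Lˣ, e ((mulE a : L ≃ₗ[F] L) • W₀) = ∑ P ∈ Finset.univ.filter (fun P : Sub F L 1 => P.1 ≤ W₀.1),
          if ψ ((mulE a : L ≃ₗ[F] L) • P) ((mulE a : L ≃ₗ[F] L) • W₀) then 1 else 0 := by
        intro a
        rw [Finset.sum_boole, Finset.filter_filter, ← Fintype.card_subtype, ← Nat.card_eq_fintype_card, Nat.cast_id]
        refine (Nat.card_congr (Equiv.subtypeEquiv (MulAction.toPerm (mulE a : L ≃ₗ[F] L)) fun P => ?_)).symm
        rw [MulAction.toPerm_apply]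
        exact and_congr_left' (Submodule.map_le_map_iff_of_injective (mulE a : L ≃ₗ[F] L).injective _ _).symm
      rw [Finset.sum_congr rfl fun a _ => h2 a, Finset.sum_comm]
      refine Finset.sum_congr rfl fun P _ => ?_
      rw [Finset.sum_boole, ← Fintype.card_subtype, ← Nat.card_eq_fintype_card, Nat.cast_id]
    rw [Finset.sum_congr rfl fun a _ => hec _, Finset.sum_const, smul_eq_mul, Finset.card_univ,
      Finset.sum_congr rfl fun P hP => hA P P₀ (Finset.mem_filter.mp hP).2 hP₀, Finset.sum_const, smul_eq_mul,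
      ← Fintype.card_subtype, ← Nat.card_eq_fintype_card, ← Nat.card_eq_fintype_card, card_on_line] at h1
    exact h1.symm
  obtain ⟨k, hk, hkle⟩ := O.card_invariant
    (fun a => ψ ((mulE a : L ≃ₗ[F] L) • P₀) ((mulE a : L ≃ₗ[F] L) • W₀))
    (fun u hu a h => by
      rw [map_mul, mul_smul, mul_smul]
      exact hinv _ (O.mul _ (mem_normOne.mp hu)) _ _ h)
    (fun c hc a h => by
      rw [map_mul, mul_smul, mul_smul, smul_scalar hc, smul_scalar hc]
      exact h)
  have hq2 : 2 ≤ Nat.card F := Finite.one_lt_card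
  obtain ⟨d, hd, hcard⟩ := O.exists_classes
  have hT : 0 < Nat.card O.tor := Nat.card_pos
  have hF : 0 < Nat.card Fˣ := Nat.card_pos
  have hkd : k ≤ d := by
    rw [hcard, mul_comm d] at hkle
    exact Nat.le_of_mul_le_mul_left hkle hT
  rw [show A P₀ = _ from hk, card_units_pts (F := F) (L := L), hcard] at hsum
  have h2 : (Nat.card F + 1) * k = d * e W₁ := by
    refine Nat.eq_of_mul_eq_mul_left (Nat.mul_pos hT hF) ?_
    calc _ = (Nat.card F + 1) * (Nat.card O.tor * Nat.card Fˣ * k) := by ring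
      _ = _ := hsum
      _ = _ := by ring
  have hk1 : 1 ≤ k := Nat.one_le_iff_ne_zero.mpr fun h => by
    rw [h, mul_zero] at h2
    rcases hd with rfl | ⟨rfl, -⟩
    · omega
    · have := Nat.mul_pos O.prime.pos he1
      omega
  have hkeq : k = d := by
    rcases hd with rfl | ⟨rfl, h5⟩
    · omega
    · obtain ⟨s, hs⟩ := h5
      have hQ : Nat.card F = 𝕟 * s + 1 := by omega
      rw [hQ] at h2
      have h3 : 𝕟 ∣ 2 * k := ⟨e W₁ - s * k, by
        rw [Nat.mul_sub]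
        refine (Nat.sub_eq_of_eq_add ?_).symm
        rw [← h2]; ring⟩
      have h4 := (O.prime.dvd_mul.mp h3).resolve_left fun h => by
        have := Nat.le_of_dvd (by norm_num) h; have := O.seven; omega
      exact le_antisymm hkd (Nat.le_of_dvd hk1 h4)
  have hefull : e W₁ = Nat.card F + 1 := by
    rw [hkeq, mul_comm] at h2
    rcases hd with rfl | ⟨rfl, -⟩
    · omega
    · exact (Nat.eq_of_mul_eq_mul_left O.prime.pos h2).symm
  intro P W hPW
  by_contra hψ
  have hlt : e W < Nat.card F + 1 := by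
    rw [← card_on_line W]
    show Nat.card {P : Sub F L 1 // P.1 ≤ W.1 ∧ ψ P W} < _
    rw [← Nat.card_congr (Equiv.subtypeSubtypeEquivSubtypeInter (fun P : Sub F L 1 => P.1 ≤ W.1) (fun P => ψ P W))]
    exact Finite.card_subtype_lt (x := ⟨P, hPW⟩) hψ
  rw [hec, hefull] at hlt
  exact lt_irrefl _ hlt

end CfsgLib.SingerPrime.Singer
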