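/-
Translation pairs in an invariant relation of a semiregular torus are close to the valency.
-/
import Cfsg.Agent.Lib.SingerFive.CharKill
import Cfsg.Agent.Lib.CharTheory.Linear

set_option autoImplicit false
set_option linter.unusedSectionVars false
set_option linter.style.haveILetI false
set_option maxHeartbeats 1000000

namespace CfsgLib.SingerPrime.Singer

open Cfsg CfsgLib.CharTheory CfsgLib.SingerFive
open scoped ComplexConjugate

universe u v

variable {G : Type u} [Group G] [Fintype G]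

/-- The convolution of an irreducible character with itself. -/
theorem conv_irr {χ : G → ℂ} (hχ : IsIrrCharacter G χ) (b : G) :
    (∑ g : G, conj (χ g) * χ (g * b)) * χ 1 = (Fintype.card G : ℂ) * χ b := by
  obtain ⟨n, ρ, hi, rfl⟩ := hχ
  haveI := hi
  have hf := isClassFunction_char (isCharacter_character ρ)
  set T : Module.End ℂ (Fin n → ℂ) := ∑ g : G, conj (ρ.character g) • ρ g with hTdef
  have hT : ∀ k : G, T ∘ₗ ρ k = ρ k ∘ₗ T := by
    intro k
    rw [← Module.End.mul_eq_comp, ← Module.End.mul_eq_comp, hTdef, Finset.mul_sum, Finset.sum_mul]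
    refine Fintype.sum_equiv (MulAut.conj k⁻¹).toEquiv _ _ fun g => ?_
    have : ρ.character ((MulAut.conj k⁻¹) g) = ρ.character g := hf g k⁻¹
    simp only [MulEquiv.toEquiv_eq_coe, EquivLike.coe_coe, this, smul_mul_assoc, mul_smul_comm, ← map_mul]
    simp [MulAut.conj_apply, mul_assoc]
  obtain ⟨c, hc⟩ :=
    (Representation.IsIrreducible.algebraMap_intertwiningMap_bijective_of_isAlgClosed (ρ := ρ)).2 ⟨T, hT⟩
  have hc' : T = c • LinearMap.id := by
    show (⟨T, hT⟩ : Representation.IntertwiningMap ρ ρ).toLinearMap = _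
    rw [← hc]; rfl
  have h1 : c * ρ.character 1 = (Fintype.card G : ℂ) := by
    have h2 := congrArg (LinearMap.trace ℂ (Fin n → ℂ)) hc'
    simp only [hTdef, map_sum, map_smul, LinearMap.trace_id, smul_eq_mul] at h2
    rw [ρ.char_one, ← h2]
    have h3 := classInner_irr_self (isIrrCharacter_character ρ)
    rw [classInner, inv_mul_eq_one₀ (Nat.cast_ne_zero.mpr Nat.card_pos.ne'), Nat.card_eq_fintype_card] at h3
    rw [h3]
    exact Finset.sum_congr rfl fun g _ => mul_comm _ _
  have h2 : ∑ g : G, conj (ρ.character g) * ρ.character (g * b) = c * ρ.character b := by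
    have h3 := congrArg (fun f : Module.End ℂ (Fin n → ℂ) => LinearMap.trace ℂ _ (f * ρ b)) hc'
    simp only [hTdef, Finset.sum_mul, smul_mul_assoc, ← map_mul, map_sum, map_smul, smul_eq_mul,
      ← Module.End.one_eq_id, one_mul] at h3
    exact h3
  rw [h2, ← h1]
  ring

variable {Ω : Type v} [Fintype Ω] [MulAction G Ω]

open Classical in
theorem inner_perm_eq (u₀ : Ω) (htr : ∀ u, ∃ g : G, g • u₀ = u) {χ : G → ℂ} (hχ : IsIrrCharacter G χ) {m : ℕ}
    (hm : classInner (fun g : G => (Nat.card (MulAction.fixedBy Ω g) : ℂ)) χ = m) :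
    ∑ b : MulAction.stabilizer G u₀, χ b = (Nat.card (MulAction.stabilizer G u₀) : ℂ) * m := by
  classical
  have hcf := isClassFunction_char (isCharacter_of_irr hχ)
  have h1 : ∀ g : G, (Nat.card (MulAction.fixedBy Ω g) : ℂ) * conj (χ g) =
      ∑ u : Ω, if g • u = u then conj (χ g) else 0 := fun g => by
    rw [← Finset.sum_filter, Finset.sum_const, nsmul_eq_mul]
    congr 1
    simp only [Nat.card_eq_fintype_card, ← Fintype.card_subtype]
    exact congrArg Nat.cast (Fintype.card_congr (Equiv.setCongr rfl))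
  have h2 : ∀ u : Ω, (∑ g : G, if g • u = u then conj (χ g) else 0) = ∑ b : MulAction.stabilizer G u₀, conj (χ b) := by
    intro u
    obtain ⟨k, rfl⟩ := htr u
    have h3 : ∑ b : MulAction.stabilizer G u₀, conj (χ b) = ∑ g : G, if g • u₀ = u₀ then conj (χ g) else 0 := by
      rw [← Finset.sum_filter, Finset.sum_subtype (p := fun g : G => g • u₀ = u₀) _ (fun g => by simp)]
      rfl
    rw [h3, ← Equiv.sum_comp (MulAut.conj k).toEquiv]
    refine Finset.sum_congr rfl fun g _ => ?_
    have h4 : χ (k * g * k⁻¹) = χ g := hcf g k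
    simp only [MulEquiv.toEquiv_eq_coe, EquivLike.coe_coe, MulAut.conj_apply, h4]
    refine if_congr ?_ rfl rfl
    rw [mul_smul, mul_smul, inv_smul_smul, smul_left_cancel_iff]
  rw [classInner, Finset.sum_congr rfl fun g _ => h1 g, Finset.sum_comm, Finset.sum_congr rfl fun u _ => h2 u,
    Finset.sum_const, nsmul_eq_mul, Finset.card_univ] at hm
  have horb : (MulAction.orbit G u₀) = Set.univ := Set.eq_univ_of_forall fun u => htr u
  have hG : Nat.card G = Fintype.card Ω * Nat.card (MulAction.stabilizer G u₀) := by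
    rw [← (MulAction.stabilizer G u₀).card_mul_index, MulAction.index_stabilizer, horb, Set.ncard_univ,
      Nat.card_eq_fintype_card (α := Ω), mul_comm]
  rw [hG, Nat.cast_mul] at hm
  have hP : (Fintype.card Ω : ℂ) ≠ 0 := Nat.cast_ne_zero.mpr (Fintype.card_pos_iff.mpr ⟨u₀⟩).ne'
  have hB : (Nat.card (MulAction.stabilizer G u₀) : ℂ) ≠ 0 := Nat.cast_ne_zero.mpr Nat.card_pos.ne'
  have h5 : ∑ b : MulAction.stabilizer G u₀, conj (χ b) = (Nat.card (MulAction.stabilizer G u₀) : ℂ) * m := by
    rw [← hm]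
    field_simp
  have h6 := congrArg conj h5
  rw [map_sum, map_mul, map_natCast, map_natCast] at h6
  simpa using h6

/-- The inner product of an invariant relation with a character is small. -/
theorem inner_rel_bound (u₀ : Ω) (htr : ∀ u, ∃ g : G, g • u₀ = u) (S : Ω → Ω → Prop)
    (hS : ∀ (g : G) (u v : Ω), S (g • u) (g • v) ↔ S u v) {χ : G → ℂ} (hχ : IsIrrCharacter G χ) {m d : ℕ}
    (hd : χ 1 = d) (hm : classInner (fun g : G => (Nat.card (MulAction.fixedBy Ω g) : ℂ)) χ = m) :
    ‖classInner (fun g : G => (Nat.card {u : Ω // S u (g • u)} : ℂ)) χ‖ ^ 2 * d ≤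
      (Nat.card {v : Ω // S u₀ v} : ℝ) * Fintype.card Ω * m := by
  classical
  have hcf := isClassFunction_char (isCharacter_of_irr hχ)
  set B := MulAction.stabilizer G u₀ with hB
  set f : G → ℝ := fun g => if S u₀ (g • u₀) then 1 else 0 with hf
  set ψ : G → ℂ := fun g => ∑ b : B, conj (χ (g * b)) with hψ
  set s := Nat.card {v : Ω // S u₀ v} with hs
  -- one point suffices
  have hH : ∀ g : G, (Nat.card {u : Ω // S u (g • u)} : ℂ) * conj (χ g) =
      ∑ u : Ω, if S u (g • u) then conj (χ g) else 0 := fun g => by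
    rw [← Finset.sum_filter, Finset.sum_const, nsmul_eq_mul]
    congr 1
    simp only [Nat.card_eq_fintype_card, ← Fintype.card_subtype]
  have h2 : ∀ u : Ω, (∑ g : G, if S u (g • u) then conj (χ g) else 0) = ∑ g : G, (f g : ℂ) * conj (χ g) := by
    intro u
    obtain ⟨k, rfl⟩ := htr u
    rw [← Equiv.sum_comp (MulAut.conj k).toEquiv]
    refine Finset.sum_congr rfl fun g _ => ?_
    have h4 : χ (k * g * k⁻¹) = χ g := hcf g k
    simp only [MulEquiv.toEquiv_eq_coe, EquivLike.coe_coe, MulAut.conj_apply, h4, mul_smul, inv_smul_smul, hS, hf]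
    split_ifs <;> simp
  have hfr : ∀ (g : G) (b : B), f (g * b) = f g := fun g b => by
    simp only [hf, mul_smul, show (b : G) • u₀ = u₀ from b.2]
  -- averaging over the stabiliser
  have hsum : ∑ g : G, (f g : ℂ) * ψ g = (Nat.card B : ℂ) * ∑ g : G, (f g : ℂ) * conj (χ g) := by
    simp only [hψ, Finset.mul_sum]
    rw [Finset.sum_comm, ← Finset.mul_sum, Nat.card_eq_fintype_card, ← nsmul_eq_mul, ← Finset.card_univ,
      ← Finset.sum_const]
    refine Finset.sum_congr rfl fun b _ => ?_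
    rw [← Equiv.sum_comp (Equiv.mulRight (b : G)) (fun g => (f g : ℂ) * conj (χ g))]
    exact Finset.sum_congr rfl fun g _ => by simp [hfr g b]
  have hfib : ∀ v : Ω, (Finset.univ.filter fun g : G => g • u₀ = v).card = Nat.card B := by
    intro v
    obtain ⟨k, rfl⟩ := htr v
    rw [← Fintype.card_subtype, ← Nat.card_eq_fintype_card]
    refine Nat.card_congr (Equiv.subtypeEquiv (Equiv.mulLeft k⁻¹) fun g => ?_)
    rw [hB, MulAction.mem_stabilizer_iff, Equiv.coe_mulLeft, mul_smul, inv_smul_eq_iff]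
  have hfsum : ∑ g : G, f g ^ 2 = (s : ℝ) * Nat.card B := by
    have h : ∑ g : G, f g ^ 2 = ∑ g : G, f g := Finset.sum_congr rfl fun g _ => by simp only [hf]; split_ifs <;> simp
    rw [h, ← Finset.sum_fiberwise Finset.univ (fun g : G => g • u₀) f]
    have h' : ∀ v : Ω, (∑ g ∈ Finset.univ.filter (fun g : G => g • u₀ = v), f g) =
        if S u₀ v then (Nat.card B : ℝ) else 0 := fun v => by
      rw [Finset.sum_congr rfl fun g hg => show f g = if S u₀ v then 1 else 0 by
        simp only [hf, (Finset.mem_filter.mp hg).2], Finset.sum_const, hfib]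
      split_ifs <;> simp
    rw [Finset.sum_congr rfl fun v _ => h' v, ← Finset.sum_filter, Finset.sum_const, nsmul_eq_mul, hs,
      Nat.card_eq_fintype_card (α := {v : Ω // S u₀ v}), Fintype.card_subtype]
  have hψsum : (∑ g : G, ‖ψ g‖ ^ 2) * d = (Nat.card B : ℝ) ^ 2 * Fintype.card G * m := by
    have h3 : ∀ g, ((‖ψ g‖ ^ 2 : ℝ) : ℂ) = ∑ b : B, ∑ b' : B, conj (χ (g * b)) * χ (g * b') := by
      intro g
      rw [Complex.ofReal_pow, ← Complex.mul_conj']
      simp only [hψ, map_sum, Complex.conj_conj, Finset.sum_mul, Finset.mul_sum]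
      exact Finset.sum_comm
    have h4 : ∀ b b' : B, (∑ g : G, conj (χ (g * b)) * χ (g * b')) * χ 1 =
        (Fintype.card G : ℂ) * χ ((b⁻¹ * b' : B) : G) := by
      intro b b'
      rw [← conv_irr hχ ((b⁻¹ * b' : B) : G)]
      congr 1
      rw [← Equiv.sum_comp (Equiv.mulRight (b : G)) (fun g => conj (χ g) * χ (g * ((b⁻¹ * b' : B) : G)))]
      refine Finset.sum_congr rfl fun g _ => ?_
      simp [mul_assoc]
    apply Complex.ofReal_injective
    rw [Complex.ofReal_mul, Complex.ofReal_natCast, ← hd, Complex.ofReal_sum,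
      Finset.sum_congr rfl fun g _ => h3 g, Finset.sum_comm, Finset.sum_mul]
    have h5 : ∀ b : B, (∑ g : G, ∑ b' : B, conj (χ (g * b)) * χ (g * b')) * χ 1 =
        (Fintype.card G : ℂ) * ((Nat.card B : ℂ) * m) := by
      intro b
      rw [Finset.sum_comm, Finset.sum_mul, Finset.sum_congr rfl fun b' _ => h4 b b', ← Finset.mul_sum,
        ← inner_perm_eq u₀ htr hχ hm]
      congr 1
      exact Equiv.sum_comp (Equiv.mulLeft b⁻¹) (fun x : B => χ x)
    rw [Finset.sum_congr rfl fun b _ => h5 b, Finset.sum_const, nsmul_eq_mul, Finset.card_univ,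
      ← Nat.card_eq_fintype_card]
    push_cast
    ring
  have hcs : ‖∑ g : G, (f g : ℂ) * ψ g‖ ^ 2 ≤ (∑ g : G, f g ^ 2) * ∑ g : G, ‖ψ g‖ ^ 2 := by
    refine le_trans (pow_le_pow_left₀ (norm_nonneg _) (norm_sum_le _ _) 2) ?_
    have h : ∀ g, ‖(f g : ℂ) * ψ g‖ = f g * ‖ψ g‖ := fun g => by
      rw [norm_mul, Complex.norm_real, Real.norm_eq_abs, abs_of_nonneg]
      simp only [hf]; split_ifs <;> simp
    rw [Finset.sum_congr rfl fun g _ => h g]
    exact Finset.sum_mul_sq_le_sq_mul_sq _ _ _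
  have horb : (MulAction.orbit G u₀) = Set.univ := Set.eq_univ_of_forall fun u => htr u
  have hG : (Fintype.card G : ℝ) = Fintype.card Ω * Nat.card B := by
    rw [← Nat.card_eq_fintype_card, ← B.card_mul_index, hB, MulAction.index_stabilizer, horb, Set.ncard_univ,
      Nat.card_eq_fintype_card (α := Ω)]
    push_cast
    ring
  have hBpos : (0 : ℝ) < Nat.card B := Nat.cast_pos.mpr Nat.card_pos
  have hPpos : (0 : ℝ) < Fintype.card Ω := Nat.cast_pos.mpr (Fintype.card_pos_iff.mpr ⟨u₀⟩)
  have hh : ‖classInner (fun g : G => (Nat.card {u : Ω // S u (g • u)} : ℂ)) χ‖ * Nat.card B * Nat.card B =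
      ‖∑ g : G, (f g : ℂ) * ψ g‖ := by
    rw [hsum, norm_mul, classInner, Finset.sum_congr rfl fun g _ => hH g, Finset.sum_comm,
      Finset.sum_congr rfl fun u _ => h2 u, Finset.sum_const, nsmul_eq_mul, Finset.card_univ, norm_mul, norm_mul,
      norm_inv, Complex.norm_natCast, Complex.norm_natCast, Complex.norm_natCast, Nat.card_eq_fintype_card (α := G), hG]
    field_simp
  rw [← hh, hfsum] at hcs
  refine le_of_mul_le_mul_right ?_ (show (0 : ℝ) < (Nat.card B : ℝ) ^ 4 by positivity)
  calc _ = (‖classInner (fun g : G => (Nat.card {u : Ω // S u (g • u)} : ℂ)) χ‖ * Nat.card B * Nat.card B) ^ 2 * d := by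
        ring
    _ ≤ (s : ℝ) * Nat.card B * (∑ g : G, ‖ψ g‖ ^ 2) * d := mul_le_mul_of_nonneg_right hcs (Nat.cast_nonneg d)
    _ = _ := by rw [mul_assoc, hψsum, hG]; ring

variable {T : Subgroup G} {w : G} {e : ℕ}

/-- In a transitive semiregular action of the torus, the translation pairs of an invariant relation are
close to its valency. -/
theorem trace_bound (D : CCData T w e) [Fintype T] (hsemi : ∀ t ∈ T, t ≠ (1 : G) → ∀ u : Ω, t • u ≠ u)
    (hns : ∀ (χ : G → ℂ) (l : Lam T), ¬ D.Small χ l)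
    (hbound : e * Fintype.card Ω + (Nat.card T - 1) * (e + 1) < (Nat.card T - 1) * Nat.card T)
    {c : ℕ} (hc : Fintype.card Ω = c * Nat.card T) (u₀ : Ω) (htr : ∀ u, ∃ g : G, g • u₀ = u)
    (hT : ∀ χ : G → ℂ, IsIrrCharacter G χ → χ ≠ (fun _ => 1) →
      classInner (fun g : G => (Nat.card (MulAction.fixedBy Ω g) : ℂ)) χ ≠ 0 → ∃ t ∈ T, χ t ≠ χ 1)
    (S : Ω → Ω → Prop) (hS : ∀ (g : G) (u v : Ω), S (g • u) (g • v) ↔ S u v) {t : G} (ht : t ∈ T) (ht1 : t ≠ 1) :
    ((Nat.card {u : Ω // S u (t • u)} : ℝ) - Nat.card {v : Ω // S u₀ v}) ^ 2 ≤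
      8 * (c : ℝ) ^ 3 * Nat.card {v : Ω // S u₀ v} := by
  classical
  let H : G → ℂ := fun g => (Nat.card {u : Ω // S u (g • u)} : ℂ)
  have hH : IsClassFunction G H := fun g k => by
    refine congrArg Nat.cast (Nat.card_congr (Equiv.subtypeEquiv (MulAction.toPerm k⁻¹) fun u => ?_))
    rw [MulAction.toPerm_apply, ← hS k⁻¹ u, smul_smul, smul_smul]
    simp [mul_assoc]
  let π : G → ℂ := fun g => (Nat.card (MulAction.fixedBy Ω g) : ℂ)
  have hπ : IsCharacter G π := by
    show IsCharacter G (fun g : G => (Nat.card (MulAction.fixedBy Ω g) : ℂ))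
    rw [← permRep_character]
    exact isCharacter_character _
  have hπ0 : ∀ s : T, s ≠ 1 → π s = 0 := fun s hs => by
    have : IsEmpty (MulAction.fixedBy Ω (s : G)) :=
      ⟨fun u => hsemi s s.2 (fun h => hs (Subtype.ext h)) u.1 u.2⟩
    show (Nat.card (MulAction.fixedBy Ω (s : G)) : ℂ) = 0
    rw [Nat.card_of_isEmpty, Nat.cast_zero]
  have hπone : π 1 = (Fintype.card Ω : ℂ) := by simp [π]
  choose a ha using fun ψ : IrrCharacter G => classInner_char_nat hπ (isCharacter_of_irr ψ.2)
  choose dg hdg using fun ψ : IrrCharacter G => char_one_eq_natCast (isCharacter_of_irr ψ.2)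
  set s := Nat.card {v : Ω // S u₀ v} with hsdef
  -- zero multiplicity
  have hzero : ∀ χ : IrrCharacter G, a χ = 0 → classInner H (χ : G → ℂ) = 0 := by
    intro χ h0
    have h1 := inner_rel_bound u₀ htr S hS χ.2 (hdg χ) (ha χ)
    rw [h0, Nat.cast_zero, mul_zero] at h1
    have hd : (0 : ℝ) < dg χ := by
      obtain ⟨d, hd, hd'⟩ := irr_degree_pos χ.2
      have : dg χ = d := by exact_mod_cast (hdg χ).symm.trans hd'
      rw [this]
      exact_mod_cast hd
    have h2 : ‖classInner H (χ : G → ℂ)‖ ^ 2 ≤ 0 := by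
      by_contra h3
      push Not at h3
      nlinarith [mul_pos h3 hd]
    exact norm_eq_zero.mp (pow_eq_zero_iff (two_ne_zero (α := ℕ)) |>.mp (le_antisymm h2 (sq_nonneg _)))
  -- constituents are balanced
  have key : ∀ χ : IrrCharacter G, a χ ≠ 0 → Balanced (T := T) (χ : G → ℂ) := by
    rintro ⟨χ, hχ⟩ hne
    by_contra hb
    obtain ⟨l, c', d, hl, hd, hs, hbig⟩ := D.trichotomy hχ hb
    rcases hbig with ⟨n, hn, hbig⟩ | hsm
    swap
    · exact hns χ l hsm
    have hπχ : classInner π χ ≠ 0 := by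
      rw [ha ⟨χ, hχ⟩]
      exact Nat.cast_ne_zero.mpr hne
    choose P hP using fun ν : {ν : Lam T // ν ≠ triv T} => D.exists_partner hχ hl hd hs ν.2
    let g : {ν : Lam T // ν ≠ triv T} → IrrCharacter G := fun ν => ⟨P ν, (hP ν).1⟩
    have hfib : ∀ ψ ∈ Finset.univ.image g, (Finset.univ.filter fun ν => g ν = ψ).card ≤ e := by
      intro ψ hψ
      obtain ⟨ν₀, -, rfl⟩ := Finset.mem_image.mp hψ
      rw [← D.card_rel ν₀.2]
      refine Finset.card_le_card_of_injOn Subtype.val (fun ν hν => ?_) Subtype.val_injective.injOn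
      simp only [Finset.coe_filter, Finset.mem_univ, true_and, Set.mem_ofPred_eq] at hν ⊢
      by_contra hr
      have e1 : P ν = P ν₀ := congrArg Subtype.val hν
      have h1 := ((hP ν).2.2.1 ν.1 ν.2).1 (D.rel_refl _)
      have h2 := ((hP ν₀).2.2.1 ν.1 ν.2).2 hr
      rw [e1] at h1
      omega
    obtain ⟨k, hk⟩ := classInner_char_nat hπ (isCharacter_of_irr hχ)
    have hk0 : 1 ≤ k := Nat.one_le_iff_ne_zero.mpr fun h0 => hπχ (by rw [hk, h0, Nat.cast_zero])
    have hπ1 : ∑ ψ : IrrCharacter G, a ψ * dg ψ = Fintype.card Ω := by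
      have h1 := congrFun (eq_sum_irr (isClassFunction_char hπ)) 1
      have h2 : π 1 = (Fintype.card Ω : ℂ) := by simp [π]
      simp only [Finset.sum_apply, Pi.smul_apply, smul_eq_mul, ha, hdg, h2] at h1
      exact_mod_cast h1.symm
    have h3 : (Finset.univ.image g).card * n ≤ Fintype.card Ω := by
      rw [← hπ1, ← smul_eq_mul, ← Finset.sum_const]
      refine le_trans (Finset.sum_le_sum fun ψ hψ => ?_)
        (Finset.sum_le_sum_of_subset (Finset.subset_univ (Finset.univ.image g)))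
      obtain ⟨ν, -, rfl⟩ := Finset.mem_image.mp hψ
      have h4 : a (g ν) = k := by
        have := ((hP ν).2.2.2.2 π (isClassFunction_char hπ) hπ0)
        rw [hk] at this
        exact_mod_cast (ha (g ν)).symm.trans this
      have h5 : dg (g ν) = n := by
        have := (hdg (g ν)).symm.trans ((hP ν).2.1.trans hn)
        exact_mod_cast this
      rw [h4, h5]
      exact Nat.le_mul_of_pos_left _ hk0
    have h6 := Finset.card_le_mul_card_image Finset.univ e hfib
    rw [Finset.card_univ, Fintype.card_subtype_compl, D.card_lam, Fintype.card_subtype_eq] at h6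
    obtain ⟨m, hm⟩ : ∃ m, Nat.card T = m + 1 := ⟨Nat.card T - 1, by have := D.e_lt; omega⟩
    rw [hm, Nat.add_sub_cancel] at h6 hbound
    nlinarith

  obtain ⟨l₀, hl₀, -⟩ := D.exists_lam (triv T)
  -- the multiplicities on the torus
  have hmu : ∀ η : Lam T, ∑ ψ : IrrCharacter G, a ψ * mu (ψ : G → ℂ) η = c := by
    intro η
    have h1 : classInner (fun x : T => π x) (η : T → ℂ) = (c : ℂ) := by
      rw [classInner, Finset.sum_eq_single (1 : T) (fun x _ hx => by rw [hπ0 x hx, zero_mul]) (fun h => absurd (Finset.mem_univ _) h),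
        OneMemClass.coe_one, hπone, D.lam_one, map_one, mul_one, hc, Nat.cast_mul, mul_comm (c : ℂ), ← mul_assoc,
        inv_mul_cancel₀ (Nat.cast_ne_zero.mpr Nat.card_pos.ne'), one_mul]
    have hexp : π = ∑ ψ : IrrCharacter G, (a ψ : ℂ) • (ψ : G → ℂ) := by
      conv_lhs => rw [eq_sum_irr (isClassFunction_char hπ)]
      exact Finset.sum_congr rfl fun ψ _ => by rw [ha]
    rw [show (fun x : T => π x) = ∑ ψ : IrrCharacter G, (a ψ : ℂ) • (fun x : T => (ψ : G → ℂ) x) by
      funext x; rw [hexp]; simp [Finset.sum_apply], classInner_sum_left] at h1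
    simp only [classInner_smul_left, ← mu_spec (isCharacter_of_irr (Subtype.prop _))] at h1
    exact_mod_cast h1
  -- one term
  set one : IrrCharacter G := ⟨fun _ => 1, isIrrCharacter_one⟩ with hone
  have h1val : classInner H (one : G → ℂ) = (s : ℂ) := by
    have hcls : ∀ u : Ω, Nat.card {g : G // S u (g • u)} = s * Nat.card (MulAction.stabilizer G u₀) := by
      intro u
      obtain ⟨k, rfl⟩ := htr u
      have e1 : Nat.card {g : G // S (k • u₀) (g • k • u₀)} = Nat.card {g : G // S u₀ (g • u₀)} := by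
        refine Nat.card_congr (Equiv.subtypeEquiv (MulAut.conj k⁻¹).toEquiv fun g => ?_)
        simp only [MulEquiv.toEquiv_eq_coe, EquivLike.coe_coe, MulAut.conj_apply, inv_inv, mul_smul]
        rw [← hS k⁻¹, inv_smul_smul]
      rw [e1, hsdef, Nat.card_eq_fintype_card (α := {g : G // S u₀ (g • u₀)}), Fintype.card_subtype,
        Finset.card_eq_sum_card_fiberwise (f := fun g : G => g • u₀) (t := Finset.univ.filter fun v => S u₀ v)
          (fun g hg => by simpa using hg), Nat.card_eq_fintype_card (α := {v : Ω // S u₀ v}), Fintype.card_subtype,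
        ← smul_eq_mul, ← Finset.sum_const]
      refine Finset.sum_congr rfl fun v hv => ?_
      obtain ⟨m, rfl⟩ := htr v
      rw [Finset.filter_filter, ← Fintype.card_subtype, ← Nat.card_eq_fintype_card]
      refine Nat.card_congr (Equiv.subtypeEquiv (Equiv.mulLeft m⁻¹) fun g => ?_)
      rw [MulAction.mem_stabilizer_iff, Equiv.coe_mulLeft, mul_smul, inv_smul_eq_iff]
      exact ⟨fun h => h.2, fun h => ⟨by rw [h]; exact (Finset.mem_filter.mp hv).2, h⟩⟩
    have horb : (MulAction.orbit G u₀) = Set.univ := Set.eq_univ_of_forall fun u => htr u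
    have hG : Nat.card G = Fintype.card Ω * Nat.card (MulAction.stabilizer G u₀) := by
      rw [← (MulAction.stabilizer G u₀).card_mul_index, MulAction.index_stabilizer, horb, Set.ncard_univ,
        Nat.card_eq_fintype_card (α := Ω), mul_comm]
    have hcount : ∑ g : G, Nat.card {u : Ω // S u (g • u)} = Fintype.card Ω * (s * Nat.card (MulAction.stabilizer G u₀)) := by
      rw [← Finset.card_univ (α := Ω), ← smul_eq_mul, ← Finset.sum_const, ← Finset.sum_congr rfl fun u _ => hcls u]
      simp only [Nat.card_eq_fintype_card, Fintype.card_subtype, Finset.card_filter]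
      exact Finset.sum_comm
    show classInner H (fun _ => 1) = _
    simp only [classInner, H, map_one, mul_one]
    rw [← Nat.cast_sum, hcount, hG]
    have hP : (Fintype.card Ω : ℂ) ≠ 0 := Nat.cast_ne_zero.mpr (Fintype.card_pos_iff.mpr ⟨u₀⟩).ne'
    have hB : (Nat.card (MulAction.stabilizer G u₀) : ℂ) ≠ 0 := Nat.cast_ne_zero.mpr Nat.card_pos.ne'
    push_cast
    field_simp
  set t' : T := ⟨t, ht⟩ with ht'
  have ht'1 : t' ≠ 1 := fun h => ht1 (congrArg Subtype.val h)
  have hterm : ∀ χ : IrrCharacter G, χ ≠ one →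
      ‖classInner H (χ : G → ℂ) * (χ : G → ℂ) t'‖ ≤
        Real.sqrt (2 * c * s) * (a χ * mu (χ : G → ℂ) (triv T) + a χ * mu (χ : G → ℂ) l₀ : ℕ) := by
    intro χ hne
    by_cases h0 : a χ = 0
    · rw [hzero χ h0, zero_mul, norm_zero]
      positivity
    have hχc := isCharacter_of_irr χ.2
    have hb := key χ h0
    have hval : (χ : G → ℂ) t' = (mu (χ : G → ℂ) (triv T) : ℂ) - mu (χ : G → ℂ) l₀ :=
      D.balanced_apply hχc hb hl₀ ht'1
    have hμ : 1 ≤ mu (χ : G → ℂ) l₀ := Nat.one_le_iff_ne_zero.mpr fun hz => by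
      obtain ⟨x, hx, hxne⟩ := hT χ χ.2 (fun h => hne (Subtype.ext h)) (by
        show classInner π χ.1 ≠ 0
        rw [ha χ]; exact Nat.cast_ne_zero.mpr h0)
      refine hxne ?_
      show (χ : G → ℂ) ((⟨x, hx⟩ : T) : G) = _
      rw [D.mu_apply hχc, D.deg_eq hχc]
      refine Finset.sum_congr rfl fun k _ => ?_
      by_cases hk : k = triv T
      · subst hk; simp [triv]
      · simp [(hb k l₀ hk hl₀).trans hz]
    have hdeg : Nat.card T ≤ dg χ + 1 := by
      have h3 := D.deg_eq hχc
      rw [hdg] at h3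
      have h4 : dg χ = ∑ k : Lam T, mu (χ : G → ℂ) k := by exact_mod_cast h3
      have h5 : ∑ k ∈ Finset.univ.erase (triv T), 1 ≤ ∑ k ∈ Finset.univ.erase (triv T), mu (χ : G → ℂ) k :=
        Finset.sum_le_sum fun k hk => (hb k l₀ (Finset.mem_erase.mp hk).1 hl₀).symm ▸ hμ
      have h6 : ∑ k ∈ Finset.univ.erase (triv T), mu (χ : G → ℂ) k ≤ ∑ k : Lam T, mu (χ : G → ℂ) k :=
        Finset.sum_le_sum_of_subset (Finset.subset_univ _)
      rw [Finset.sum_const, smul_eq_mul, mul_one, Finset.card_erase_of_mem (Finset.mem_univ _),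
        Finset.card_univ, D.card_lam] at h5
      omega
    have hdR : (Nat.card T : ℝ) ≤ 2 * dg χ := by
      have h2 := D.e_lt
      exact_mod_cast (show Nat.card T ≤ 2 * dg χ by omega)
    have hnorm : ‖classInner H (χ : G → ℂ)‖ ≤ Real.sqrt (2 * c * s) * a χ := by
      have h1 := inner_rel_bound u₀ htr S hS χ.2 (hdg χ) (ha χ)
      have hd : (0 : ℝ) < dg χ := by
        have h2 := D.e_lt
        exact_mod_cast (show 0 < dg χ by omega)
      have h2 : ‖classInner H (χ : G → ℂ)‖ ^ 2 ≤ 2 * c * s * (a χ : ℝ) ^ 2 := by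
        refine le_of_mul_le_mul_right (h1.trans ?_) hd
        rw [← hsdef, hc, Nat.cast_mul]
        have e1 : (a χ : ℝ) ≤ (a χ : ℝ) ^ 2 := by exact_mod_cast Nat.le_self_pow two_ne_zero (a χ)
        calc (s : ℝ) * (c * Nat.card T) * a χ = (s * c : ℝ) * Nat.card T * a χ := by ring
          _ ≤ (s * c : ℝ) * (2 * dg χ) * (a χ : ℝ) ^ 2 :=
            mul_le_mul (mul_le_mul_of_nonneg_left hdR (by positivity)) e1 (Nat.cast_nonneg _) (by positivity)
          _ = _ := by ring
      refine le_trans (le_of_eq (Real.sqrt_sq (norm_nonneg _)).symm) ((Real.sqrt_le_sqrt h2).trans (le_of_eq ?_))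
      rw [Real.sqrt_mul (by positivity), Real.sqrt_sq (Nat.cast_nonneg _)]
    rw [norm_mul, hval]
    have h3 : ‖(mu (χ : G → ℂ) (triv T) : ℂ) - mu (χ : G → ℂ) l₀‖ ≤
        (mu (χ : G → ℂ) (triv T) : ℝ) + mu (χ : G → ℂ) l₀ :=
      (norm_sub_le _ _).trans (le_of_eq (by rw [Complex.norm_natCast, Complex.norm_natCast]))
    calc _ ≤ Real.sqrt (2 * c * s) * a χ * ((mu (χ : G → ℂ) (triv T) : ℝ) + mu (χ : G → ℂ) l₀) :=
          mul_le_mul hnorm h3 (norm_nonneg _) (by positivity)
      _ = _ := by push_cast; ring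
  have hHt : H t - (s : ℂ) = ∑ χ ∈ Finset.univ.erase one, classInner H (χ : G → ℂ) * (χ : G → ℂ) t' := by
    have he := congrFun (eq_sum_irr hH) t
    rw [he, Finset.sum_apply, ← Finset.add_sum_erase _ _ (Finset.mem_univ one)]
    simp only [Pi.smul_apply, smul_eq_mul]
    rw [h1val]
    simp [hone, ht']
  have hle : ‖H t - (s : ℂ)‖ ≤ Real.sqrt (2 * c * s) * (2 * c : ℕ) := by
    rw [hHt]
    refine (norm_sum_le _ _).trans ((Finset.sum_le_sum fun χ hχ => hterm χ (Finset.mem_erase.mp hχ).1).trans ?_)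
    rw [← Finset.mul_sum, ← Nat.cast_sum]
    refine mul_le_mul_of_nonneg_left (Nat.cast_le.mpr ?_) (Real.sqrt_nonneg _)
    refine (Finset.sum_le_sum_of_subset (Finset.subset_univ _)).trans (le_of_eq ?_)
    rw [Finset.sum_add_distrib, hmu, hmu, two_mul]
  have hcast : ‖H t - (s : ℂ)‖ = |(Nat.card {u : Ω // S u (t • u)} : ℝ) - s| := by
    rw [← Real.norm_eq_abs, ← Complex.norm_real]
    congr 1
    simp [H]
  rw [hcast] at hle
  rw [← sq_abs]
  refine (pow_le_pow_left₀ (abs_nonneg _) hle 2).trans (le_of_eq ?_)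
  rw [mul_pow, Real.sq_sqrt (by positivity)]
  push_cast
  ring

end CfsgLib.SingerPrime.Singer
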