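/-
Flag transitivity from the trace bound.
-/
import Cfsg.Agent.Lib.SingerPrime.OverFlags
import Cfsg.Agent.Lib.SingerPrime.OverTrace
import Cfsg.Agent.Lib.SingerFive.Hyper

set_option autoImplicit false
set_option linter.unusedSectionVars false
set_option linter.style.haveILetI false
set_option maxHeartbeats 1000000

namespace CfsgLib.SingerPrime.Singer

open Module Cfsg CfsgLib.CharTheory
open CfsgLib.SingerFive

universe u v

variable {F : Type u} {L : Type v} [Field F] [Field L] [Algebra F L] [Finite L] {M : Subgroup (L ≃ₗ[F] L)}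

set_option quotPrecheck false in
local notation "𝕟" => Module.finrank F L

/-- Pairs of a relation are counted on lines. -/
theorem card_pairs_lines [Fintype (Sub F L 2)] (R : Sub F L 1 → Sub F L 1 → Prop) (φ : Sub F L 1 → Sub F L 2 → Prop) :
    Nat.card {x : Sub F L 1 × Sub F L 1 // x.1 ≠ x.2 ∧ R x.1 x.2 ∧ ∃ U : Sub F L 2, x.1.1 ≤ U.1 ∧ x.2.1 ≤ U.1 ∧ φ x.1 U} =
      ∑ W : Sub F L 2, Nat.card {x : Sub F L 1 × Sub F L 1 //
        x.1.1 ≤ W.1 ∧ x.2.1 ≤ W.1 ∧ x.1 ≠ x.2 ∧ R x.1 x.2 ∧ φ x.1 W} := by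
  rw [← Nat.card_sigma]
  refine (Nat.card_eq_of_bijective
    (fun y => ⟨y.2.1, y.2.2.2.2.1, y.2.2.2.2.2.1, y.1, y.2.2.1, y.2.2.2.1, y.2.2.2.2.2.2⟩) ⟨?_, ?_⟩).symm
  · rintro ⟨W, x, hW1, hW2, hne, hR, hφ⟩ ⟨W', x', hW1', hW2', hne', hR', hφ'⟩ h
    have hx : x = x' := congrArg Subtype.val h
    subst hx
    obtain rfl := (existsUnique_line x.1 x.2 hne).unique ⟨hW1, hW2⟩ ⟨hW1', hW2'⟩
    rfl
  · rintro ⟨x, hne, hR, U, h1, h2, hφ⟩
    exact ⟨⟨U, x, h1, h2, hne, hR, hφ⟩, rfl⟩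

/-- Pairs counted by their first point. -/
theorem card_pairs_points [Fintype (Sub F L 1)] (R : Sub F L 1 → Sub F L 1 → Prop) :
    Nat.card {x : Sub F L 1 × Sub F L 1 // R x.1 x.2} = ∑ P, Nat.card {Q // R P Q} := by
  rw [← Nat.card_sigma]
  exact Nat.card_congr
    { toFun := fun x => ⟨x.1.1, x.1.2, x.2⟩
      invFun := fun y => ⟨(y.1, y.2.1), y.2.2⟩
      left_inv := fun _ => rfl
      right_inv := fun _ => rfl }

theorem half_big (h7 : 7 ≤ 𝕟) (hodd : Odd 𝕟) : Nat.card F ^ (𝕟 - 3) ≤ half F L := by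
  obtain ⟨m, hm⟩ := hodd
  rw [half, show 𝕟 - 3 = 2 * ((𝕟 - 1) / 2 - 1) by omega]
  exact Finset.single_le_sum (f := fun i => Nat.card F ^ (2 * i)) (fun _ _ => Nat.zero_le _)
    (a := (𝕟 - 1) / 2 - 1) (Finset.mem_range.mpr (show (𝕟 - 1) / 2 - 1 < (𝕟 - 1) / 2 by omega))

/-- An invariant set of the torus is a multiple of it. -/
theorem Over.tor_dvd_inv (O : Over M) (q : Sub F L 1 → Prop)
    (hq : ∀ t ∈ O.tor, ∀ P, q P → q (t • P)) : Nat.card O.tor ∣ Nat.card {P : Sub F L 1 // q P} := by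
  letI : MulAction O.tor {P : Sub F L 1 // q P} :=
    { smul := fun t P => ⟨(t : (onPts M).range) • P.1, hq t t.2 P.1 P.2⟩
      one_smul := fun P => Subtype.ext (one_smul _ P.1)
      mul_smul := fun s t P => Subtype.ext (mul_smul (s : (onPts M).range) t P.1) }
  have hst : ∀ P : {P : Sub F L 1 // q P}, MulAction.stabilizer O.tor P = ⊥ := fun P => by
    rw [eq_bot_iff]
    intro t ht
    by_contra hne
    exact O.semiregular t t.2 (fun h => hne (Subgroup.mem_bot.mpr (Subtype.ext h))) P.1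
      (congrArg Subtype.val (MulAction.mem_stabilizer_iff.mp ht))
  rw [Nat.card_congr (MulAction.selfEquivOrbitsQuotientProd hst), Nat.card_prod]
  exact dvd_mul_left _ _

/-- A normal subgroup containing the torus is transitive. -/
theorem Over.normal_transitive {O : Over M} (hE : Equidistributed O) (hd : 𝕟 ∣ Nat.card F - 1)
    (hcard : Nat.card (Sub F L 1) = 𝕟 * Nat.card O.tor) {N : Subgroup (onPts M).range} (hN : N.Normal)
    (hTN : O.tor ≤ N) (P Q : Sub F L 1) : ∃ x ∈ N, x • P = Q := by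
  classical
  haveI := finite_base F L
  haveI : Fintype (Sub F L 2) := Fintype.ofFinite _
  haveI : Fintype (Sub F L 1) := Fintype.ofFinite _
  let R : Sub F L 1 → Sub F L 1 → Prop := fun A B => ∃ x ∈ N, x • A = B
  have hR : ∀ g ∈ M, ∀ A B, R A B → R (g • A) (g • B) := by
    rintro g hg A B ⟨x, hx, rfl⟩
    refine ⟨(onPts M).rangeRestrict ⟨g, hg⟩ * x * ((onPts M).rangeRestrict ⟨g, hg⟩)⁻¹, hN.conj_mem x hx _, ?_⟩
    show _ • ((onPts M).rangeRestrict ⟨g, hg⟩ • A) = (onPts M).rangeRestrict ⟨g, hg⟩ • (x • A)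
    rw [mul_smul, mul_smul, inv_smul_smul]
  let f : Sub F L 2 → ℕ := fun W => Nat.card {x : Sub F L 1 × Sub F L 1 //
    x.1.1 ≤ W.1 ∧ x.2.1 ≤ W.1 ∧ x.1 ≠ x.2 ∧ R x.1 x.2 ∧ True}
  have hf : ∀ g ∈ M, ∀ W, f (g • W) = f W := fun g hg W => by
    refine (Nat.card_congr (Equiv.subtypeEquiv ((MulAction.toPerm g).prodCongr (MulAction.toPerm g)) fun x => ?_)).symm
    simp only [Equiv.prodCongr_apply, Prod.map_fst, Prod.map_snd, MulAction.toPerm_apply]
    refine ⟨fun h => ⟨Submodule.map_mono h.1, Submodule.map_mono h.2.1, fun he => h.2.2.1 (MulAction.injective g he),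
      hR g hg _ _ h.2.2.2.1, trivial⟩, fun h => ⟨(Submodule.map_le_map_iff_of_injective (LinearEquiv.injective g) _ _).mp h.1,
      (Submodule.map_le_map_iff_of_injective (LinearEquiv.injective g) _ _).mp h.2.1, fun he => h.2.2.1 (by rw [he]), ?_, trivial⟩⟩
    simpa using hR g⁻¹ (inv_mem hg) _ _ h.2.2.2.1
  obtain ⟨W₀⟩ : Nonempty (Sub F L 2) := by
    obtain ⟨U, -, -⟩ := existsUnique_line P (exists_point_ne O.prime.two_le P).choose
      (exists_point_ne O.prime.two_le P).choose_spec.symm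
    exact ⟨U⟩
  have hfc : ∀ W, f W = f W₀ := O.lines_transitive hE (fun W => f W = f W₀) (fun g hg W h => (hf g hg W).trans h) rfl
  let r : Sub F L 1 → ℕ := fun A => Nat.card {B // R A B}
  have hr : ∀ A, r A = r P := by
    refine O.pts_transitive hE (fun A => r A = r P) (fun g hg A h => Eq.trans ?_ h) (P₀ := P) rfl
    refine (Nat.card_congr (Equiv.subtypeEquiv (MulAction.toPerm g) fun B => ⟨hR g hg A B, fun hB => ?_⟩)).symm
    simpa using hR g⁻¹ (inv_mem hg) _ _ hB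
  have hoff : ∀ A, Nat.card {B // A ≠ B ∧ R A B} + 1 = r A := fun A => by
    show _ = Nat.card {B // R A B}
    simp only [Nat.card_eq_fintype_card, Fintype.card_subtype]
    rw [← Finset.card_erase_add_one (s := Finset.univ.filter fun B => R A B) (a := A)
      (Finset.mem_filter.mpr ⟨Finset.mem_univ _, ⟨1, one_mem N, one_smul _ A⟩⟩)]
    congr 2
    ext B
    simp [eq_comm]
  have hr1 : 1 ≤ r P := by rw [← hoff P]; omega
  have hpairs : Nat.card (Sub F L 1) * (r P - 1) = Nat.card (Sub F L 2) * f W₀ := by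
    have h1 := card_pairs_lines R (fun (_ : Sub F L 1) (_ : Sub F L 2) => True)
    rw [Finset.sum_congr rfl fun W _ => hfc W, Finset.sum_const, smul_eq_mul, Finset.card_univ,
      ← Nat.card_eq_fintype_card] at h1
    rw [← h1, card_pairs_points (fun A B => A ≠ B ∧ R A B ∧ ∃ U : Sub F L 2, A.1 ≤ U.1 ∧ B.1 ≤ U.1 ∧ True), Finset.sum_congr rfl (g := fun _ => r P - 1) (fun A _ => ?_), Finset.sum_const, smul_eq_mul,
      Finset.card_univ, ← Nat.card_eq_fintype_card]
    rw [← hr A, ← hoff A, Nat.add_sub_cancel]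
    refine Nat.card_congr (Equiv.subtypeEquivRight fun B => ⟨fun h => ⟨h.1, h.2.1⟩, fun h => ⟨h.1, h.2, ?_⟩⟩)
    obtain ⟨U, ⟨h1, h2⟩, -⟩ := existsUnique_line A B h.1
    exact ⟨U, h1, h2, trivial⟩
  obtain ⟨j, hj⟩ : Nat.card O.tor ∣ r P := O.tor_dvd_inv (R P) fun t ht B ⟨x, hx, e⟩ =>
    ⟨t * x, N.mul_mem (hTN ht) hx, by rw [mul_smul, e]⟩
  have hP : 0 < Nat.card (Sub F L 1) := Nat.card_pos_iff.mpr ⟨⟨P⟩, inferInstance⟩
  have hC : r P - 1 = half F L * f W₀ := by
    rw [card_lines_eq O.prime O.odd, mul_assoc] at hpairs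
    exact Nat.eq_of_mul_eq_mul_left hP hpairs
  have hle : r P ≤ Nat.card (Sub F L 1) := Nat.card_le_card_of_injective Subtype.val Subtype.val_injective
  have hjn : j = 𝕟 := by
    rw [hj, hcard, mul_comm 𝕟] at hle
    have hjle : j ≤ 𝕟 := Nat.le_of_mul_le_mul_left hle Nat.card_pos
    rcases hjle.lt_or_eq with hlt | h
    swap
    · exact h
    exfalso
    have h1 : (r P : ℤ) = half F L * f W₀ + 1 := by
      have : r P = half F L * f W₀ + 1 := by omega
      exact_mod_cast this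
    have h2 : (r P : ℤ) = Nat.card O.tor * j := by exact_mod_cast hj
    have hpts := card_pts_eq (F := F) (L := L) O.prime O.odd
    rw [hcard] at hpts
    have h3 : (𝕟 : ℤ) * Nat.card O.tor = 1 + Nat.card F * (Nat.card F + 1) * half F L := by exact_mod_cast hpts
    have h4 : (half F L : ℤ) ∣ (𝕟 : ℤ) - j :=
      ⟨(j : ℤ) * (Nat.card F * (Nat.card F + 1)) - 𝕟 * f W₀,
        by linear_combination -(𝕟 : ℤ) * h1 + (𝕟 : ℤ) * h2 + (j : ℤ) * h3⟩
    have h5 := Int.le_of_dvd (by omega) h4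
    have h6 : 𝕟 ^ 4 ≤ half F L := by
      refine le_trans (Nat.pow_le_pow_left ?_ 4) (half_pos O.seven)
      have := Nat.le_of_dvd (show 0 < Nat.card F - 1 by have := Finite.one_lt_card (α := F); omega) hd
      omega
    have h7 : (𝕟 : ℤ) ^ 4 ≤ half F L := by exact_mod_cast h6
    have h8 : (𝕟 : ℤ) ≤ (𝕟 : ℤ) ^ 4 := le_self_pow₀ (by have := O.seven; omega) (by norm_num)
    have h9 : 1 ≤ j := Nat.one_le_iff_ne_zero.mpr fun h0 => by rw [hj, h0, mul_zero] at hr1; omega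
    omega
  have hall : r P = Nat.card (Sub F L 1) := by rw [hj, hjn, hcard, mul_comm]
  by_contra hQ
  have hlt : r P < Nat.card (Sub F L 1) := Finite.card_subtype_lt (x := Q) hQ
  omega

/-- Without small characters an equidistributed group with `n` classes is transitive on flags. -/
theorem Over.flags_of_trace {O : Over M} (hE : Equidistributed O) [Fintype O.tor] [Fintype (onPts M).range]
    {τ : L ≃ₐ[F] L} (hτ : τ ≠ 1)
    (hns : ∀ (χ : (onPts M).range → ℂ) (l : Lam O.tor), ¬ (O.ccData hτ O.tor_big.1).Small χ l)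
    (h11 : 11 ≤ 𝕟) (hd : 𝕟 ∣ Nat.card F - 1) (hcard : Nat.card (Sub F L 1) = 𝕟 * Nat.card O.tor)
    (ψ : Sub F L 1 → Sub F L 2 → Prop) (hinv : ∀ g ∈ M, ∀ P W, ψ P W → ψ (g • P) (g • W))
    {P₁ : Sub F L 1} {W₁ : Sub F L 2} (hP₁ : P₁.1 ≤ W₁.1) (h₁ : ψ P₁ W₁) : ∀ P W, P.1 ≤ W.1 → ψ P W := by
  classical
  haveI := finite_base F L
  haveI : Fintype (Sub F L 2) := Fintype.ofFinite _
  haveI : Fintype (Sub F L 1) := Fintype.ofFinite _
  have hinv' : ∀ g ∈ M, ∀ P W, ψ (g • P) (g • W) → ψ P W := fun g hg P W h => by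
    simpa using hinv g⁻¹ (inv_mem hg) _ _ h
  let e : Sub F L 2 → ℕ := fun W => Nat.card {P : Sub F L 1 // P.1 ≤ W.1 ∧ ψ P W}
  have hec : ∀ W, e W = e W₁ := by
    refine O.lines_transitive hE (fun W => e W = e W₁) (fun g hg W h => Eq.trans ?_ h) (W₀ := W₁) rfl
    refine (Nat.card_congr (Equiv.subtypeEquiv (MulAction.toPerm g) fun P => ?_)).symm
    rw [MulAction.toPerm_apply]
    exact ⟨fun h => ⟨Submodule.map_mono h.1, hinv g hg P W h.2⟩,
      fun h => ⟨(Submodule.map_le_map_iff_of_injective (LinearEquiv.injective g) _ _).mp h.1, hinv' g hg P W h.2⟩⟩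
  have he1 : 1 ≤ e W₁ := Nat.one_le_iff_ne_zero.mpr (Nat.card_ne_zero.mpr ⟨⟨⟨P₁, hP₁, h₁⟩⟩, inferInstance⟩)
  let S : Sub F L 1 → Sub F L 1 → Prop := fun P Q => P ≠ Q ∧ ∃ U : Sub F L 2, P.1 ≤ U.1 ∧ Q.1 ≤ U.1 ∧ ψ P U
  have hS : ∀ (g : (onPts M).range) (P Q : Sub F L 1), S (g • P) (g • Q) ↔ S P Q := by
    have h1 : ∀ g ∈ M, ∀ P Q, S P Q → S (g • P) (g • Q) := by
      rintro g hg P Q ⟨hne, U, hP, hQ, hU⟩
      exact ⟨fun h => hne (MulAction.injective g h), g • U, Submodule.map_mono hP, Submodule.map_mono hQ, hinv g hg P U hU⟩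
    rintro ⟨_, g, rfl⟩ P Q
    refine ⟨fun h => ?_, fun h => h1 _ g.2 P Q h⟩
    have h2 := h1 _ (inv_mem g.2) _ _ h
    change S ((g : L ≃ₗ[F] L)⁻¹ • (g : L ≃ₗ[F] L) • P) ((g : L ≃ₗ[F] L)⁻¹ • (g : L ≃ₗ[F] L) • Q) at h2
    rwa [inv_smul_smul, inv_smul_smul] at h2
  have htrans : ∀ Q : Sub F L 1, ∃ x : (onPts M).range, x • P₁ = Q := by
    refine O.pts_transitive hE (fun Q => ∃ x : (onPts M).range, x • P₁ = Q) (fun g hg Q ⟨x, hx⟩ => ?_) ⟨1, one_smul _ _⟩
    refine ⟨(onPts M).rangeRestrict ⟨g, hg⟩ * x, ?_⟩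
    rw [mul_smul, hx]
    rfl
  have hsc : ∀ Q, Nat.card {v // S Q v} = Nat.card {v // S P₁ v} := fun Q => by
    obtain ⟨x, rfl⟩ := htrans Q
    refine (Nat.card_congr (Equiv.subtypeEquiv (MulAction.toPerm x) fun v => ?_)).symm
    rw [MulAction.toPerm_apply, hS]
  -- the valency
  have hline : ∀ W : Sub F L 2, Nat.card {x : Sub F L 1 × Sub F L 1 //
      x.1.1 ≤ W.1 ∧ x.2.1 ≤ W.1 ∧ x.1 ≠ x.2 ∧ True ∧ ψ x.1 W} = e W * Nat.card F := fun W => by
    have h1 : ∀ A : {P : Sub F L 1 // P.1 ≤ W.1 ∧ ψ P W}, Nat.card {B : Sub F L 1 // B.1 ≤ W.1 ∧ A.1 ≠ B} = Nat.card F := by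
      intro A
      have h2 := card_on_line W
      simp only [Nat.card_eq_fintype_card, Fintype.card_subtype] at h2 ⊢
      rw [← Finset.card_erase_add_one (s := Finset.univ.filter fun B : Sub F L 1 => B.1 ≤ W.1) (a := A.1)
        (by simpa using A.2.1)] at h2
      rw [← Nat.succ_injective h2]
      congr 1
      ext B
      simp [eq_comm, and_comm]
    haveI : Fintype {P : Sub F L 1 // P.1 ≤ W.1 ∧ ψ P W} := Fintype.ofFinite _
    show _ = Nat.card {P : Sub F L 1 // P.1 ≤ W.1 ∧ ψ P W} * _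
    rw [← smul_eq_mul, Nat.card_eq_fintype_card (α := {P : Sub F L 1 // P.1 ≤ W.1 ∧ ψ P W}), ← Finset.card_univ,
      ← Finset.sum_const, ← Finset.sum_congr rfl fun A _ => h1 A, ← Nat.card_sigma]
    exact Nat.card_congr
      { toFun := fun x => ⟨⟨x.1.1, x.2.1, x.2.2.2.2.2⟩, x.1.2, x.2.2.1, x.2.2.2.1⟩
        invFun := fun y => ⟨(y.1.1, y.2.1), y.1.2.1, y.2.2.1, y.2.2.2, trivial, y.1.2.2⟩
        left_inv := fun _ => rfl
        right_inv := fun _ => rfl }
  have hs : Nat.card {v // S P₁ v} = half F L * (e W₁ * Nat.card F) := by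
    have h1 := card_pairs_lines (fun _ _ => True) ψ
    rw [Finset.sum_congr rfl fun W _ => by rw [hline W, hec W], Finset.sum_const, smul_eq_mul, Finset.card_univ,
      ← Nat.card_eq_fintype_card, card_lines_eq O.prime O.odd,
      card_pairs_points (fun A B => A ≠ B ∧ True ∧ ∃ U : Sub F L 2, A.1 ≤ U.1 ∧ B.1 ≤ U.1 ∧ ψ A U),
      Finset.sum_congr rfl (g := fun _ => Nat.card {v // S P₁ v}) (fun A _ => by
        rw [← hsc A]
        exact Nat.card_congr (Equiv.subtypeEquivRight fun B => ⟨fun h => ⟨h.1, h.2.2⟩, fun h => ⟨h.1, trivial, h.2⟩⟩)),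
      Finset.sum_const, smul_eq_mul, Finset.card_univ, ← Nat.card_eq_fintype_card, mul_assoc] at h1
    exact Nat.eq_of_mul_eq_mul_left (Nat.card_pos_iff.mpr ⟨⟨P₁⟩, inferInstance⟩) h1
  -- translation pairs
  obtain ⟨hbig, hpts⟩ := O.tor_big
  have D := O.ccData hτ hbig
  obtain ⟨t, ht, ht1⟩ := D.exists_ne_one
  obtain ⟨k, hk⟩ : Nat.card O.tor ∣ Nat.card {u : Sub F L 1 // S u (t • u)} := O.tor_dvd_inv _ fun s hs' P hP => by
    rw [← mul_smul, D.comm t ht s hs', mul_smul, hS]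
    exact hP
  have hbound : 𝕟 * Fintype.card (Sub F L 1) + (Nat.card O.tor - 1) * (𝕟 + 1) <
      (Nat.card O.tor - 1) * Nat.card O.tor := by
    rw [← Nat.card_eq_fintype_card]
    obtain ⟨m, hm⟩ : ∃ m, Nat.card O.tor = m + 1 := ⟨Nat.card O.tor - 1, by omega⟩
    rw [hm] at hbig hpts ⊢
    rw [Nat.add_sub_cancel]
    nlinarith [Nat.mul_le_mul_left m (show 𝕟 ^ 2 + 3 * 𝕟 + 1 ≤ m by omega), Nat.mul_le_mul_left 𝕟 hpts, O.seven]
  have hT : ∀ χ : (onPts M).range → ℂ, IsIrrCharacter (onPts M).range χ → χ ≠ (fun _ => 1) →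
      classInner (fun g : (onPts M).range => (Nat.card (MulAction.fixedBy (Sub F L 1) g) : ℂ)) χ ≠ 0 →
      ∃ t ∈ O.tor, χ t ≠ χ 1 := by
    intro χ hχ hne hm
    by_contra hall
    push Not at hall
    have hc := isCharacter_of_irr hχ
    set N := charKernel χ hc with hN
    have htr := O.normal_transitive hE hd hcard (N := N) inferInstance (fun s hs' => (mem_charKernel hc s).mpr (hall s hs'))
    obtain ⟨m, hm'⟩ := classInner_char_nat (show IsCharacter (onPts M).range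
        (fun g : (onPts M).range => (Nat.card (MulAction.fixedBy (Sub F L 1) g) : ℂ)) by
      rw [← permRep_character]; exact isCharacter_character _) hc
    have hB := inner_perm_eq P₁ htrans hχ hm'
    have hker : ∀ x ∈ N, ∀ g, χ (x * g) = χ g := by
      obtain ⟨ψ', -, hψ'⟩ := exists_quotient_char N hc (fun x hx => (mem_charKernel hc x).mp hx)
      intro x hx g
      rw [hψ']
      simp [(QuotientGroup.eq_one_iff x).mpr hx]
    choose x hx hxu using fun v => htr P₁ v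
    have hsum : ∑ g, χ g = (Fintype.card (Sub F L 1) : ℂ) * ∑ b : MulAction.stabilizer (onPts M).range P₁, χ b := by
      rw [← Finset.card_univ, ← nsmul_eq_mul, ← Finset.sum_const, ← Finset.sum_fiberwise Finset.univ (fun g => g • P₁) χ]
      refine Finset.sum_congr rfl fun v _ => ?_
      refine Finset.sum_bij' (fun g hg => (⟨(x v)⁻¹ * g, by
          rw [MulAction.mem_stabilizer_iff, mul_smul, inv_smul_eq_iff, hxu]
          exact (Finset.mem_filter.mp hg).2⟩ : MulAction.stabilizer (onPts M).range P₁))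
        (fun b _ => x v * b) (fun _ _ => Finset.mem_univ _) (fun b _ => ?_) (fun g _ => mul_inv_cancel_left _ _)
        (fun b _ => Subtype.ext (inv_mul_cancel_left _ _)) (fun g _ => (hker _ (inv_mem (hx v)) g).symm)
      refine Finset.mem_filter.mpr ⟨Finset.mem_univ _, ?_⟩
      rw [mul_smul, show (b : (onPts M).range) • P₁ = P₁ from b.2, hxu]
    have h0 : ∑ g, χ g = 0 := by
      have h1 := classInner_irr_ne hχ isIrrCharacter_one hne
      rw [classInner, mul_eq_zero] at h1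
      have h2 := h1.resolve_left (inv_ne_zero (Nat.cast_ne_zero.mpr Nat.card_pos.ne'))
      simpa using h2
    rw [h0, hB] at hsum
    rcases mul_eq_zero.mp hsum.symm with h1 | h1
    · exact (Fintype.card_pos_iff.mpr ⟨P₁⟩).ne' (by exact_mod_cast h1)
    · rcases mul_eq_zero.mp h1 with h2 | h2
      · exact Nat.card_pos.ne' (by exact_mod_cast h2)
      · exact hm (by rw [hm', h2])
  have hb := trace_bound D (Ω := Sub F L 1) (fun s hs' hs1 P => O.semiregular s hs' hs1 P) hns hbound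
    (c := 𝕟) (by rw [← Nat.card_eq_fintype_card, hcard]) P₁ htrans hT S hS ht ht1
  rw [hs, hk] at hb
  push_cast at hb
  -- the bound forces equality
  have hpts' := card_pts_eq (F := F) (L := L) O.prime O.odd
  rw [hcard] at hpts'
  have hq : 2 ≤ Nat.card F := Finite.one_lt_card
  have hqn := Nat.le_of_dvd (show 0 < Nat.card F - 1 by omega) hd
  have hele : e W₁ ≤ Nat.card F + 1 := by
    rw [← card_on_line W₁]
    exact Nat.card_le_card_of_injective
      (fun P : {P : Sub F L 1 // P.1 ≤ W₁.1 ∧ ψ P W₁} => (⟨P.1, P.2.1⟩ : {P : Sub F L 1 // P.1 ≤ W₁.1}))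
      (fun a b h => Subtype.ext (congrArg (fun P : {P : Sub F L 1 // P.1 ≤ W₁.1} => P.1) h))
  have hkn : k ≤ 𝕟 := by
    have h := Nat.card_le_card_of_injective (Subtype.val : {u : Sub F L 1 // S u (t • u)} → Sub F L 1) Subtype.val_injective
    rw [hk, hcard, mul_comm 𝕟] at h
    exact Nat.le_of_mul_le_mul_left h Nat.card_pos
  have hhalf : 64 * 𝕟 ^ 5 < half F L := by
    refine lt_of_lt_of_le ?_ (half_big O.seven O.odd)
    refine lt_of_lt_of_le ?_ (le_trans (Nat.pow_le_pow_left (show 𝕟 ≤ Nat.card F by omega) 8)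
      (Nat.pow_le_pow_right (by omega) (show 8 ≤ 𝕟 - 3 by omega)))
    calc 64 * 𝕟 ^ 5 < 𝕟 ^ 3 * 𝕟 ^ 5 := Nat.mul_lt_mul_of_pos_right
          (lt_of_lt_of_le (by norm_num) (Nat.pow_le_pow_left h11 3)) (pow_pos O.prime.pos 5)
      _ = _ := by ring
  have hX : (Nat.card F + 1) * k = 𝕟 * e W₁ := by
    by_contra hne
    set q := Nat.card F
    set C := half F L
    set T := Nat.card O.tor
    set N := 𝕟
    set E := e W₁
    have e3 : (N : ℝ) * T = 1 + q * (q + 1) * C := by exact_mod_cast hpts'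
    have e4 : (N : ℝ) * ((T : ℝ) * k - C * (E * q)) = (k : ℝ) + C * q * (((q : ℝ) + 1) * k - N * E) := by
      linear_combination (k : ℝ) * e3
    have h5 : 1 ≤ |((q : ℝ) + 1) * k - N * E| := by
      have hz : ((((q + 1) * k : ℕ) : ℤ) - ((N * E : ℕ) : ℤ)) ≠ 0 := sub_ne_zero.mpr (by exact_mod_cast hne)
      have h := Int.one_le_abs hz
      have h' : (1 : ℝ) ≤ ((|(((q + 1) * k : ℕ) : ℤ) - ((N * E : ℕ) : ℤ)| : ℤ) : ℝ) := by exact_mod_cast h
      push_cast at h'
      exact h'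
    have hkR : (k : ℝ) ≤ N := by exact_mod_cast hkn
    have hNq : (N : ℝ) + 1 ≤ q := by exact_mod_cast (show N + 1 ≤ q by omega)
    have hER : (E : ℝ) ≤ q + 1 := by exact_mod_cast hele
    have hC : (64 * (N : ℝ) ^ 5) + 1 ≤ C := by exact_mod_cast hhalf
    have hN : (11 : ℝ) ≤ N := by exact_mod_cast h11
    have hCq : 0 < (C : ℝ) * q := by
      have : (0 : ℝ) < C := lt_of_lt_of_le (by positivity) hC
      have : (0 : ℝ) < q := by linarith
      positivity
    have h6 : (C : ℝ) * q / 2 ≤ |(k : ℝ) + C * q * (((q : ℝ) + 1) * k - N * E)| := by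
      have h7 : (C : ℝ) * q ≤ |(C : ℝ) * q * (((q : ℝ) + 1) * k - N * E)| := by
        rw [abs_mul, abs_of_pos hCq]
        exact le_mul_of_one_le_right hCq.le h5
      have h8 := abs_sub_abs_le_abs_sub ((C : ℝ) * q * (((q : ℝ) + 1) * k - N * E)) (-(k : ℝ))
      rw [sub_neg_eq_add, abs_neg, Nat.abs_cast, add_comm _ (k : ℝ)] at h8
      have h9 : (2 : ℝ) * k ≤ C * q := by
        have h10 : (64 : ℝ) * N ≤ 64 * (N : ℝ) ^ 5 := by
          have : (N : ℝ) ≤ (N : ℝ) ^ 5 := le_self_pow₀ (by linarith) (by norm_num)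
          linarith
        have h11' : (C : ℝ) ≤ C * q := le_mul_of_one_le_right (by positivity) (by linarith)
        linarith
      linarith
    have h7 : (C : ℝ) * q / 2 ≤ (N : ℝ) * |(T : ℝ) * k - C * (E * q)| := by
      rw [← abs_of_pos (show (0 : ℝ) < N by linarith), ← abs_mul, e4]
      exact h6
    have h8 : ((C : ℝ) * q / 2) ^ 2 ≤ (N : ℝ) ^ 2 * (8 * (N : ℝ) ^ 3 * (C * (E * q))) := by
      refine (pow_le_pow_left₀ (by positivity) h7 2).trans ?_
      rw [mul_pow, sq_abs]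
      exact mul_le_mul_of_nonneg_left hb (sq_nonneg _)
    have h9 : (C : ℝ) * q ≤ 32 * (N : ℝ) ^ 5 * (q + 1) := by
      refine le_of_mul_le_mul_left ?_ hCq
      calc (C : ℝ) * q * (C * q) ≤ 32 * (N : ℝ) ^ 5 * E * (C * q) := by nlinarith [h8]
        _ ≤ 32 * (N : ℝ) ^ 5 * (q + 1) * (C * q) := by
          have : 32 * (N : ℝ) ^ 5 * E ≤ 32 * (N : ℝ) ^ 5 * (q + 1) := mul_le_mul_of_nonneg_left hER (by positivity)
          exact mul_le_mul_of_nonneg_right this hCq.le
        _ = _ := by ring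
    have h10 : (C : ℝ) * q ≤ 64 * (N : ℝ) ^ 5 * q := by
      refine h9.trans ?_
      have : (1 : ℝ) ≤ q := by linarith
      nlinarith [show (0 : ℝ) ≤ (N : ℝ) ^ 5 by positivity]
    have h12 := le_of_mul_le_mul_right h10 (by linarith)
    linarith
  have hkeq : k = 𝕟 := by
    have h1 : 𝕟 ∣ (Nat.card F + 1) * k := ⟨e W₁, hX⟩
    rcases O.prime.dvd_mul.mp h1 with h2 | h2
    · have h3 := Nat.dvd_sub h2 hd
      rw [show Nat.card F + 1 - (Nat.card F - 1) = 2 by omega] at h3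
      have := Nat.le_of_dvd (by norm_num) h3
      omega
    · refine le_antisymm hkn (Nat.le_of_dvd (Nat.pos_of_ne_zero fun h0 => ?_) h2)
      rw [h0, mul_zero] at hX
      have := Nat.mul_pos O.prime.pos he1
      omega
  have hefull : e W₁ = Nat.card F + 1 := by
    rw [hkeq, mul_comm] at hX
    exact (Nat.eq_of_mul_eq_mul_left O.prime.pos hX).symm
  intro P W hPW
  by_contra hψ
  have hlt : e W < Nat.card F + 1 := by
    rw [← card_on_line W]
    show Nat.card {P : Sub F L 1 // P.1 ≤ W.1 ∧ ψ P W} < _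
    rw [← Nat.card_congr (Equiv.subtypeSubtypeEquivSubtypeInter (fun P : Sub F L 1 => P.1 ≤ W.1) (fun P => ψ P W))]
    exact Finite.card_subtype_lt (x := ⟨P, hPW⟩) hψ
  rw [hec, hefull] at hlt
  exact lt_irrefl _ hlt

end CfsgLib.SingerPrime.Singer
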