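/-
Overgroups of the Singer normaliser in prime dimension are semilinear or doubly transitive on points.
-/
import Cfsg.Agent.Lib.SingerPrime.OverPairs
import Cfsg.Agent.Lib.SingerSeven.PointPairs

set_option autoImplicit false
set_option linter.unusedSectionVars false
set_option linter.style.haveILetI false

namespace CfsgLib.SingerPrime.Singer

open Module CfsgLib.SingerFive

universe u v

variable {F : Type u} {L : Type v} [Field F] [Field L] [Algebra F L] [Finite L] {M : Subgroup (L ≃ₗ[F] L)}

/-- An overgroup of the Singer normaliser is semilinear or doubly transitive on points. -/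
theorem Over.semi_or_pairs (O : Over M) : (∀ g ∈ M, IsSemi g) ∨ PairTrans M := by
  classical
  haveI : Finite (L ≃ₗ[F] L) := Finite.of_injective (fun g : L ≃ₗ[F] L => (g : L → L)) DFunLike.coe_injective
  by_cases h7 : Module.finrank F L = 7
  · exact (SingerSeven.Over.mk h7 O.det O.mul O.aut).semi_or_pairs
  have h11 : 11 ≤ Module.finrank F L := by
    have h1 := O.seven
    have h2 := O.prime
    by_contra h
    push Not at h
    interval_cases h3 : Module.finrank F L
    all_goals first | exact absurd rfl h7 | norm_num at h2
  obtain ⟨σ, hσ⟩ := exists_aut_ne_one (F := F) (L := L) O.prime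
  obtain ⟨hbig, -⟩ := O.tor_big
  haveI : Fintype (onPts M).range := Fintype.ofFinite _
  haveI : Fintype O.tor := Fintype.ofFinite _
  by_cases hsmall : ∃ χ l, (O.ccData hσ hbig).Small (χ : (onPts M).range → ℂ) l
  · obtain ⟨χ, l, hsm⟩ := hsmall
    obtain ⟨K, hKn, hTK, hK⟩ := (O.ccData hσ hbig).exists_normal_of_small (by nlinarith [O.seven]) hsm
    exact Or.inl (O.semi_of_normal hbig hσ hKn hTK hK)
  · push Not at hsmall
    exact O.semi_or_equidistributed.imp id fun hE P Q P' Q' hne hne' =>
      O.pairs_transitive hE hσ hsmall h11 P Q P' Q' hne hne'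

end CfsgLib.SingerPrime.Singer
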