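/-
Digit sums of multiples of `q ^ n - 1`, and functions of bounded degree on a finite field.
-/
import Mathlib

set_option autoImplicit false
set_option linter.unusedSectionVars false
set_option linter.style.haveILetI false
set_option maxHeartbeats 1000000

namespace CfsgLib.SingerPrime

/-- The number with the given digits. -/
def dval {n : ℕ} (q : ℕ) (e : Fin n → ℕ) : ℕ := ∑ i, e i * q ^ (i : ℕ)

theorem dval_add {n : ℕ} (q : ℕ) (e e' : Fin n → ℕ) : dval q (e + e') = dval q e + dval q e' := by
  simp only [dval, Pi.add_apply, add_mul, Finset.sum_add_distrib]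

theorem dval_single {n : ℕ} (q : ℕ) (i : Fin n) (c : ℕ) : dval q (Pi.single i c) = c * q ^ (i : ℕ) := by
  rw [dval, Finset.sum_eq_single i (fun j _ hj => by rw [Pi.single_eq_of_ne hj, zero_mul])
    (fun h => absurd (Finset.mem_univ i) h), Pi.single_eq_same]

/-- A positive multiple of `q ^ n - 1` has at least `n * (q - 1)` as sum of digits, however written. -/
theorem digit_bound {n q : ℕ} (hq : 2 ≤ q) : ∀ (N : ℕ) (e : Fin n → ℕ), ∑ i, e i = N → 0 < dval q e →
    q ^ n - 1 ∣ dval q e → n * (q - 1) ≤ N := by
  intro N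
  induction N using Nat.strong_induction_on with
  | _ N ih =>
    intro e hN hpos hdvd
    by_cases hbig : ∃ i, q ≤ e i
    · obtain ⟨i, hi⟩ := hbig
      have hn : 0 < n := Fin.pos i
      let j : Fin n := ⟨((i : ℕ) + 1) % n, Nat.mod_lt _ hn⟩
      let r : Fin n → ℕ := Function.update e i (e i - q)
      have he : e = r + Pi.single i q := by
        funext k
        by_cases hk : k = i
        · subst hk
          simp only [r, Pi.add_apply, Function.update_self, Pi.single_eq_same]
          omega
        · simp [r, hk]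
      have hs0 : N = ∑ k, r k + q := by
        rw [← hN, he]
        simp only [Pi.add_apply, Finset.sum_add_distrib, Finset.sum_pi_single', Finset.mem_univ, if_true]
      have hsum : ∑ k, (r + Pi.single j (1 : ℕ) : Fin n → ℕ) k = N - q + 1 := by
        simp only [Pi.add_apply, Finset.sum_add_distrib, Finset.sum_pi_single', Finset.mem_univ, if_true]
        omega
      have hqN : q ≤ N := by omega
      have hv : dval q e = dval q r + q * q ^ (i : ℕ) := by rw [he, dval_add, dval_single]
      have hv' : dval q (r + Pi.single j 1) = dval q r + q ^ (j : ℕ) := by rw [dval_add, dval_single, one_mul]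
      have hmod : q ^ n - 1 ∣ dval q (r + Pi.single j 1) := by
        rw [hv']
        by_cases hlast : (i : ℕ) + 1 < n
        · rw [show (j : ℕ) = (i : ℕ) + 1 from Nat.mod_eq_of_lt hlast, pow_succ', ← hv]
          exact hdvd
        · have hjn : (i : ℕ) + 1 = n := by omega
          rw [show (j : ℕ) = 0 by simp [j, hjn], pow_zero]
          have h1 : dval q e = dval q r + 1 + (q ^ n - 1) := by
            rw [hv, ← pow_succ', hjn]
            have := Nat.one_le_pow n q (by omega)
            omega
          rw [h1] at hdvd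
          exact (Nat.dvd_add_left dvd_rfl).mp hdvd
      have := ih (N - q + 1) (by omega) _ hsum (by rw [hv']; positivity) hmod
      omega
    · push Not at hbig
      have hle : dval q e ≤ ∑ i : Fin n, (q - 1) * q ^ (i : ℕ) :=
        Finset.sum_le_sum fun i _ => Nat.mul_le_mul_right _ (by have := hbig i; omega)
      have hgeom : ∑ i : Fin n, (q - 1) * q ^ (i : ℕ) = q ^ n - 1 := by
        rw [Fin.sum_univ_eq_sum_range fun i => (q - 1) * q ^ i, ← Finset.mul_sum, mul_comm]
        exact geom_sum_mul_of_one_le (by omega : 1 ≤ q) n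
      have heq : dval q e = ∑ i : Fin n, (q - 1) * q ^ (i : ℕ) := by
        have := Nat.le_of_dvd hpos hdvd
        omega
      have hall : ∀ i, q - 1 ≤ e i := fun i => by
        by_contra hc
        have h1 : ∑ k : Fin n, e k * q ^ (k : ℕ) < ∑ k : Fin n, (q - 1) * q ^ (k : ℕ) :=
          Finset.sum_lt_sum (fun k _ => Nat.mul_le_mul_right _ (by have := hbig k; omega))
            ⟨i, Finset.mem_univ i, (Nat.mul_lt_mul_right (pow_pos (by omega) _)).mpr (Nat.lt_of_not_le hc)⟩
        exact h1.ne heq
      rw [← hN]
      calc n * (q - 1) = ∑ _i : Fin n, (q - 1) := by simp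
        _ ≤ _ := Finset.sum_le_sum fun i _ => hall i

section

variable {F L : Type*} [Field F] [Field L] [Algebra F L]

/-- The exponents with a bounded sum of digits. -/
def expSet (q n d : ℕ) : Set ℕ := {m | ∃ e : Fin n → ℕ, ∑ i, e i ≤ d ∧ m = dval q e}

theorem expSet_mono {q n d d' : ℕ} (h : d ≤ d') : expSet q n d ⊆ expSet q n d' :=
  fun _ ⟨e, he, hm⟩ => ⟨e, he.trans h, hm⟩

theorem expSet_finite (q n d : ℕ) : (expSet q n d).Finite := by
  refine (Set.finite_range fun e : Fin n → Fin (d + 1) => dval q fun i => (e i : ℕ)).subset ?_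
  rintro m ⟨e, he, rfl⟩
  exact ⟨fun i => ⟨e i, Nat.lt_succ_of_le ((Finset.single_le_sum (fun _ _ => Nat.zero_le _) (Finset.mem_univ i)).trans he)⟩,
    rfl⟩

/-- Functions of degree at most `d`. -/
def deg (L : Type*) [Field L] (q n d : ℕ) : Submodule L (L → L) :=
  Submodule.span L ((fun m : ℕ => fun x : L => x ^ m) '' expSet q n d)

theorem mono_mem {q n d m : ℕ} (h : m ∈ expSet q n d) : (fun x : L => x ^ m) ∈ deg L q n d :=
  Submodule.subset_span ⟨m, h, rfl⟩

theorem deg_mono {q n d d' : ℕ} (h : d ≤ d') : deg L q n d ≤ deg L q n d' :=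
  Submodule.span_mono (Set.image_mono (expSet_mono h))

theorem one_mem_deg (q n d : ℕ) : (1 : L → L) ∈ deg L q n d := by
  rw [show (1 : L → L) = fun x : L => x ^ 0 from funext fun x => (pow_zero x).symm]
  exact mono_mem ⟨0, by simp, by simp [dval]⟩

theorem mul_mem_deg {q n d d' : ℕ} {f g : L → L} (hf : f ∈ deg L q n d) (hg : g ∈ deg L q n d') :
    f * g ∈ deg L q n (d + d') := by
  induction hf using Submodule.span_induction with
  | mem a ha =>
    obtain ⟨m, ⟨e, he, rfl⟩, rfl⟩ := ha
    induction hg using Submodule.span_induction with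
    | mem b hb =>
      obtain ⟨m', ⟨e', he', rfl⟩, rfl⟩ := hb
      rw [show ((fun x : L => x ^ dval q e) * fun x : L => x ^ dval q e') = fun x : L => x ^ dval q (e + e') from
        funext fun x => by rw [Pi.mul_apply, dval_add, pow_add]]
      exact mono_mem ⟨e + e', by simp only [Pi.add_apply, Finset.sum_add_distrib]; omega, rfl⟩
    | zero => rw [mul_zero]; exact zero_mem _
    | add a b _ _ ha hb => rw [mul_add]; exact add_mem ha hb
    | smul c a _ ha => rw [mul_smul_comm]; exact Submodule.smul_mem _ c ha
  | zero => rw [zero_mul]; exact zero_mem _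
  | add a b _ _ ha hb => rw [add_mul]; exact add_mem ha hb
  | smul c a _ ha => rw [smul_mul_assoc]; exact Submodule.smul_mem _ c ha

theorem pow_mem_deg {q n d : ℕ} {f : L → L} (hf : f ∈ deg L q n d) : ∀ r : ℕ, f ^ r ∈ deg L q n (r * d)
  | 0 => by rw [pow_zero]; exact one_mem_deg q n _
  | r + 1 => by rw [pow_succ, add_mul, one_mul]; exact mul_mem_deg (pow_mem_deg hf r) hf

theorem prod_mem_deg {q n d : ℕ} {ι : Type*} (s : Finset ι) (f : ι → L → L) (hf : ∀ i ∈ s, f i ∈ deg L q n d) :
    ∏ i ∈ s, f i ∈ deg L q n (s.card * d) := by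
  classical
  induction s using Finset.induction_on with
  | empty => simpa using one_mem_deg q n 0
  | insert a s ha ih =>
    rw [Finset.prod_insert ha, Finset.card_insert_of_notMem ha, add_mul, one_mul, add_comm]
    exact mul_mem_deg (hf a (Finset.mem_insert_self a s)) (ih fun i hi => hf i (Finset.mem_insert_of_mem hi))

variable [Finite L]

/-- A trace form has degree one. -/
theorem trace_mem_deg (a : L) :
    (fun x : L => algebraMap F L (Algebra.trace F L (a * x))) ∈ deg L (Nat.card F) (Module.finrank F L) 1 := by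
  rw [show (fun x : L => algebraMap F L (Algebra.trace F L (a * x))) =
    ∑ i : Fin (Module.finrank F L), (a ^ (Nat.card F ^ (i : ℕ))) • fun x : L => x ^ (Nat.card F ^ (i : ℕ)) from
    funext fun x => by
      rw [FiniteField.algebraMap_trace_eq_sum_pow, Finset.sum_range, Finset.sum_apply]
      exact Finset.sum_congr rfl fun i _ => by rw [mul_pow]; rfl]
  exact Submodule.sum_mem _ fun i _ => Submodule.smul_mem _ _ (mono_mem ⟨Pi.single i 1,
    (Finset.sum_pi_single' i 1 Finset.univ).le.trans (by simp), by rw [dval_single, one_mul]⟩)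

end

end CfsgLib.SingerPrime
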