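/-
Orbits of a `p`-subgroup outside the large orbit of a group: the basic inequality.
-/
import Cfsg.Agent.Lib.SingerSeven.Tools

set_option autoImplicit false
set_option linter.unusedSectionVars false
set_option linter.style.haveILetI false
set_option maxHeartbeats 1000000

namespace CfsgLib.SingerPrime

open Module
open CfsgLib.SingerFive (Sub finite_field)

section

variable {M Ω : Type*} [Group M] [MulAction M Ω]

/-- A subgroup is the product of an orbit and a stabiliser. -/
theorem card_fix_mul_orbit [Finite M] (Q : Subgroup M) (x : Ω) :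
    Nat.card ↥(Q ⊓ MulAction.stabilizer M x) * Nat.card (MulAction.orbit Q x) = Nat.card Q := by
  rw [← (MulAction.stabilizer Q x).card_mul_index, MulAction.index_stabilizer, Nat.card_coe_set_eq]
  congr 1
  exact Nat.card_congr
    { toFun := fun g => ⟨⟨g.1, g.2.1⟩, g.2.2⟩
      invFun := fun g => ⟨g.1.1, g.1.2, g.2⟩
      left_inv := fun g => rfl
      right_inv := fun g => rfl }

/-- A `p`-subgroup of largest order inside a subgroup. -/
theorem exists_sylow_sub [Finite M] (p : ℕ) [Fact p.Prime] (H : Subgroup M) :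
    ∃ P : Subgroup M, P ≤ H ∧ IsPGroup p P ∧ ∀ d, p ^ d ∣ Nat.card H → p ^ d ∣ Nat.card P := by
  obtain ⟨P⟩ := (inferInstance : Nonempty (Sylow p H))
  refine ⟨(P : Subgroup H).map H.subtype, Subgroup.map_subtype_le _, P.2.map _, fun d hd => ?_⟩
  rw [Subgroup.card_map_of_injective H.subtype_injective]
  exact P.pow_dvd_card_of_pow_dvd_card hd

variable [Finite M]

/-- The points outside the large orbit have large orbits under every large `p`-subgroup. -/
theorem orbit_large {p : ℕ} [Fact p.Prime] (H P Q : Subgroup M) (hP : ∀ d, p ^ d ∣ Nat.card H → p ^ d ∣ Nat.card P)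
    (hQH : Q ≤ H) (hQp : IsPGroup p Q) (T : Ω → Prop) (hT : ∀ g ∈ H, ∀ x, T x → T (g • x))
    (htr : ∀ x y, T x → T y → ∃ g ∈ H, g • x = y) {y : ℕ} (hy : p ^ y ∣ Nat.card {x // T x}) {x : Ω} (hx : T x) :
    p ^ y * Nat.card Q ≤ Nat.card (MulAction.orbit Q x) * Nat.card P := by
  have horb : MulAction.orbit H x = {z | T z} := by
    ext z
    constructor
    · rintro ⟨⟨g, hg⟩, rfl⟩
      exact hT g hg x hx
    · intro hz
      obtain ⟨g, hg, e⟩ := htr x z hx hz
      exact ⟨⟨g, hg⟩, e⟩
  have h1 := card_fix_mul_orbit H x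
  rw [horb] at h1
  have h2 := card_fix_mul_orbit Q x
  obtain ⟨d, hd⟩ := IsPGroup.iff_card.mp (hQp.to_le (inf_le_left : Q ⊓ MulAction.stabilizer M x ≤ Q))
  have h3 : p ^ d ∣ Nat.card ↥(H ⊓ MulAction.stabilizer M x) :=
    hd ▸ Subgroup.card_dvd_of_le (inf_le_inf_right _ hQH)
  have h4 : p ^ (d + y) ∣ Nat.card H := by
    rw [pow_add, ← h1]
    exact mul_dvd_mul h3 hy
  have h5 := Nat.le_of_dvd Nat.card_pos (hP _ h4)
  rw [← h2, hd, ← mul_assoc, ← pow_add, mul_comm _ (Nat.card P), add_comm y d]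
  exact Nat.mul_le_mul_right _ h5

/-- An invariant set has an orbit not longer than the part of its size at `p`. -/
theorem exists_small_orbit {p : ℕ} [hp : Fact p.Prime] (Q : Subgroup M) (hQ : IsPGroup p Q) (T : Ω → Prop)
    [Finite {x // T x}] (hT : ∀ g ∈ Q, ∀ x, T x → T (g • x)) {q f : ℕ} (hf : f ≠ 0) (hq : q = p ^ f) {d d' : ℕ}
    (hd : d < d') (hc : Nat.card {x // T x} * (q - 1) + q ^ d = q ^ d') :
    ∃ x, T x ∧ Nat.card (MulAction.orbit Q x) ≤ q ^ d := by
  classical
  by_contra hno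
  push Not at hno
  letI : MulAction Q {x // T x} :=
    { smul := fun g x => ⟨(g : M) • x.1, hT g g.2 x.1 x.2⟩
      one_smul := fun x => Subtype.ext (one_smul M x.1)
      mul_smul := fun g h x => Subtype.ext (mul_smul (g : M) (h : M) x.1) }
  haveI : Fintype {x // T x} := Fintype.ofFinite _
  haveI : Fintype Q := Fintype.ofFinite _
  have horb : ∀ x : {x // T x}, Nat.card (MulAction.orbit Q x.1) = Nat.card (MulAction.orbit Q x) := fun x => by
    have h1 := card_fix_mul_orbit Q x.1
    have h2 := (MulAction.stabilizer Q x).card_mul_index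
    rw [MulAction.index_stabilizer, ← Nat.card_coe_set_eq] at h2
    have h3 : Nat.card ↥(Q ⊓ MulAction.stabilizer M x.1) = Nat.card (MulAction.stabilizer Q x) :=
      Nat.card_congr
        { toFun := fun g => ⟨⟨g.1, g.2.1⟩, Subtype.ext g.2.2⟩
          invFun := fun g => ⟨g.1.1, g.1.2, congrArg Subtype.val g.2⟩
          left_inv := fun g => rfl
          right_inv := fun g => rfl }
    rw [h3] at h1
    exact Nat.eq_of_mul_eq_mul_left Nat.card_pos (h1.trans h2.symm)
  have hdvd : p * q ^ d ∣ Nat.card {x // T x} := by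
    rw [Nat.card_congr (MulAction.selfEquivSigmaOrbits Q {x // T x}), Nat.card_sigma]
    refine Finset.dvd_sum fun ω _ => ?_
    obtain ⟨e, he⟩ := hQ.card_orbit ω.out
    have h1 := hno _ ω.out.2
    rw [horb, he, hq, ← pow_mul] at h1
    have h2 : f * d + 1 ≤ e := (Nat.pow_lt_pow_iff_right hp.out.one_lt).mp h1
    rw [he, hq, ← pow_mul, ← pow_succ']
    exact pow_dvd_pow p h2
  have hpd : p ∣ q ^ (d' - d) := hq ▸ dvd_pow (dvd_pow_self p hf) (by omega)
  have h3 : p * q ^ d ∣ q ^ d' := by
    rw [show d' = (d' - d) + d by omega, pow_add]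
    exact mul_dvd_mul_right hpd _
  rw [← hc] at h3
  have h4 : p * q ^ d ∣ q ^ d := (Nat.dvd_add_right (dvd_mul_of_dvd_left hdvd _)).mp h3
  have hpos : 0 < q ^ d := pow_pos (hq ▸ pow_pos hp.out.pos f) d
  have h5 := Nat.le_of_dvd hpos h4
  nlinarith [hp.out.two_le]

/-- A set whose size is `q ^ d` times a number prime to `q`. -/
theorem pow_dvd_of_count {q N d d' : ℕ} (hq : 2 ≤ q) (hd : d ≤ d') (hc : N * (q - 1) + q ^ d = q ^ d') : q ^ d ∣ N := by
  have h1 : q ^ d ∣ N * (q - 1) := by
    have : q ^ d ∣ N * (q - 1) + q ^ d := hc ▸ pow_dvd_pow q hd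
    exact (Nat.dvd_add_left dvd_rfl).mp this
  have h2 : Nat.Coprime q (q - 1) := (Nat.coprime_self_sub_right (by omega)).mpr (Nat.coprime_one_right q)
  exact (h2.pow_left d).dvd_of_dvd_mul_right h1

end

section

variable {F V : Type*} [Field F] [AddCommGroup V] [Module F V] [Finite V]

/-- The number of elements of the field is a power of the characteristic. -/
theorem exists_card_field [Finite F] (p : ℕ) [Fact p.Prime] [CharP F p] : ∃ f : ℕ, f ≠ 0 ∧ Nat.card F = p ^ f := by
  haveI : Fintype F := Fintype.ofFinite F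
  obtain ⟨f, -, hf⟩ := FiniteField.card F p
  exact ⟨f, f.ne_zero, by rw [Nat.card_eq_fintype_card, hf]⟩

theorem finite_equiv : Finite (V ≃ₗ[F] V) :=
  Finite.of_injective (fun g : V ≃ₗ[F] V => (g : V → V)) DFunLike.coe_injective

end

end CfsgLib.SingerPrime
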