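/-
Lines through a point, and the large orbit of the stabiliser of a flag on them.
-/
import Cfsg.Agent.Lib.SingerPrime.Orbit

set_option autoImplicit false
set_option linter.unusedSectionVars false
set_option linter.style.haveILetI false
set_option maxHeartbeats 1000000

namespace CfsgLib.SingerPrime

open Module
open CfsgLib.SingerFive (Sub pt exists_pt smul_pt pt_eq_pt sub_smul_val finite_field PairTrans)
open CfsgLib.SingerSeven

variable {F V : Type*} [Field F] [AddCommGroup V] [Module F V] [Finite V] {G : Subgroup (V ≃ₗ[F] V)}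

/-- The line through two points. -/
noncomputable def ln (a b : Sub F V 1) (h : a ≠ b) : Sub F V 2 := ⟨a.1 ⊔ b.1, finrank_line h⟩

theorem ln_val (a b : Sub F V 1) (h : a ≠ b) : (ln a b h).1 = a.1 ⊔ b.1 := rfl

theorem ln_le (a b : Sub F V 1) (h : a ≠ b) (W : Submodule F V) : (ln a b h).1 ≤ W ↔ a.1 ≤ W ∧ b.1 ≤ W := sup_le_iff

theorem exists_ln {a : Sub F V 1} {m : Sub F V 2} (h : a.1 ≤ m.1) :
    ∃ b, ∃ hab : a ≠ b, m = ln a b hab := by
  haveI : FiniteDimensional F V := Module.Finite.of_finite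
  have hnle : ¬ m.1 ≤ a.1 := fun hle => by
    have := Submodule.finrank_mono hle
    rw [m.2, a.2] at this
    omega
  obtain ⟨b, hb, hba⟩ := exists_pt_not_le hnle
  have hab : a ≠ b := fun e => hba (e ▸ le_rfl)
  exact ⟨b, hab, Subtype.ext (eq_line hab h hb m.2.le)⟩

/-- The lines through a point correspond to the points of the quotient. -/
noncomputable def lineQ (a : Sub F V 1) : {m : Sub F V 2 // a.1 ≤ m.1} ≃ Sub F (V ⧸ a.1) 1 where
  toFun m := ⟨m.1.1.map a.1.mkQ, by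
    haveI : FiniteDimensional F V := Module.Finite.of_finite
    obtain ⟨b, hab, e⟩ := exists_ln m.2
    rw [e, ln_val, Submodule.map_sup, Submodule.mkQ_map_self, bot_sup_eq]
    exact (qpt a.1 b (not_le_of_ne hab.symm)).2⟩
  invFun P := ⟨⟨P.1.comap a.1.mkQ, by rw [comap_mkQ_finrank, P.2]⟩, self_le_comap a P.1⟩
  left_inv m := Subtype.ext (Subtype.ext (by
    show (m.1.1.map a.1.mkQ).comap a.1.mkQ = m.1.1
    rw [Submodule.comap_map_eq, Submodule.ker_mkQ, sup_eq_left.mpr m.2]))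
  right_inv P := Subtype.ext (Submodule.map_comap_eq_of_surjective a.1.mkQ_surjective P.1)

theorem lineQ_le (a : Sub F V 1) (m : {m : Sub F V 2 // a.1 ≤ m.1}) (W : Submodule F V) (hW : a.1 ≤ W) :
    (lineQ a m).1 ≤ W.map a.1.mkQ ↔ m.1.1 ≤ W := by
  show m.1.1.map a.1.mkQ ≤ W.map a.1.mkQ ↔ _
  rw [Submodule.map_le_iff_le_comap, Submodule.comap_map_eq, Submodule.ker_mkQ, sup_eq_left.mpr hW]

theorem finrank_map_mkQ (a : Sub F V 1) {W : Submodule F V} (hW : a.1 ≤ W) :
    finrank F (W.map a.1.mkQ) + 1 = finrank F W := by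
  rw [← comap_mkQ_finrank a, Submodule.comap_map_eq, Submodule.ker_mkQ, sup_eq_left.mpr hW]

/-- The lines through a point inside one subspace and outside a smaller one. -/
theorem card_lines_diff (a : Sub F V 1) {W' W : Submodule F V} (ha : a.1 ≤ W') (h : W' ≤ W) :
    Nat.card {m : Sub F V 2 // a.1 ≤ m.1 ∧ m.1 ≤ W ∧ ¬ m.1 ≤ W'} * (Nat.card F - 1) +
      Nat.card F ^ (finrank F W' - 1) = Nat.card F ^ (finrank F W - 1) := by
  haveI : Nontrivial V := nontrivial_of_ne _ _ (exists_mem a).choose_spec.1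
  haveI : Finite F := finite_field (V := V)
  haveI : Finite (V ⧸ a.1) := Quotient.finite _
  rw [← finrank_map_mkQ a ha, ← finrank_map_mkQ a (ha.trans h), Nat.add_sub_cancel, Nat.add_sub_cancel,
    ← card_pts_diff (Submodule.map_mono (f := a.1.mkQ) h)]
  congr 2
  refine Nat.card_congr ((Equiv.subtypeSubtypeEquivSubtypeInter (fun m : Sub F V 2 => a.1 ≤ m.1)
    (fun m => m.1 ≤ W ∧ ¬ m.1 ≤ W')).symm.trans (Equiv.subtypeEquiv (lineQ a) fun m => ?_))
  rw [lineQ_le a m W (ha.trans h), lineQ_le a m W' ha]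

theorem smul_ln (g : V ≃ₗ[F] V) (a b : Sub F V 1) (h : a ≠ b) :
    g • ln a b h = ln (g • a) (g • b) (fun e => h (MulAction.injective g e)) :=
  Subtype.ext (Submodule.map_sup a.1 b.1 (g : V →ₗ[F] V))

theorem le_smul_iff (g : V ≃ₗ[F] V) (a : Sub F V 1) (m : Sub F V 2) : (g • a).1 ≤ (g • m).1 ↔ a.1 ≤ m.1 :=
  map_le_smul g a m.1

theorem line_le_smul (g : V ≃ₗ[F] V) (m : Sub F V 2) (W : Submodule F V) :
    (g • m).1 ≤ W.map (g : V →ₗ[F] V) ↔ m.1 ≤ W :=
  Submodule.map_le_map_iff_of_injective g.injective m.1 W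

/-- The stabiliser of a point and of a line. -/
def flg (G : Subgroup (V ≃ₗ[F] V)) (a : Sub F V 1) (m : Sub F V 2) : Subgroup (V ≃ₗ[F] V) :=
  fixer G a ⊓ MulAction.stabilizer (V ≃ₗ[F] V) m

theorem mem_flg {a : Sub F V 1} {m : Sub F V 2} {g : V ≃ₗ[F] V} :
    g ∈ flg G a m ↔ g ∈ G ∧ g • a = a ∧ g • m = m := and_assoc

/-- The stabilisers of flags have the same order. -/
theorem card_flg_eq (h2 : PairTrans G) {a b c d : Sub F V 1} (hab : a ≠ b) (hcd : c ≠ d) :
    Nat.card (flg G a (ln a b hab)) = Nat.card (flg G c (ln c d hcd)) := by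
  obtain ⟨g, hg, rfl, rfl⟩ := h2 a b c d hab hcd
  rw [← smul_ln g a b hab]
  have e : flg G (g • a) (g • ln a b hab) = (flg G a (ln a b hab)).map (MulAut.conj g).toMonoidHom := by
    ext x
    rw [Subgroup.mem_map_equiv, mem_flg, mem_flg]
    simp only [MulAut.conj_symm_apply, mul_smul]
    rw [inv_smul_eq_iff, inv_smul_eq_iff]
    exact and_congr_left fun _ => ⟨fun h => mul_mem (mul_mem (inv_mem hg) h) hg, fun h => by
      have := mul_mem (mul_mem hg h) (inv_mem hg)
      rwa [← mul_assoc, ← mul_assoc, mul_inv_cancel, one_mul, mul_assoc, mul_inv_cancel, mul_one] at this⟩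
  rw [e, Subgroup.card_map_of_injective (MulEquiv.injective _)]

/-- A large `p`-subgroup has long orbits on the lines at a point outside the subspace of a line there. -/
theorem line_orbit_large (h2 : PairTrans G) (hn : 3 ≤ finrank F V) {p f : ℕ} [Fact p.Prime] (hq : Nat.card F = p ^ f)
    {a b : Sub F V 1} (hab : a ≠ b) (P Q : Subgroup (V ≃ₗ[F] V))
    (hP : ∀ d, p ^ d ∣ Nat.card (flg G a (ln a b hab)) → p ^ d ∣ Nat.card P) (hQH : Q ≤ flg G a (ln a b hab))
    (hQp : IsPGroup p Q) {m : Sub F V 2} (ham : a.1 ≤ m.1) (hm : ¬ m.1 ≤ wl G a b) :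
    Nat.card F ^ (finrank F (wl G a b) - 1) * Nat.card Q ≤ Nat.card (MulAction.orbit Q m) * Nat.card P := by
  haveI : FiniteDimensional F V := Module.Finite.of_finite
  haveI : Nontrivial V := Module.nontrivial_of_finrank_pos (R := F) (by omega)
  haveI : Finite F := finite_field (V := V)
  haveI : Finite (V ≃ₗ[F] V) := finite_equiv
  have hgood := goodL_wl h2 hn hab.symm
  obtain ⟨haW, hbW, -, hst, htr⟩ := hgood
  have hpres : ∀ g ∈ flg G a (ln a b hab), (g • b).1 ≤ a.1 ⊔ b.1 := fun g hg => by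
    obtain ⟨-, -, hgm⟩ := mem_flg.mp hg
    have := (map_le_smul g b (ln a b hab).1).mpr le_sup_right
    rwa [← sub_smul_val, hgm] at this
  rw [hq, ← pow_mul]
  refine orbit_large (flg G a (ln a b hab)) P Q hP hQH hQp (fun m => a.1 ≤ m.1 ∧ ¬ m.1 ≤ wl G a b) ?_ ?_ ?_ ⟨ham, hm⟩
  · rintro g hg x ⟨h1, h2x⟩
    obtain ⟨hgG, hga, -⟩ := mem_flg.mp hg
    refine ⟨?_, ?_⟩
    · rw [← hga]
      exact (le_smul_iff g a x).mpr h1
    · rw [← hst g hgG hga (hpres g hg), line_le_smul]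
      exact h2x
  · rintro x y ⟨hax, hx⟩ ⟨hay, hy⟩
    obtain ⟨z, haz, rfl⟩ := exists_ln hax
    obtain ⟨z', haz', rfl⟩ := exists_ln hay
    obtain ⟨g, hg, hga, hgb, hgz⟩ := htr z z' (fun h => hx ((ln_le _ _ _ _).mpr ⟨haW, h⟩))
      (fun h => hy ((ln_le _ _ _ _).mpr ⟨haW, h⟩))
    have hgl : ∀ w, ∀ h : a ≠ w, ∀ L : Sub F V 2, a.1 ≤ L.1 → (g • w).1 ≤ L.1 → g • ln a w h = L := fun w h L hL hw =>
      Subtype.ext (Submodule.eq_of_le_of_finrank_le (by
        rw [smul_ln, ln_le, hga]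
        exact ⟨hL, hw⟩) (by rw [L.2, (g • ln a w h).2]))
    exact ⟨g, mem_flg.mpr ⟨hg, hga, hgl b hab _ le_sup_left hgb⟩,
      hgl z haz _ le_sup_left (hgz.trans (sup_comm _ _).le)⟩
  · have hc := card_lines_diff (F := F) a (W' := wl G a b) (W := ⊤) haW le_top
    simp only [le_top, true_and] at hc
    rw [pow_mul, ← hq]
    exact pow_dvd_of_count (Finite.one_lt_card (α := F)) (Nat.sub_le_sub_right
      ((Submodule.finrank_le _).trans_eq (finrank_top F V).symm) 1) hc

end CfsgLib.SingerPrime
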