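/-
The subspace at a point and a line through it depends on the line only.
-/
import Cfsg.Agent.Lib.SingerPrime.Lines
import Cfsg.Agent.Lib.SingerSeven.KillFive

set_option autoImplicit false
set_option linter.unusedSectionVars false
set_option linter.style.haveILetI false
set_option maxHeartbeats 1000000

namespace CfsgLib.SingerPrime

open Module
open CfsgLib.SingerFive (Sub pt exists_pt smul_pt pt_eq_pt sub_smul_val finite_field PairTrans)
open CfsgLib.SingerSeven

variable {F V : Type*} [Field F] [AddCommGroup V] [Module F V] [Finite V] {G : Subgroup (V ≃ₗ[F] V)}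

theorem line_stab {a b : Sub F V 1} {hab : a ≠ b} {g : V ≃ₗ[F] V} (hg : g ∈ flg G a (ln a b hab)) :
    (g • b).1 ≤ a.1 ⊔ b.1 := by
  have := (le_smul_iff g b (ln a b hab)).mpr le_sup_right
  rwa [(mem_flg.mp hg).2.2] at this

theorem wl_fixed (h2 : PairTrans G) (hn : 3 ≤ finrank F V) {a b : Sub F V 1} (hab : a ≠ b) {g : V ≃ₗ[F] V}
    (hg : g ∈ flg G a (ln a b hab)) : (wl G a b).map (g : V →ₗ[F] V) = wl G a b :=
  (goodL_wl h2 hn hab.symm).2.2.2.1 g (mem_flg.mp hg).1 (mem_flg.mp hg).2.1 (line_stab hg)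

/-- The points of a line other than one of them. -/
theorem card_line_rest [Finite F] (a : Sub F V 1) {m : Submodule F V} (hm : finrank F m = 2) (ha : a.1 ≤ m) :
    Nat.card {e : Sub F V 1 // e.1 ≤ m ∧ e ≠ a} = Nat.card F := by
  have h := card_pts_diff ha
  rw [a.2, hm, Nat.card_congr (Equiv.subtypeEquivRight fun e : Sub F V 1 => (and_congr_right fun _ =>
    not_congr ⟨fun h => eq_of_pt_le h, fun h => h ▸ le_rfl⟩ : (e.1 ≤ m ∧ ¬ e.1 ≤ a.1) ↔ (e.1 ≤ m ∧ e ≠ a)))] at h
  obtain ⟨r, hr⟩ : ∃ r, Nat.card F = r + 2 := ⟨Nat.card F - 2, by have := Finite.one_lt_card (α := F); omega⟩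
  rw [hr, show r + 2 - 1 = r + 1 from rfl, pow_one, sq] at h
  rw [hr]
  refine Nat.eq_of_mul_eq_mul_right (show 0 < r + 1 by omega) (Nat.add_right_cancel (m := r + 2) ?_)
  rw [h]
  ring

/-- The subspace depends only on the line. -/
theorem wl_symm (h2 : PairTrans G) (hn : 3 ≤ finrank F V) {a b : Sub F V 1} (hab : a ≠ b) :
    wl G b a = wl G a b := by
  classical
  haveI : FiniteDimensional F V := Module.Finite.of_finite
  haveI : Nontrivial V := Module.nontrivial_of_finrank_pos (R := F) (by omega)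
  haveI : Finite F := finite_field (V := V)
  haveI : Finite (V ≃ₗ[F] V) := finite_equiv
  have hgood : ∀ {a b : Sub F V 1}, a ≠ b → GoodL G a b (wl G a b) := fun h => goodL_wl h2 hn h.symm
  have htop := (hgood hab).2.2.1
  have hlt := Submodule.finrank_lt htop
  by_cases hh : finrank F (wl G a b) + 1 = finrank F V
  · exact wl_swap h2 hn hab hh
  set w := finrank F (wl G a b) with hw
  have hw2 : 2 ≤ w := by
    rw [← finrank_line hab]
    exact Submodule.finrank_mono (sup_le (hgood hab).1 (hgood hab).2.1)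
  obtain ⟨p, hchar⟩ := CharP.exists F
  haveI : Fact p.Prime := ⟨CharP.char_is_prime F p⟩
  obtain ⟨f, hf, hq⟩ := exists_card_field (F := F) p
  obtain ⟨S, hSle, hSp, hSmax⟩ := exists_sylow_sub p (flg G a (ln a b hab))
  -- every point of the line gives a subspace meeting in a hyperplane
  have key : ∀ e : Sub F V 1, e.1 ≤ a.1 ⊔ b.1 → e ≠ a → finrank F ↥(wl G a b ⊔ wl G e a) ≤ w + 1 := by
    intro e hel hea
    have hab' : wl G a e = wl G a b := by
      rw [wl_def a e hea (not_le_of_ne hea), wl_def a b hab.symm (not_le_of_ne hab.symm),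
        (qpt_le_iff a e b _ _).mpr (hel.trans (sup_comm _ _).le)]
    have hl : ln e a hea = ln a b hab := Subtype.ext (by
      rw [ln_val, ln_val]
      exact (eq_line hea hel le_sup_left (finrank_line hab).le).symm)
    set Y := wl G a b ⊓ wl G e a with hY
    have hwe : finrank F (wl G e a) = w := finrank_wl h2 hn hea.symm hab.symm
    have hsum := Submodule.finrank_sup_add_finrank_inf_eq (wl G a b) (wl G e a)
    suffices hy : w ≤ finrank F Y + 1 by rw [hY] at hy; omega
    by_contra hy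
    have heY : e.1 ≤ Y := le_inf (hab' ▸ (hgood hea.symm).2.1) (hgood hea).1
    have hYw : finrank F Y < w := lt_of_le_of_lt le_rfl (by omega)
    set Q := S ⊓ MulAction.stabilizer (V ≃ₗ[F] V) e with hQ
    have hQa : Q ≤ flg G e (ln e a hea) := fun g hg => by
      obtain ⟨hgG, -, hgm⟩ := mem_flg.mp (hSle hg.1)
      exact mem_flg.mpr ⟨hgG, hg.2, hl ▸ hgm⟩
    have hQp : IsPGroup p Q := hSp.to_le inf_le_left
    have hQY : ∀ g ∈ Q, Y.map (g : V →ₗ[F] V) = Y := fun g hg => by
      rw [hY, Submodule.map_inf _ g.injective, wl_fixed h2 hn hab (hSle hg.1), wl_fixed h2 hn hea (hQa hg)]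
    obtain ⟨x, ⟨hex, hxW, hxY⟩, horb⟩ := exists_small_orbit Q hQp
      (fun x : Sub F V 2 => e.1 ≤ x.1 ∧ x.1 ≤ wl G a b ∧ ¬ x.1 ≤ Y)
      (fun g hg x hx => by
        refine ⟨?_, ?_, ?_⟩
        · have := (le_smul_iff g e x).mpr hx.1
          rwa [(show g • e = e from hg.2)] at this
        · rw [← wl_fixed h2 hn hab (hSle hg.1), line_le_smul]
          exact hx.2.1
        · rw [← hQY g hg, line_le_smul]
          exact hx.2.2)
      hf hq (show finrank F Y - 1 < w - 1 by
        have := (le_of_eq e.2.symm).trans (Submodule.finrank_mono heY)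
        omega)
      (card_lines_diff e heY inf_le_left)
    have hbig := line_orbit_large h2 hn hq hea S Q (fun d hd => hSmax d (by rwa [card_flg_eq h2 hea hab] at hd)) hQa hQp
      hex (fun h => hxY (le_inf hxW h))
    rw [hwe] at hbig
    -- the stabiliser of the point has index at most the number of points
    have hidx : Nat.card S ≤ Nat.card Q * Nat.card F := by
      rw [← card_fix_mul_orbit S e]
      refine Nat.mul_le_mul_left _ ?_
      have hmS : ∀ g ∈ S, g • (ln a b hab) = ln a b hab ∧ g • a = a := fun g hg =>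
        ⟨(mem_flg.mp (hSle hg)).2.2, (mem_flg.mp (hSle hg)).2.1⟩
      rw [← card_line_rest a (ln a b hab).2 le_sup_left]
      refine Nat.card_le_card_of_injective (fun x : MulAction.orbit S e => (⟨x.1, ?_⟩ :
        {e : Sub F V 1 // e.1 ≤ (ln a b hab).1 ∧ e ≠ a})) (fun x y h => Subtype.ext (congrArg (fun z : {e : Sub F V 1 // e.1 ≤ (ln a b hab).1 ∧ e ≠ a} => z.1) h))
      obtain ⟨⟨g, hg⟩, hx⟩ := x.2
      rw [← hx]
      refine ⟨?_, fun h => hea (MulAction.injective g (h.trans (hmS g hg).2.symm))⟩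
      have := (le_smul_iff g e (ln a b hab)).mpr hel
      rwa [(hmS g hg).1] at this
    have h1 : Nat.card F ^ (w - 1) * Nat.card Q ≤ Nat.card F ^ finrank F Y * Nat.card Q := by
      refine hbig.trans ?_
      obtain ⟨y, hy'⟩ : ∃ y, finrank F Y = y + 1 := ⟨finrank F Y - 1, by
        have := (le_of_eq e.2.symm).trans (Submodule.finrank_mono heY)
        omega⟩
      rw [hy', Nat.add_sub_cancel] at horb
      rw [hy', pow_succ]
      calc _ ≤ Nat.card F ^ y * (Nat.card Q * Nat.card F) := Nat.mul_le_mul horb hidx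
        _ = _ := by ring
    have := (Nat.pow_le_pow_iff_right (Finite.one_lt_card (α := F))).mp (Nat.le_of_mul_le_mul_right h1 Nat.card_pos)
    omega
  -- too few of them to cover the space
  by_contra hne
  obtain ⟨x₀, hx₀, hx₀'⟩ : ∃ x : Sub F V 1, x.1 ≤ wl G b a ∧ ¬ x.1 ≤ wl G a b := by
    refine exists_pt_not_le fun hle => hne (Submodule.eq_of_le_of_finrank_le hle (le_of_eq ?_))
    exact finrank_wl h2 hn hab.symm hab
  let T := {m : Sub F V 2 // a.1 ≤ m.1 ∧ m.1 ≤ ⊤ ∧ ¬ m.1 ≤ wl G a b}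
  have hax : a ≠ x₀ := fun h => hx₀' (h ▸ (hgood hab).1)
  have hcover : ∀ m : T, ∃ e : {e : Sub F V 1 // e.1 ≤ a.1 ⊔ b.1 ∧ e ≠ a},
      m.1.1 ≤ wl G a b ⊔ wl G e.1 a := by
    rintro ⟨m, ham, -, hm⟩
    obtain ⟨z, haz, rfl⟩ := exists_ln ham
    have hz : ¬ z.1 ≤ wl G a b := fun h => hm ((ln_le _ _ _ _).mpr ⟨(hgood hab).1, h⟩)
    obtain ⟨g, hg, hga, hgb, hgx⟩ := (hgood hab).2.2.2.2 x₀ z hx₀' hz
    have hgb' : g • b ≠ a := fun h => hab (MulAction.injective g (h.trans hga.symm)).symm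
    refine ⟨⟨g • b, hgb, hgb'⟩, ?_⟩
    rw [ln_le]
    refine ⟨le_sup_of_le_left (hgood hab).1, ?_⟩
    show z.1 ≤ wl G a b ⊔ wl G (g • b) a
    have h1 : (g • x₀).1 ≤ wl G (g • b) a := by
      have h3 := wl_smul h2 hn (a := b) (b := a) hab hg
      rw [hga] at h3
      rw [h3, map_le_smul]
      exact hx₀
    have hgxa : g • x₀ ≠ a := fun h => hax (MulAction.injective g (h.trans hga.symm)).symm
    have h4 : z.1 ≤ a.1 ⊔ (g • x₀).1 :=
      le_sup_right.trans (eq_line hgxa.symm le_sup_left (hgx.trans (sup_comm _ _).le) (finrank_line haz).le).le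
    exact h4.trans (sup_le (le_sup_of_le_left (hgood hab).1) (le_sup_of_le_right h1))
  choose r hr using hcover
  let B := fun e : {e : Sub F V 1 // e.1 ≤ a.1 ⊔ b.1 ∧ e ≠ a} =>
    {m : Sub F V 2 // a.1 ≤ m.1 ∧ m.1 ≤ wl G a b ⊔ wl G e.1 a ∧ ¬ m.1 ≤ wl G a b}
  have hle : Nat.card T ≤ Nat.card (Σ e, B e) :=
    Nat.card_le_card_of_injective (fun m => ⟨r m, ⟨m.1, m.2.1, hr m, m.2.2.2⟩⟩)
      (fun x y h => Subtype.ext (congrArg (fun s : Σ e, B e => s.2.1) h))
  haveI : Fintype {e : Sub F V 1 // e.1 ≤ a.1 ⊔ b.1 ∧ e ≠ a} := Fintype.ofFinite _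
  rw [Nat.card_sigma] at hle
  obtain ⟨q', hq'⟩ : ∃ q', Nat.card F = q' + 2 := ⟨Nat.card F - 2, by have := Finite.one_lt_card (α := F); omega⟩
  obtain ⟨u, hu⟩ : ∃ u, w = u + 1 := ⟨w - 1, by omega⟩
  have hB : ∀ e, Nat.card (B e) ≤ Nat.card F ^ u := fun e => by
    have h := card_lines_diff (F := F) a (hgood hab).1 (le_sup_left : wl G a b ≤ wl G a b ⊔ wl G e.1 a)
    rw [← hw, hu, Nat.add_sub_cancel] at h
    have h5 := key e.1 e.2.1 e.2.2
    have h6 : Nat.card F ^ (finrank F ↥(wl G a b ⊔ wl G e.1 a) - 1) ≤ Nat.card F ^ (u + 1) :=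
      Nat.pow_le_pow_right (by omega) (by omega)
    rw [hq'] at h h6 ⊢
    rw [show q' + 2 - 1 = q' + 1 from rfl] at h
    rw [pow_succ] at h6
    refine (Nat.mul_le_mul_right_iff (show 0 < q' + 1 by omega)).mp ?_
    show Nat.card (B e) * (q' + 1) ≤ _
    linarith
  have hT := hle.trans ((Finset.sum_le_sum fun e _ => hB e).trans_eq (by
    rw [Finset.sum_const, smul_eq_mul, Finset.card_univ, ← Nat.card_eq_fintype_card,
      card_line_rest a (finrank_line hab) le_sup_left, ← pow_succ']))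
  have hc := card_lines_diff (F := F) a (W' := wl G a b) (W := ⊤) (hgood hab).1 le_top
  rw [finrank_top, ← hw, hu, Nat.add_sub_cancel] at hc
  have h7 : Nat.card F ^ (u + 2) ≤ Nat.card F ^ (finrank F V - 1) := Nat.pow_le_pow_right (by omega) (by omega)
  rw [hq', show q' + 2 - 1 = q' + 1 from rfl] at hc
  rw [hq'] at h7 hT
  have h8 := Nat.mul_le_mul_right (q' + 1) hT
  have h9 : 0 < (q' + 2) ^ u := pow_pos (by omega) u
  change Nat.card T * (q' + 1) + _ = _ at hc
  simp only [pow_succ] at h7 h8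
  nlinarith

/-- All points of the line give the same subspace. -/
theorem wl_line (h2 : PairTrans G) (hn : 3 ≤ finrank F V) {a b c d : Sub F V 1} (hab : a ≠ b) (hcd : c ≠ d)
    (h : c.1 ⊔ d.1 = a.1 ⊔ b.1) : wl G c d = wl G a b := by
  have hsame : ∀ {x y z : Sub F V 1}, y ≠ x → z ≠ x → z.1 ≤ x.1 ⊔ y.1 → wl G x z = wl G x y := by
    intro x y z hy hz hle
    rw [wl_def x z hz (not_le_of_ne hz), wl_def x y hy (not_le_of_ne hy),
      (qpt_le_iff x z y _ _).mpr (hle.trans (sup_comm _ _).le)]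
  have hc : c.1 ≤ a.1 ⊔ b.1 := h ▸ le_sup_left
  by_cases hca : c = a
  · subst hca
    exact hsame hab.symm hcd.symm (h ▸ le_sup_right)
  have hl : c.1 ⊔ a.1 = c.1 ⊔ d.1 := by
    rw [h]
    exact (eq_line hca hc le_sup_left (finrank_line hab).le).symm
  rw [hsame (Ne.symm hca) hcd.symm (hl.symm ▸ le_sup_right), wl_symm h2 hn (Ne.symm hca), hsame hab.symm hca hc]

/-- A point in the subspace of a line spans with either point of the line a line whose subspace holds the other. -/
theorem wl_rotate (h2 : PairTrans G) (hn : 3 ≤ finrank F V) {a b c : Sub F V 1} (hab : a ≠ b) (hac : a ≠ c)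
    (h : c.1 ≤ wl G a b) : b.1 ≤ wl G a c := by
  haveI : FiniteDimensional F V := Module.Finite.of_finite
  haveI : Finite (V ⧸ a.1) := Quotient.finite _
  have hk : 2 ≤ finrank F (V ⧸ a.1) := by have := finrank_quot a; omega
  rw [wl_def a b hab.symm (not_le_of_ne hab.symm), le_comap_iff] at h
  rw [wl_def a c hac.symm (not_le_of_ne hac.symm), le_comap_iff]
  exact (qgrp_antiTrans h2 (by omega) a).nb_symm hk (a := qpt a.1 b (not_le_of_ne hab.symm))
    (b := qpt a.1 c (not_le_of_ne hac.symm)) h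

end CfsgLib.SingerPrime
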