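/-
The bound from the torus: a small codimension is impossible.
-/
import Cfsg.Agent.Lib.SingerPrime.Sym
import Cfsg.Agent.Lib.SingerPrime.Digits

set_option autoImplicit false
set_option linter.unusedSectionVars false
set_option linter.style.haveILetI false
set_option maxHeartbeats 1000000

namespace CfsgLib.SingerPrime

open Module
open CfsgLib.SingerFive (Sub pt exists_pt smul_pt pt_eq_pt pt_le_iff sub_smul_val finite_field PairTrans mulE mulE_apply
  finiteDim)
open CfsgLib.SingerSeven

section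

variable {F V : Type*} [Field F] [AddCommGroup V] [Module F V] [Finite V] {G : Subgroup (V ≃ₗ[F] V)}

/-- Three vectors spanning a big plane. -/
def Big (G : Subgroup (V ≃ₗ[F] V)) (x y z : V) : Prop :=
  ∃ (hx : x ≠ 0) (hy : y ≠ 0), (pt x hx : Sub F V 1) ≠ pt y hy ∧ z ∉ wl G (pt x hx) (pt y hy)

theorem Big.rot (h2 : PairTrans G) (hn : 3 ≤ finrank F V) {x y z : V} (h : Big G x y z) : Big G y z x := by
  haveI : FiniteDimensional F V := Module.Finite.of_finite
  obtain ⟨hx, hy, hne, hz⟩ := h
  obtain ⟨haW, hbW, -, -, -⟩ := goodL_wl h2 hn hne.symm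
  have hz0 : z ≠ 0 := fun e => hz (e ▸ zero_mem _)
  have hzW : ¬ (pt z hz0 : Sub F V 1).1 ≤ wl G (pt x hx) (pt y hy) := fun hle => hz (hle (Submodule.mem_span_singleton_self z))
  have hyz : (pt y hy : Sub F V 1) ≠ pt z hz0 := fun e => hzW (e ▸ hbW)
  refine ⟨hy, hz0, hyz, fun hx' => hzW ?_⟩
  have h2' := wl_rotate h2 hn hyz hne.symm ((Submodule.span_singleton_le_iff_mem _ _).mpr hx')
  rwa [wl_symm h2 hn hne] at h2'

theorem big_smul (h2 : PairTrans G) (hn : 3 ≤ finrank F V) {g : V ≃ₗ[F] V} (hg : g ∈ G) (x y z : V) :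
    Big G x y z → Big G (g x) (g y) (g z) := by
  rintro ⟨hx, hy, hne, hz⟩
  have hx' : g x ≠ 0 := g.map_ne_zero_iff.mpr hx
  have hy' : g y ≠ 0 := g.map_ne_zero_iff.mpr hy
  have hne' : (pt (g x) hx' : Sub F V 1) ≠ pt (g y) hy' := fun e => hne (MulAction.injective g
    ((smul_pt g x hx).trans (e.trans (smul_pt g y hy).symm)))
  refine ⟨hx', hy', hne', fun hmem => hz ?_⟩
  rw [show (pt (g x) hx' : Sub F V 1) = g • pt x hx from (smul_pt g x hx).symm,
    show (pt (g y) hy' : Sub F V 1) = g • pt y hy from (smul_pt g y hy).symm, wl_smul h2 hn hne.symm hg] at hmem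
  obtain ⟨w, hw, he⟩ := hmem
  rwa [← g.injective he]

theorem big_scalar {c : F} (hc : c ≠ 0) {x y z : V} (h : Big G x y z) : Big G (c • x) (c • y) (c • z) := by
  obtain ⟨hx, hy, hne, hz⟩ := h
  have e : ∀ (v : V) (hv : v ≠ 0), (pt (c • v) (smul_ne_zero hc hv) : Sub F V 1) = pt v hv := fun v hv =>
    Subtype.ext (Submodule.span_singleton_smul_eq hc.isUnit v)
  refine ⟨smul_ne_zero hc hx, smul_ne_zero hc hy, ?_, ?_⟩
  · rw [e x hx, e y hy]; exact hne
  · rw [e x hx, e y hy]
    exact fun h => hz ((Submodule.smul_mem_iff _ hc).mp h)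

end

section

variable {F L : Type*} [Field F] [Field L] [Algebra F L] [Finite L] {M : Subgroup (L ≃ₗ[F] L)}

/-- The function with values one on big triples. -/
noncomputable def bigFun (M : Subgroup (L ≃ₗ[F] L)) (x y z : L) : L :=
  letI := Classical.propDecidable (Big M x y z)
  if Big M x y z then 1 else 0

theorem bigFun_rot (h2 : PairTrans M) (hn : 3 ≤ finrank F L) (x y z : L) : bigFun M x y z = bigFun M y z x := by
  by_cases h : Big M x y z
  · rw [bigFun, bigFun, if_pos h, if_pos (h.rot h2 hn)]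
  · rw [bigFun, bigFun, if_neg h, if_neg fun h' => h ((h'.rot h2 hn).rot h2 hn)]

/-- The indicator of the complement of a subspace has bounded degree. -/
theorem compl_mem_deg (W : Submodule F L) [DecidablePred (· ∈ W)] :
    (fun x : L => if x ∈ W then (0 : L) else 1) ∈
      deg L (Nat.card F) (finrank F L) ((finrank F L - finrank F W) * (Nat.card F - 1)) := by
  classical
  haveI : FiniteDimensional F L := finiteDim
  haveI : Finite F := Finite.of_injective _ (algebraMap F L).injective
  haveI : Fintype F := Fintype.ofFinite F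
  let D := (Algebra.traceForm F L).toDual (traceForm_nondegenerate F L)
  haveI : Module.Free F ↥(W.dualAnnihilator) :=
    @Module.Free.of_divisionRing F W.dualAnnihilator _ (Submodule.addCommGroup _) _
  let b := Module.finBasis F W.dualAnnihilator
  have hdim : finrank F W.dualAnnihilator = finrank F L - finrank F W := by
    have := Subspace.finrank_add_finrank_dualAnnihilator_eq W
    omega
  let ℓ : Fin (finrank F W.dualAnnihilator) → L → L := fun i x =>
    algebraMap F L (Algebra.trace F L (D.symm (b i : Dual F L) * x))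
  have hℓ : ∀ i x, ℓ i x = algebraMap F L ((b i : Dual F L) x) := fun i x => by
    show algebraMap F L _ = _
    rw [← Algebra.traceForm_apply, LinearMap.BilinForm.apply_toDual_symm_apply]
  have hrw : (fun x : L => if x ∈ W then (0 : L) else 1) = 1 - ∏ i, (1 - (ℓ i) ^ (Nat.card F - 1)) := by
    funext x
    simp only [Pi.sub_apply, Pi.one_apply, Finset.prod_apply, Pi.pow_apply]
    by_cases hx : x ∈ W
    · rw [if_pos hx, Finset.prod_eq_one, sub_self]
      intro i _
      rw [hℓ, (Submodule.mem_dualAnnihilator _).mp (b i).2 x hx, map_zero,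
        zero_pow (by have := Finite.one_lt_card (α := F); omega), sub_zero]
    · rw [if_neg hx]
      obtain ⟨i, hi⟩ : ∃ i, (b i : Dual F L) x ≠ 0 := by
        by_contra hall
        push Not at hall
        refine hx ?_
        rw [← Subspace.dualAnnihilator_dualCoannihilator_eq (W := W), Submodule.mem_dualCoannihilator]
        intro φ hφ
        have e := congrArg (fun v : W.dualAnnihilator => (v : Dual F L) x) (b.sum_repr ⟨φ, hφ⟩)
        simp only [Submodule.coe_sum, Submodule.coe_smul, LinearMap.sum_apply, LinearMap.smul_apply, hall,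
          smul_zero, Finset.sum_const_zero] at e
        exact e.symm
      rw [Finset.prod_eq_zero (Finset.mem_univ i), sub_zero]
      rw [hℓ, ← map_pow, Nat.card_eq_fintype_card, FiniteField.pow_card_sub_one_eq_one _ hi, map_one, sub_self]
  rw [hrw, ← hdim]
  refine sub_mem (one_mem_deg _ _ _) ?_
  have h := prod_mem_deg (L := L) (q := Nat.card F) (n := finrank F L) (d := Nat.card F - 1) Finset.univ
    (fun i => 1 - (ℓ i) ^ (Nat.card F - 1)) (fun i _ => sub_mem (one_mem_deg _ _ _) (by
      have := pow_mem_deg (trace_mem_deg (F := F) (D.symm (b i : Dual F L))) (Nat.card F - 1)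
      rwa [mul_one] at this))
  rwa [Finset.card_univ, Fintype.card_fin] at h

/-- Multiplications by norm one elements and scalars preserve big triples. -/
theorem big_mul (h2 : PairTrans M) (hn : 3 ≤ finrank F L)
    (hmul : ∀ u : Lˣ, Algebra.norm F (u : L) = 1 → mulE u ∈ M) {u : Lˣ} (hu : Algebra.norm F (u : L) = 1) (x y z : L) :
    Big M x y z → Big M ((u : L) * x) ((u : L) * y) ((u : L) * z) :=
  big_smul h2 hn (hmul u hu) x y z

/-- A triple all whose multiples are big. -/
theorem exists_all_big (h2 : PairTrans M) (hn : 3 ≤ finrank F L)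
    (hmul : ∀ u : Lˣ, Algebra.norm F (u : L) = 1 → mulE u ∈ M) :
    ∃ x y z : L, ∀ c : Lˣ, Big M ((c : L) * x) ((c : L) * y) ((c : L) * z) := by
  classical
  haveI : FiniteDimensional F L := finiteDim
  haveI : Finite F := Finite.of_injective _ (algebraMap F L).injective
  haveI : Fintype F := Fintype.ofFinite F
  haveI : Nontrivial L := inferInstance
  obtain ⟨y, hy0, hy⟩ : ∃ y : L, ∃ hy : y ≠ 0, (pt (1 : L) one_ne_zero : Sub F L 1) ≠ pt y hy := by
    by_contra h
    push Not at h
    have h1 : (⊤ : Submodule F L) ≤ F ∙ (1 : L) := fun x _ => by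
      by_cases hx : x = 0
      · rw [hx]; exact zero_mem _
      · rw [show (F ∙ (1 : L)) = F ∙ x from congrArg Subtype.val (h x hx)]
        exact Submodule.mem_span_singleton_self x
    have := Submodule.finrank_mono h1
    rw [finrank_top, finrank_span_singleton one_ne_zero] at this
    omega
  have hne : ∀ c : Lˣ, (pt ((c : L) * 1) (mul_ne_zero c.ne_zero one_ne_zero) : Sub F L 1) ≠
      pt ((c : L) * y) (mul_ne_zero c.ne_zero hy0) := fun c e => hy (by
    refine MulAction.injective (mulE c : L ≃ₗ[F] L) ?_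
    have e1 : ∀ (v : L) (hv : v ≠ 0), (mulE c : L ≃ₗ[F] L) • (pt v hv : Sub F L 1) =
        pt ((c : L) * v) (mul_ne_zero c.ne_zero hv) := fun v hv =>
      (smul_pt (mulE c : L ≃ₗ[F] L) v hv).trans (Subtype.ext rfl)
    exact (e1 1 one_ne_zero).trans (e.trans (e1 y hy0).symm))
  -- one subspace for each norm
  choose r hr using FiniteField.unitsMap_norm_surjective F L
  let W : Fˣ → Submodule F L := fun e =>
    (wl M (pt ((r e : L) * 1) (mul_ne_zero (r e).ne_zero one_ne_zero)) (pt ((r e : L) * y)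
      (mul_ne_zero (r e).ne_zero hy0))).comap ((mulE (r e) : L ≃ₗ[F] L) : L →ₗ[F] L)
  have hW : ∀ e, W e ≠ ⊤ := fun e he => by
    refine (goodL_wl h2 hn (hne (r e)).symm).2.2.1 (eq_top_iff.mpr fun x _ => ?_)
    have h1 : (mulE (r e) : L ≃ₗ[F] L).symm x ∈ W e := he ▸ Submodule.mem_top
    simpa [W] using h1
  have hcard : (Finset.univ : Finset Fˣ).card < ENat.card F := by
    rw [ENat.card_eq_coe_fintype_card, Finset.card_univ, Fintype.card_units]
    exact_mod_cast Nat.sub_lt Fintype.card_pos one_pos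
  obtain ⟨z, hz⟩ : ∃ z, ∀ e, z ∉ W e := by
    have := Submodule.iUnion_ssubset_of_forall_ne_top_of_card_lt Finset.univ W hW hcard
    obtain ⟨z, -, hz⟩ := Set.exists_of_ssubset this
    exact ⟨z, fun e he => hz (Set.mem_biUnion (Finset.mem_univ e) he)⟩
  refine ⟨1, y, z, fun c => ?_⟩
  set e := Units.map (Algebra.norm F : L →* F) c with he
  have hb : Big M ((r e : L) * 1) ((r e : L) * y) ((r e : L) * z) :=
    ⟨_, _, hne (r e), fun h => hz e (by simpa [W] using h)⟩
  have hnorm : Algebra.norm F ((c * (r e)⁻¹ : Lˣ) : L) = 1 := by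
    have : Units.map (Algebra.norm F : L →* F) (c * (r e)⁻¹) = 1 := by rw [map_mul, map_inv, hr, ← he, mul_inv_cancel]
    exact congrArg Units.val this
  have := big_mul h2 hn hmul hnorm _ _ _ hb
  simp only [Units.val_mul, ← mul_assoc, inv_mul_cancel_right₀ (r e).ne_zero, Units.val_inv_eq_inv_val] at this
  simpa [mul_assoc] using this

/-- Expanding a function whose slices have bounded degree. -/
theorem exists_expand {d : ℕ} (q n : ℕ) : ∃ (s : Finset ℕ) (R : (L → L) →ₗ[L] (s → L)), (∀ m ∈ s, m ∈ expSet q n d) ∧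
    ∀ g ∈ deg L q n d, ∀ x : L, g x = ∑ m : s, R g m * x ^ (m : ℕ) := by
  classical
  let s := (expSet_finite q n d).toFinset
  let Φ : (s → L) →ₗ[L] (L → L) := Fintype.linearCombination L (fun m : s => fun x : L => x ^ (m : ℕ))
  have hrange : deg L q n d ≤ LinearMap.range Φ := by
    rw [deg, Submodule.span_le]
    rintro _ ⟨m, hm, rfl⟩
    exact ⟨Pi.single ⟨m, (expSet_finite q n d).mem_toFinset.mpr hm⟩ 1, by
      rw [Fintype.linearCombination_apply_single, one_smul]⟩
  obtain ⟨g, hg⟩ := Φ.rangeRestrict.exists_rightInverse_of_surjective Φ.range_rangeRestrict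
  obtain ⟨R, hR⟩ := g.exists_extend
  refine ⟨s, R, fun m hm => (expSet_finite q n d).mem_toFinset.mp hm, fun f hf x => ?_⟩
  have h1 : R f = g ⟨f, hrange hf⟩ := LinearMap.congr_fun hR ⟨f, hrange hf⟩
  have h2 : Φ (g ⟨f, hrange hf⟩) = f := congrArg Subtype.val (LinearMap.congr_fun hg ⟨f, hrange hf⟩)
  rw [← h1] at h2
  conv_lhs => rw [← h2]
  simp [Φ, Fintype.linearCombination_apply, Finset.sum_apply]

/-- The codimension of the subspaces of the lines is at least a third of the degree. -/
theorem torus_bound (h2 : PairTrans M) (hn : 3 ≤ finrank F L)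
    (hmul : ∀ u : Lˣ, Algebra.norm F (u : L) = 1 → mulE u ∈ M) {a b : Sub F L 1} (hab : a ≠ b) :
    finrank F L ≤ 3 * (finrank F L - finrank F (wl M a b)) := by
  classical
  haveI : FiniteDimensional F L := finiteDim
  haveI : Finite F := Finite.of_injective _ (algebraMap F L).injective
  haveI : Fintype L := Fintype.ofFinite L
  set q := Nat.card F with hq
  set n := finrank F L with hn'
  set s := n - finrank F (wl M a b) with hs
  set d := s * (q - 1) with hd
  -- every slice has bounded degree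
  have hslice : ∀ y z : L, (fun x => bigFun M x y z) ∈ deg L q n d := by
    intro y z
    have hcycle : ∀ x, bigFun M x y z = bigFun M y z x := fun x => bigFun_rot h2 hn x y z
    simp only [hcycle]
    by_cases h : ∃ (hy : y ≠ 0) (hz : z ≠ 0), (pt y hy : Sub F L 1) ≠ pt z hz
    · obtain ⟨hy, hz, hne⟩ := h
      have e : (fun x => bigFun M y z x) = fun x => if x ∈ wl M (pt y hy) (pt z hz) then (0 : L) else 1 := by
        funext x
        by_cases hx : x ∈ wl M (pt y hy) (pt z hz)
        · rw [if_pos hx, bigFun, if_neg]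
          rintro ⟨_, _, _, h⟩
          exact h hx
        · rw [if_neg hx, bigFun, if_pos]
          exact ⟨hy, hz, hne, hx⟩
      rw [e, hd, hs, show finrank F (wl M a b) = finrank F (wl M (pt y hy) (pt z hz)) from
        finrank_wl h2 hn hab.symm hne.symm]
      exact compl_mem_deg _
    · rw [show (fun x => bigFun M y z x) = 0 from funext fun x => by
        rw [bigFun, if_neg]
        · rfl
        · rintro ⟨hy, hz, hne, -⟩
          exact h ⟨hy, hz, hne⟩]
      exact zero_mem _
  have hzero : bigFun M 0 0 0 = 0 := by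
    rw [bigFun, if_neg]
    rintro ⟨h, -⟩
    exact h rfl
  obtain ⟨S, R, hS, hR⟩ := exists_expand (L := L) (d := d) q n
  -- the coefficients
  have hlin : ∀ (g : L → L) (m : S), R g m = ∑ t : L, g t * R (Pi.single t 1) m := fun g m => by
    conv_lhs => rw [← Finset.univ_sum_single g, map_sum, Finset.sum_apply]
    refine Finset.sum_congr rfl fun t _ => ?_
    rw [show Pi.single t (g t) = g t • Pi.single t (1 : L) by rw [← Pi.single_smul', smul_eq_mul, mul_one],
      map_smul, Pi.smul_apply, smul_eq_mul]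
  have hz1 : ∀ x y z, bigFun M x y z = ∑ m₁ : S, R (fun x => bigFun M x y z) m₁ * x ^ (m₁ : ℕ) :=
    fun x y z => hR _ (hslice y z) x
  have hy1 : ∀ (m₁ : S) (y z : L), R (fun x => bigFun M x y z) m₁ =
      ∑ m₂ : S, R (fun y => R (fun x => bigFun M x y z) m₁) m₂ * y ^ (m₂ : ℕ) := by
    intro m₁ y z
    refine hR (fun y => R (fun x => bigFun M x y z) m₁) ?_ y
    rw [show (fun y => R (fun x => bigFun M x y z) m₁) =
      ∑ t : L, (R (Pi.single t 1) m₁) • fun y => bigFun M t y z from funext fun y => by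
        rw [hlin, Finset.sum_apply]
        exact Finset.sum_congr rfl fun t _ => by rw [Pi.smul_apply, smul_eq_mul, mul_comm]]
    refine Submodule.sum_mem _ fun t _ => Submodule.smul_mem _ _ ?_
    rw [show (fun y => bigFun M t y z) = fun y => bigFun M y z t from funext fun y => bigFun_rot h2 hn t y z]
    exact hslice z t
  have hx1 : ∀ (m₁ m₂ : S) (z : L), R (fun y => R (fun x => bigFun M x y z) m₁) m₂ =
      ∑ m₃ : S, R (fun z => R (fun y => R (fun x => bigFun M x y z) m₁) m₂) m₃ * z ^ (m₃ : ℕ) := by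
    intro m₁ m₂ z
    refine hR (fun z => R (fun y => R (fun x => bigFun M x y z) m₁) m₂) ?_ z
    rw [show (fun z => R (fun y => R (fun x => bigFun M x y z) m₁) m₂) =
      ∑ u : L, ∑ t : L, (R (Pi.single t 1) m₁ * R (Pi.single u 1) m₂) • fun z => bigFun M t u z from funext fun z => by
        rw [hlin, Finset.sum_apply]
        refine Finset.sum_congr rfl fun u _ => ?_
        rw [hlin (fun x => bigFun M x u z), Finset.sum_mul, Finset.sum_apply]
        exact Finset.sum_congr rfl fun t _ => by rw [Pi.smul_apply, smul_eq_mul]; ring]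
    refine Submodule.sum_mem _ fun u _ => Submodule.sum_mem _ fun t _ => Submodule.smul_mem _ _ ?_
    rw [show (fun z => bigFun M t u z) = fun z => bigFun M z t u from funext fun z =>
      (bigFun_rot h2 hn z t u).symm]
    exact hslice t u
  set C : S → S → S → L := fun m₁ m₂ m₃ => R (fun z => R (fun y => R (fun x => bigFun M x y z) m₁) m₂) m₃ with hC
  have hexp : ∀ x y z, bigFun M x y z =
      ∑ m₁ : S, ∑ m₂ : S, ∑ m₃ : S, C m₁ m₂ m₃ * (x ^ (m₁ : ℕ) * y ^ (m₂ : ℕ) * z ^ (m₃ : ℕ)) := by
    intro x y z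
    rw [hz1]
    refine Finset.sum_congr rfl fun m₁ _ => ?_
    rw [hy1, Finset.sum_mul]
    refine Finset.sum_congr rfl fun m₂ _ => ?_
    rw [hx1, Finset.sum_mul, Finset.sum_mul]
    exact Finset.sum_congr rfl fun m₃ _ => by rw [hC]; ring
  -- the sum over all multiples
  by_contra hlt
  push Not at hlt
  have hcardL : Fintype.card L = q ^ n := by
    rw [← Nat.card_eq_fintype_card, Module.natCard_eq_pow_finrank (K := F) (V := L)]
  have hcoef : ∀ m₁ m₂ m₃ : S, ∀ x y z : L,
      ∑ c : Lˣ, C m₁ m₂ m₃ * (((c : L) * x) ^ (m₁ : ℕ) * ((c : L) * y) ^ (m₂ : ℕ) * ((c : L) * z) ^ (m₃ : ℕ)) =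
        if (m₁ : ℕ) + m₂ + m₃ = 0 then -(C m₁ m₂ m₃) else 0 := by
    intro m₁ m₂ m₃ x y z
    have h1 : ∀ c : Lˣ, C m₁ m₂ m₃ * (((c : L) * x) ^ (m₁ : ℕ) * ((c : L) * y) ^ (m₂ : ℕ) * ((c : L) * z) ^ (m₃ : ℕ)) =
        C m₁ m₂ m₃ * (x ^ (m₁ : ℕ) * y ^ (m₂ : ℕ) * z ^ (m₃ : ℕ)) * (c : L) ^ ((m₁ : ℕ) + m₂ + m₃) := fun c => by ring
    rw [Finset.sum_congr rfl fun c _ => h1 c, ← Finset.mul_sum, FiniteField.sum_pow_units, hcardL]
    by_cases h0 : (m₁ : ℕ) + m₂ + m₃ = 0
    · obtain ⟨e1, e2, e3⟩ : (m₁ : ℕ) = 0 ∧ (m₂ : ℕ) = 0 ∧ (m₃ : ℕ) = 0 := by omega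
      rw [if_pos (by rw [h0]; exact dvd_zero _), if_pos h0, e1, e2, e3]
      simp
    · rw [if_neg h0, if_neg, mul_zero]
      intro hdvd
      obtain ⟨e₁, h₁, q₁⟩ := hS _ m₁.2
      obtain ⟨e₂, h₂, q₂⟩ := hS _ m₂.2
      obtain ⟨e₃, h₃, q₃⟩ := hS _ m₃.2
      rw [q₁, q₂, q₃, ← dval_add, ← dval_add] at hdvd h0
      have hb := digit_bound (Finite.one_lt_card (α := F)) _ (e₁ + e₂ + e₃) rfl (Nat.pos_of_ne_zero h0) hdvd
      simp only [Pi.add_apply, Finset.sum_add_distrib, ← hq] at hb
      rw [hd] at h₁ h₂ h₃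
      have hq2 : 0 < q - 1 := by have := Finite.one_lt_card (α := F); omega
      have : n * (q - 1) ≤ 3 * s * (q - 1) := by rw [mul_assoc]; omega
      have := Nat.le_of_mul_le_mul_right this hq2
      omega
  have hconst : ∀ x y z : L, ∑ c : Lˣ, bigFun M ((c : L) * x) ((c : L) * y) ((c : L) * z) =
      ∑ m₁ : S, ∑ m₂ : S, ∑ m₃ : S, if (m₁ : ℕ) + m₂ + m₃ = 0 then -(C m₁ m₂ m₃) else 0 := by
    intro x y z
    rw [Finset.sum_congr rfl fun c _ => hexp _ _ _, Finset.sum_comm]
    refine Finset.sum_congr rfl fun m₁ _ => ?_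
    rw [Finset.sum_comm]
    refine Finset.sum_congr rfl fun m₂ _ => ?_
    rw [Finset.sum_comm]
    exact Finset.sum_congr rfl fun m₃ _ => hcoef m₁ m₂ m₃ x y z
  obtain ⟨x, y, z, hall⟩ := exists_all_big h2 hn hmul
  have h1 := (hconst x y z).trans (hconst 0 0 0).symm
  simp only [mul_zero, hzero, Finset.sum_const_zero] at h1
  have hone : ∀ c : Lˣ, bigFun M ((c : L) * x) ((c : L) * y) ((c : L) * z) = (c : L) ^ 0 := fun c => by
    rw [bigFun, if_pos (hall c), pow_zero]
  simp only [hone] at h1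
  rw [FiniteField.sum_pow_units, if_pos (dvd_zero _)] at h1
  exact neg_ne_zero.mpr one_ne_zero h1

end

end CfsgLib.SingerPrime
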