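/-
The sums `1 + q + ... + q ^ (m - 1)`.
-/
import Cfsg.Agent.Lib.SingerSeven.Tools

set_option autoImplicit false
set_option linter.unusedSectionVars false
set_option linter.style.haveILetI false
set_option maxHeartbeats 1000000

namespace CfsgLib.SingerPrime

open Module
open CfsgLib.SingerFive (Sub finite_field)
open CfsgLib.SingerSeven

/-- The number of points of a space of dimension `m`. -/
def geo (q m : ℕ) : ℕ := ∑ t ∈ Finset.range m, q ^ t

@[simp] theorem geo_zero (q : ℕ) : geo q 0 = 0 := rfl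

theorem geo_succ (q m : ℕ) : geo q (m + 1) = geo q m + q ^ m := Finset.sum_range_succ _ _

theorem geo_add (q a b : ℕ) : geo q (a + b) = geo q a + q ^ a * geo q b := by
  induction b with
  | zero => simp
  | succ b ih => rw [← add_assoc, geo_succ, geo_succ, ih, mul_add, pow_add, add_assoc]

theorem geo_spec {q : ℕ} (hq : 2 ≤ q) (m : ℕ) : geo q m * (q - 1) + 1 = q ^ m := by
  obtain ⟨r, rfl⟩ : ∃ r, q = r + 2 := ⟨q - 2, by omega⟩
  rw [show r + 2 - 1 = r + 1 from rfl]
  induction m with
  | zero => simp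
  | succ m ih =>
    rw [geo_succ, pow_succ, add_mul, add_right_comm, ih]
    ring

theorem geo_strictMono {q : ℕ} (hq : 2 ≤ q) : StrictMono (geo q) :=
  strictMono_nat_of_lt_succ fun m => by
    rw [geo_succ]
    have := pow_pos (show 0 < q by omega) m
    omega

theorem geo_pos {q m : ℕ} (hq : 2 ≤ q) (hm : 0 < m) : 0 < geo q m := by
  simpa using geo_strictMono hq hm

theorem geo_gcd {q : ℕ} (hq : 2 ≤ q) (a b : ℕ) : Nat.gcd (geo q a) (geo q b) = geo q (Nat.gcd a b) := by
  have h : ∀ m, geo q m * (q - 1) = q ^ m - 1 := fun m => by have := geo_spec hq m; omega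
  have h1 := Nat.pow_sub_one_gcd_pow_sub_one q a b
  rw [← h, ← h, ← h, Nat.gcd_mul_right] at h1
  exact Nat.eq_of_mul_eq_mul_right (by omega) h1

theorem dvd_of_geo_dvd {q a b : ℕ} (hq : 2 ≤ q) (h : geo q a ∣ geo q b) : a ∣ b := by
  have h1 := geo_gcd hq a b
  rw [Nat.gcd_eq_left h] at h1
  exact Nat.gcd_eq_left_iff_dvd.mp ((geo_strictMono hq).injective h1).symm

variable {F U : Type*} [Field F] [AddCommGroup U] [Module F U] [Finite U]

theorem card_pts_geo [Finite F] (L : Submodule F U) :
    Nat.card {P : Sub F U 1 // P.1 ≤ L} = geo (Nat.card F) (finrank F L) := by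
  have hq : 2 ≤ Nat.card F := Finite.one_lt_card
  refine Nat.eq_of_mul_eq_mul_right (show 0 < Nat.card F - 1 by omega) (Nat.add_right_cancel (m := 1) ?_)
  rw [geo_spec hq, card_pts_dim]

theorem card_pts_geo_diff [Finite F] {L L' : Submodule F U} (h : L' ≤ L) :
    Nat.card {P : Sub F U 1 // P.1 ≤ L ∧ ¬ P.1 ≤ L'} + geo (Nat.card F) (finrank F L') =
      geo (Nat.card F) (finrank F L) := by
  have hq : 2 ≤ Nat.card F := Finite.one_lt_card
  refine Nat.eq_of_mul_eq_mul_right (show 0 < Nat.card F - 1 by omega) (Nat.add_right_cancel (m := 1) ?_)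
  rw [geo_spec hq, add_mul, add_assoc, geo_spec hq, card_pts_diff h]

end CfsgLib.SingerPrime
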