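/-
The subspaces at the points of a group transitive on antiflags, when their codimension lies between a third
and a half: three possible meets.
-/
import Cfsg.Agent.Lib.SingerPrime.Orbit
import Cfsg.Agent.Lib.SingerPrime.Geo

set_option autoImplicit false
set_option linter.unusedSectionVars false
set_option linter.style.haveILetI false
set_option maxHeartbeats 1000000

namespace CfsgLib.SingerPrime

open Module
open CfsgLib.SingerFive (Sub pt exists_pt sub_smul_val finite_field dualE dualE_apply)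
open CfsgLib.SingerSeven

variable {F U : Type*} [Field F] [AddCommGroup U] [Module F U] [Finite U] {X : Subgroup (U ≃ₗ[F] U)}

/-- The annihilator of the subspace at a point. -/
noncomputable def ann (X : Subgroup (U ≃ₗ[F] U)) (x : Sub F U 1) : Submodule F (Dual F U) := (nb X x).dualAnnihilator

/-- The subspace of the points whose small hyperplanes include a given set. -/
noncomputable def din (X : Subgroup (U ≃ₗ[F] U)) (B : Submodule F (Dual F U)) : Submodule F U :=
  ⨅ Φ : {Φ : Sub F (Dual F U) 1 // Φ.1 ≤ B},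
    (nb (X.map (dualE : (U ≃ₗ[F] U) →* (Dual F U ≃ₗ[F] Dual F U))) Φ.1).dualCoannihilator

/-- A system with codimension between a third and a half. -/
structure Sys (X : Subgroup (U ≃ₗ[F] U)) (w s : ℕ) : Prop where
  anti : AntiTrans X
  dim : finrank F U = w + s
  sub : ∀ a, finrank F (nb X a) = w
  half : s < w
  third : w + s < 3 * s

variable {w s : ℕ}

theorem Sys.hk (Y : Sys X w s) : 2 ≤ finrank F U := by
  rw [Y.dim]
  have := Y.half
  have := Y.third
  omega

theorem Sys.q_two (Y : Sys X w s) : 2 ≤ Nat.card F := by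
  haveI : Nontrivial U := Module.nontrivial_of_finrank_pos (R := F) (by have := Y.hk; omega)
  haveI : Finite F := finite_field (V := U)
  exact Finite.one_lt_card

theorem Sys.le_ann_iff_small (_Y : Sys X w s) (x : Sub F U 1) (Φ : Sub F (Dual F U) 1) :
    Φ.1 ≤ ann X x ↔ nb X x ≤ Φ.1.dualCoannihilator := le_ann_iff _ _

/-- The hyperplanes small at a point determine it as a point of their subspaces. -/
theorem Sys.le_din_iff (Y : Sys X w s) (x : Sub F U 1) (B : Submodule F (Dual F U)) :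
    x.1 ≤ din X B ↔ B ≤ ann X x := by
  haveI : Nontrivial U := Module.nontrivial_of_finrank_pos (R := F) (by have := Y.hk; omega)
  haveI : Finite F := finite_field (V := U)
  haveI : FiniteDimensional F U := Module.Finite.of_finite
  haveI : Finite (Dual F U) := finite_dual
  have key : ∀ Φ : Sub F (Dual F U) 1, x.1 ≤ (nb (X.map (dualE : (U ≃ₗ[F] U) →* _)) Φ).dualCoannihilator ↔
      Φ.1 ≤ ann X x := fun Φ => by
    rw [Y.le_ann_iff_small, Y.anti.flag_iff Y.hk, le_ann_iff]
  rw [din, le_iInf_iff]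
  constructor
  · intro h
    refine le_of_pts fun Φ hΦ => ?_
    exact (key Φ).mp (h ⟨Φ, hΦ⟩)
  · exact fun h Φ => (key Φ.1).mpr (Φ.2.trans h)

theorem Sys.finrank_ann (Y : Sys X w s) (x : Sub F U 1) : finrank F (ann X x) = s := by
  haveI : FiniteDimensional F U := Module.Finite.of_finite
  have := Subspace.finrank_add_finrank_dualAnnihilator_eq (nb X x)
  rw [Y.sub, Y.dim] at this
  show finrank F (nb X x).dualAnnihilator = s
  omega

theorem din_le_of_pt {B : Submodule F (Dual F U)} (Φ : Sub F (Dual F U) 1) (h : Φ.1 ≤ B) :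
    din X B ≤ din X Φ.1 := le_iInf fun Ψ => iInf_le _ (⟨Ψ.1, Ψ.2.trans h⟩ : {Ψ : Sub F (Dual F U) 1 // Ψ.1 ≤ B})

/-- The points of a small hyperplane form a space of dimension the codimension. -/
theorem Sys.finrank_din_pt (Y : Sys X w s) (Φ : Sub F (Dual F U) 1) : finrank F (din X Φ.1) = s := by
  haveI : Nontrivial U := Module.nontrivial_of_finrank_pos (R := F) (by have := Y.hk; omega)
  haveI : Finite F := finite_field (V := U)
  haveI : FiniteDimensional F U := Module.Finite.of_finite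
  haveI : Finite (Dual F U) := finite_dual
  have e : din X Φ.1 = (nb (X.map (dualE : (U ≃ₗ[F] U) →* _)) Φ).dualCoannihilator :=
    le_antisymm (iInf_le _ (⟨Φ, le_rfl⟩ : {Ψ : Sub F (Dual F U) 1 // Ψ.1 ≤ Φ.1}))
      (le_iInf fun Ψ => le_of_eq (by rw [eq_of_pt_le Ψ.2]))
  rw [e, Subspace.finrank_dualCoannihilator_eq]
  obtain ⟨p, hp⟩ := exists_pt_le (F := F) (U := U) (L := ⊤) (by rw [finrank_top, Y.dim]; have := Y.half; omega)
  have h1 := Subspace.finrank_add_finrank_dualAnnihilator_eq (nb (X.map (dualE : (U ≃ₗ[F] U) →* _)) Φ)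
  rw [Subspace.dual_finrank_eq, Y.dim, Y.anti.finrank_nb_dual Y.hk p Φ, Y.sub] at h1
  omega

theorem Sys.ann_smul (Y : Sys X w s) {g : U ≃ₗ[F] U} (hg : g ∈ X) (x : Sub F U 1) :
    ann X (g • x) = (ann X x).map (dualE g : Dual F U →ₗ[F] Dual F U) := by
  haveI : FiniteDimensional F U := Module.Finite.of_finite
  refine (Submodule.eq_of_le_of_finrank_le ?_ (by rw [LinearEquiv.finrank_map_eq, Y.finrank_ann, Y.finrank_ann])).symm
  rintro _ ⟨φ, hφ, rfl⟩
  refine (Submodule.mem_dualAnnihilator _).mpr fun y hy => ?_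
  rw [Y.anti.nb_smul Y.hk hg] at hy
  obtain ⟨z, hz, rfl⟩ := hy
  rw [LinearEquiv.coe_coe, LinearEquiv.coe_coe, dualE_apply, g.symm_apply_apply]
  exact (Submodule.mem_dualAnnihilator _).mp hφ z hz

/-- Outside the subspace of a point the large subgroups of its stabiliser have long orbits. -/
theorem Sys.orbit_out (Y : Sys X w s) {p f : ℕ} [Fact p.Prime] (hq : Nat.card F = p ^ f) {a : Sub F U 1}
    (P Q : Subgroup (U ≃ₗ[F] U)) (hP : ∀ d, p ^ d ∣ Nat.card (fixer X a) → p ^ d ∣ Nat.card P) (hQa : Q ≤ fixer X a)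
    (hQp : IsPGroup p Q) {x : Sub F U 1} (hx : ¬ x.1 ≤ nb X a) :
    Nat.card F ^ w * Nat.card Q ≤ Nat.card (MulAction.orbit Q x) * Nat.card P := by
  haveI : Nontrivial U := Module.nontrivial_of_finrank_pos (R := F) (by have := Y.hk; omega)
  haveI : Finite F := finite_field (V := U)
  haveI : FiniteDimensional F U := Module.Finite.of_finite
  haveI : Finite (U ≃ₗ[F] U) := finite_equiv
  obtain ⟨-, -, hst, htr⟩ := Y.anti.good Y.hk a
  rw [hq, ← pow_mul]
  refine orbit_large (fixer X a) P Q hP hQa hQp (fun z => ¬ z.1 ≤ nb X a) ?_ ?_ ?_ hx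
  · rintro g ⟨hg, hga⟩ z hz
    rw [← hst g hg hga, map_le_smul]
    exact hz
  · intro z z' hz hz'
    obtain ⟨g, hg, hga, e⟩ := htr z z' hz hz'
    exact ⟨g, ⟨hg, hga⟩, e⟩
  · have hc := card_pts_diff (F := F) (L := ⊤) (L' := nb X a) le_top
    simp only [le_top, true_and] at hc
    rw [pow_mul, ← hq, ← Y.sub a]
    exact pow_dvd_of_count Y.q_two ((Submodule.finrank_le _).trans_eq (finrank_top F U).symm) hc

/-- A large subgroup of the stabiliser of a point. -/
theorem Sys.exists_sylow (_Y : Sys X w s) (p : ℕ) [Fact p.Prime] (a : Sub F U 1) :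
    ∃ P : Subgroup (U ≃ₗ[F] U), P ≤ fixer X a ∧ IsPGroup p P ∧
      ∀ d, p ^ d ∣ Nat.card (fixer X a) → p ^ d ∣ Nat.card P := by
  haveI : Finite (U ≃ₗ[F] U) := finite_equiv
  exact exists_sylow_sub p (fixer X a)

/-- The points of a small hyperplane of a point lie in the subspace of the point. -/
theorem Sys.din_le_nb (Y : Sys X w s) {a : Sub F U 1} {Φ : Sub F (Dual F U) 1} (h : Φ.1 ≤ ann X a) :
    din X Φ.1 ≤ nb X a := by
  classical
  haveI : Nontrivial U := Module.nontrivial_of_finrank_pos (R := F) (by have := Y.hk; omega)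
  haveI : Finite F := finite_field (V := U)
  haveI : FiniteDimensional F U := Module.Finite.of_finite
  haveI : Finite (Dual F U) := finite_dual
  haveI : Finite (U ≃ₗ[F] U) := finite_equiv
  haveI : Finite (Dual F U ≃ₗ[F] Dual F U) := finite_equiv
  obtain ⟨p, hchar⟩ := CharP.exists F
  haveI : Fact p.Prime := ⟨CharP.char_is_prime F p⟩
  obtain ⟨f, hf, hq⟩ := exists_card_field (F := F) p
  obtain ⟨P, hPle, hPp, hPmax⟩ := Y.exists_sylow p a
  have hmove : ∀ g ∈ fixer X a, (ann X a).map (dualE g : Dual F U →ₗ[F] Dual F U) = ann X a := fun g hg => by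
    rw [← Y.ann_smul hg.1, (mem_fixer.mp hg).2]
  -- a small hyperplane fixed by the subgroup
  obtain ⟨Φ₀, hΦ₀, horb⟩ := exists_small_orbit (P.map dualE) (hPp.map _) (fun Ψ : Sub F (Dual F U) 1 => Ψ.1 ≤ ann X a)
    (by
      rintro _ ⟨g, hg, rfl⟩ Ψ hΨ
      rw [← hmove g (hPle hg), map_le_smul]
      exact hΨ)
    hf hq (show 0 < s by have := Y.third; omega) (by
      rw [pow_zero, card_pts_dim, Y.finrank_ann])
  rw [pow_zero] at horb
  have hfix : ∀ g ∈ P, dualE g • Φ₀ = Φ₀ := fun g hg =>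
    congrArg Subtype.val ((Finite.card_le_one_iff_subsingleton.mp horb).elim
      ⟨_, ⟨⟨dualE g, ⟨g, hg, rfl⟩⟩, rfl⟩⟩ ⟨Φ₀, MulAction.mem_orbit_self _⟩)
  have hD : ∀ g ∈ P, ∀ z : Sub F U 1, z.1 ≤ din X Φ₀.1 → (g • z).1 ≤ din X Φ₀.1 := fun g hg z hz => by
    rw [Y.le_din_iff] at hz ⊢
    rw [Y.ann_smul (hPle hg).1, ← congrArg Subtype.val (hfix g hg)]
    exact Submodule.map_mono hz
  have h0 : din X Φ₀.1 ≤ nb X a := by
    by_contra hnot
    set D := din X Φ₀.1 ⊓ nb X a
    have hlt : finrank F D < finrank F (din X Φ₀.1) := by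
      refine Submodule.finrank_lt_finrank_of_lt (lt_of_le_of_ne inf_le_left fun e => hnot ?_)
      rw [← e]
      exact inf_le_right
    obtain ⟨x, ⟨hxD, hxa⟩, hx⟩ := exists_small_orbit P hPp
      (fun z : Sub F U 1 => z.1 ≤ din X Φ₀.1 ∧ ¬ z.1 ≤ D)
      (fun g hg z hz => ⟨hD g hg z hz.1, fun hle => hz.2 (le_inf hz.1 (by
        have := hle.trans inf_le_right
        rwa [← (Y.anti.good Y.hk a).2.2.1 g (hPle hg).1 (hPle hg).2, map_le_smul] at this))⟩)
      hf hq hlt (card_pts_diff inf_le_left)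
    have := Y.orbit_out hq P P hPmax hPle hPp (fun h => hxa (le_inf hxD h))
    have h1 : Nat.card F ^ w ≤ Nat.card F ^ finrank F D :=
      (Nat.le_of_mul_le_mul_right this Nat.card_pos).trans hx
    have h2 := (Nat.pow_le_pow_iff_right Y.q_two).mp h1
    rw [Y.finrank_din_pt] at hlt
    have := Y.half
    omega
  -- every small hyperplane at the point
  obtain ⟨g, hg, hga, rfl⟩ := Y.anti.trans_hyps Y.hk a Φ₀ Φ ((Y.le_ann_iff_small _ _).mp hΦ₀)
    ((Y.le_ann_iff_small _ _).mp h)
  refine le_of_pts fun z hz => ?_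
  obtain ⟨z, rfl⟩ : ∃ z', g • z' = z := ⟨g⁻¹ • z, smul_inv_smul g z⟩
  rw [Y.le_din_iff, Y.ann_smul hg] at hz
  rw [← (Y.anti.good Y.hk a).2.2.1 g hg hga, map_le_smul]
  exact ((Y.le_din_iff z _).mpr ((Submodule.map_le_map_iff_of_injective (dualE g).injective _ _).mp hz)).trans h0

/-- A common small hyperplane makes neighbours. -/
theorem Sys.nb_of_meet (Y : Sys X w s) {a x : Sub F U 1} (h : ann X a ⊓ ann X x ≠ ⊥) : x.1 ≤ nb X a := by
  haveI : Nontrivial U := Module.nontrivial_of_finrank_pos (R := F) (by have := Y.hk; omega)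
  haveI : Finite F := finite_field (V := U)
  haveI : FiniteDimensional F U := Module.Finite.of_finite
  haveI : Finite (Dual F U) := finite_dual
  obtain ⟨φ, hφ, hφ0⟩ := Submodule.exists_mem_ne_zero_of_ne_bot h
  obtain ⟨hφa, hφx⟩ := Submodule.mem_inf.mp hφ
  refine ((Y.le_din_iff x _).mpr ?_).trans (Y.din_le_nb (Φ := pt φ hφ0)
    ((Submodule.span_singleton_le_iff_mem _ _).mpr hφa))
  exact (Submodule.span_singleton_le_iff_mem _ _).mpr hφx

/-- A point of a line has the common small hyperplanes of two others. -/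
theorem Sys.ann_line (Y : Sys X w s) {x y z : Sub F U 1} (hz : z.1 ≤ x.1 ⊔ y.1) :
    ann X x ⊓ ann X y ≤ ann X z :=
  (Y.le_din_iff z _).mp (hz.trans (sup_le ((Y.le_din_iff x _).mpr inf_le_left) ((Y.le_din_iff y _).mpr inf_le_right)))

/-- The points with the same small hyperplanes. -/
theorem Sys.le_cls_iff (Y : Sys X w s) (a x : Sub F U 1) : x.1 ≤ din X (ann X a) ↔ ann X x = ann X a := by
  haveI : FiniteDimensional F U := Module.Finite.of_finite
  rw [Y.le_din_iff]
  exact ⟨fun h => (Submodule.eq_of_le_of_finrank_le h (by rw [Y.finrank_ann, Y.finrank_ann])).symm, fun h => h ▸ le_rfl⟩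

theorem Sys.cls_congr (Y : Sys X w s) (a b : Sub F U 1) :
    finrank F (din X (ann X a)) = finrank F (din X (ann X b)) := by
  haveI : FiniteDimensional F U := Module.Finite.of_finite
  obtain ⟨g, hg, rfl⟩ := Y.anti.pts a b
  have e : din X (ann X (g • a)) = (din X (ann X a)).map (g : U →ₗ[F] U) := by
    refine le_antisymm (le_of_pts fun z hz => ?_) (le_of_pts fun z hz => ?_)
    · obtain ⟨z, rfl⟩ : ∃ z', g • z' = z := ⟨g⁻¹ • z, smul_inv_smul g z⟩
      rw [map_le_smul, Y.le_cls_iff]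
      rw [Y.le_cls_iff, Y.ann_smul hg, Y.ann_smul hg] at hz
      exact Submodule.map_injective_of_injective (dualE g).injective hz
    · obtain ⟨z, rfl⟩ : ∃ z', g • z' = z := ⟨g⁻¹ • z, smul_inv_smul g z⟩
      rw [map_le_smul, Y.le_cls_iff] at hz
      rw [Y.le_cls_iff, Y.ann_smul hg, Y.ann_smul hg, hz]
  rw [e, LinearEquiv.finrank_map_eq]

theorem Sys.cls_le_din (Y : Sys X w s) {a : Sub F U 1} {Φ : Sub F (Dual F U) 1} (h : Φ.1 ≤ ann X a) :
    din X (ann X a) ≤ din X Φ.1 := by
  have := Y.dim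
  exact din_le_of_pt Φ h

theorem Sys.cls_small (Y : Sys X w s) (a : Sub F U 1) :
    0 < finrank F (din X (ann X a)) ∧ finrank F (din X (ann X a)) < s := by
  classical
  haveI : Nontrivial U := Module.nontrivial_of_finrank_pos (R := F) (by have := Y.hk; omega)
  haveI : Finite F := finite_field (V := U)
  haveI : FiniteDimensional F U := Module.Finite.of_finite
  haveI : Finite (Dual F U) := finite_dual
  haveI : Fintype (Sub F U 1) := Fintype.ofFinite _
  set i := finrank F (din X (ann X a)) with hi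
  have h0 : 0 < i := Nat.lt_of_lt_of_le (Nat.lt_of_lt_of_le Nat.zero_lt_one a.2.symm.le)
    (Submodule.finrank_mono ((Y.le_cls_iff a a).mpr rfl))
  refine ⟨h0, ?_⟩
  obtain ⟨Φ, hΦ⟩ := exists_pt_le (F := F) (L := ann X a) (by rw [Y.finrank_ann]; have := Y.third; omega)
  have hle : i ≤ s := (Submodule.finrank_mono (Y.cls_le_din hΦ)).trans_eq (Y.finrank_din_pt Φ)
  refine lt_of_le_of_ne hle fun e => ?_
  -- the classes divide the points
  have hdvd : geo (Nat.card F) i ∣ geo (Nat.card F) (w + s) := by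
    have h1 := card_pts_geo (F := F) (U := U) ⊤
    rw [finrank_top, Y.dim, Nat.card_congr (Equiv.subtypeUnivEquiv fun P : Sub F U 1 => le_top)] at h1
    rw [← h1, Nat.card_eq_fintype_card (α := Sub F U 1), ← Finset.card_univ,
      Finset.card_eq_sum_card_image (fun x : Sub F U 1 => ann X x) Finset.univ]
    refine Finset.dvd_sum fun B hB => ?_
    obtain ⟨b, -, rfl⟩ := Finset.mem_image.mp hB
    rw [← Fintype.card_subtype, ← Nat.card_eq_fintype_card, hi, Y.cls_congr a b, ← card_pts_geo]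
    exact dvd_of_eq (Nat.card_congr (Equiv.subtypeEquivRight fun x => Y.le_cls_iff b x))
  obtain ⟨c, hc⟩ := dvd_of_geo_dvd Y.q_two hdvd
  have := Y.half
  have := Y.third
  rw [e] at hc
  rcases Nat.lt_or_ge c 3 with hlt | hge
  · interval_cases c <;> omega
  · have := Nat.mul_le_mul_left s hge
    omega

/-- The counting: two points with a common small hyperplane meet in one of two ways. -/
theorem Sys.structure_at (Y : Sys X w s) (a : Sub F U 1) :
    finrank F (din X (ann X a)) ∣ s ∧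
    (∀ x, ann X x ≠ ann X a → ann X a ⊓ ann X x ≠ ⊥ →
      finrank F ↥(ann X a ⊓ ann X x) + finrank F (din X (ann X a)) = s ∧
      finrank F (din X (ann X a ⊓ ann X x)) = 2 * finrank F (din X (ann X a))) ∧
    Nat.card {x : Sub F U 1 // ann X a ⊓ ann X x ≠ ⊥} = geo (Nat.card F) (s + finrank F (din X (ann X a))) := by
  classical
  haveI : Nontrivial U := Module.nontrivial_of_finrank_pos (R := F) (by have := Y.hk; omega)
  haveI : Finite F := finite_field (V := U)
  haveI : FiniteDimensional F U := Module.Finite.of_finite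
  haveI : Finite (Dual F U) := finite_dual
  haveI : Finite (U ≃ₗ[F] U) := finite_equiv
  haveI : Fintype (Sub F U 1) := Fintype.ofFinite _
  haveI : Fintype (Sub F (Dual F U) 1) := Fintype.ofFinite _
  have hq2 := Y.q_two
  set q := Nat.card F with hq
  set I := din X (ann X a) with hI
  set i := finrank F I with hi
  obtain ⟨hi0, his⟩ : 0 < i ∧ i < s := Y.cls_small a
  set j : Sub F U 1 → ℕ := fun x => finrank F ↥(ann X a ⊓ ann X x) with hj
  have hjlt : ∀ x, ¬ x.1 ≤ I → j x < s := fun x hx => by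
    refine lt_of_le_of_ne ((Submodule.finrank_mono inf_le_left).trans_eq (Y.finrank_ann a)) fun e => hx ?_
    have e1 : ann X a ⊓ ann X x = ann X a := Submodule.eq_of_le_of_finrank_le inf_le_left ((Y.finrank_ann a).le.trans e.ge)
    exact (Y.le_cls_iff a x).mpr
      (Submodule.eq_of_le_of_finrank_le (inf_eq_left.mp e1) (by rw [Y.finrank_ann, Y.finrank_ann])).symm
  -- some meet is large
  obtain ⟨x₀, hx₀, hx₀j⟩ : ∃ x, ¬ x.1 ≤ I ∧ s ≤ j x + i := by
    obtain ⟨p, hchar⟩ := CharP.exists F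
    haveI : Fact p.Prime := ⟨CharP.char_is_prime F p⟩
    obtain ⟨f, hf, hqf⟩ := exists_card_field (F := F) p
    obtain ⟨P, hPle, hPp, hPmax⟩ := Y.exists_sylow p a
    have hIW : I ≤ nb X a := by
      obtain ⟨Φ, hΦ⟩ := exists_pt_le (F := F) (L := ann X a) (by rw [Y.finrank_ann]; omega)
      exact (Y.cls_le_din hΦ).trans (Y.din_le_nb hΦ)
    obtain ⟨x, ⟨hxW, hxI⟩, horb⟩ := exists_small_orbit P hPp (fun z : Sub F U 1 => z.1 ≤ nb X a ∧ ¬ z.1 ≤ I)
      (fun g hg z hz => ⟨by rw [← (Y.anti.good Y.hk a).2.2.1 g (hPle hg).1 (hPle hg).2, map_le_smul]; exact hz.1,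
        fun hle => hz.2 (by
          rw [hI, Y.le_cls_iff] at hle ⊢
          rw [Y.ann_smul (hPle hg).1, ← (mem_fixer.mp (hPle hg)).2, Y.ann_smul (hPle hg).1] at hle
          exact Submodule.map_injective_of_injective (dualE g).injective hle)⟩)
      hf hqf (show i < w by have := Y.half; omega) (by rw [card_pts_diff hIW, Y.sub])
    refine ⟨x, hxI, ?_⟩
    set Q := P ⊓ MulAction.stabilizer (U ≃ₗ[F] U) x with hQ
    have hQa : Q ≤ fixer X a := inf_le_left.trans hPle
    set D := nb X x ⊓ nb X a with hD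
    have hidx : Nat.card P ≤ Nat.card Q * q ^ i := by
      rw [← card_fix_mul_orbit P x]
      exact Nat.mul_le_mul_left _ horb
    have hlt : finrank F D < w := by
      rw [← Y.sub x]
      refine Submodule.finrank_lt_finrank_of_lt (lt_of_le_of_ne inf_le_left fun e => ?_)
      have h1 : nb X x = nb X a := Submodule.eq_of_le_of_finrank_le (e ▸ inf_le_right) (by rw [Y.sub, Y.sub])
      exact hxI ((Y.le_cls_iff a x).mpr (show (nb X x).dualAnnihilator = _ by rw [h1]; rfl))
    obtain ⟨z, ⟨hzx, hza⟩, hz⟩ := exists_small_orbit Q (hPp.to_le inf_le_left)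
      (fun z : Sub F U 1 => z.1 ≤ nb X x ∧ ¬ z.1 ≤ D)
      (fun g hg z hz => by
        have hx' : g • x = x := hg.2
        have h1 : (nb X x).map (g : U →ₗ[F] U) = nb X x := by rw [← Y.anti.nb_smul Y.hk (hQa hg).1, hx']
        refine ⟨by rw [← h1, map_le_smul]; exact hz.1, fun hle => hz.2 ?_⟩
        rw [hD, le_inf_iff] at hle ⊢
        refine ⟨hz.1, ?_⟩
        have h2 := hle.2
        rwa [← (Y.anti.good Y.hk a).2.2.1 g (hQa hg).1 (hQa hg).2, map_le_smul] at h2)
      hf hqf hlt (by rw [card_pts_diff inf_le_left, Y.sub])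
    have hbig := Y.orbit_out hqf P Q hPmax hQa (hPp.to_le inf_le_left) (fun h => hza (le_inf hzx h))
    have h2 : q ^ w * Nat.card Q ≤ q ^ (finrank F D + i) * Nat.card Q := by
      refine hbig.trans ((Nat.mul_le_mul hz hidx).trans_eq ?_)
      rw [pow_add]; ring
    have h3 := (Nat.pow_le_pow_iff_right hq2).mp (Nat.le_of_mul_le_mul_right h2 Nat.card_pos)
    have h4 := Subspace.finrank_add_finrank_dualAnnihilator_eq D
    rw [hD, Subspace.dualAnnihilator_inf_eq, Y.dim, ← hD] at h4
    have h5 := Submodule.finrank_sup_add_finrank_inf_eq (ann X x) (ann X a)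
    rw [Y.finrank_ann, Y.finrank_ann, inf_comm] at h5
    change finrank F D + finrank F ↥(ann X x ⊔ ann X a) = _ at h4
    show s ≤ finrank F ↥(ann X a ⊓ ann X x) + i
    omega
  -- the largest meet
  obtain ⟨x₁, hx₁, hmax⟩ := Finset.exists_max_image (Finset.univ.filter fun x : Sub F U 1 => ¬ x.1 ≤ I) j
    ⟨x₀, by simpa using hx₀⟩
  simp only [Finset.mem_filter, Finset.mem_univ, true_and] at hx₁ hmax
  set m := j x₁ with hm
  have hm0 : s ≤ m + i := hx₀j.trans (Nat.add_le_add_right (hmax x₀ hx₀) _)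
  have hms : m < s := hjlt x₁ hx₁
  let T := Finset.univ.filter fun x : Sub F U 1 => ¬ x.1 ≤ I ∧ j x = m
  let Bs := T.image fun x => ann X a ⊓ ann X x
  let A := Finset.univ.filter fun Φ : Sub F (Dual F U) 1 => Φ.1 ≤ ann X a
  have hBdim : ∀ B ∈ Bs, finrank F B = m ∧ B ≤ ann X a := fun B hB => by
    obtain ⟨x, hx, rfl⟩ := Finset.mem_image.mp hB
    exact ⟨(Finset.mem_filter.mp hx).2.2, inf_le_left⟩
  have hA : A.card = geo q s := by
    rw [← Fintype.card_subtype, ← Nat.card_eq_fintype_card, card_pts_geo, Y.finrank_ann]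
  have hApts : ∀ B ≤ ann X a, (A.filter fun Φ => Φ.1 ≤ B).card = geo q (finrank F B) := fun B hB => by
    rw [Finset.filter_filter, ← Fintype.card_subtype, ← Nat.card_eq_fintype_card, ← card_pts_geo]
    exact Nat.card_congr (Equiv.subtypeEquivRight fun Φ => ⟨fun h => h.2, fun h => ⟨h.trans hB, h⟩⟩)
  -- the points over one meet
  have hfib : ∀ B ∈ Bs, q ^ i * geo q i + geo q i ≤ (T.filter fun x => ann X a ⊓ ann X x = B).card + geo q i ∧
      (T.filter fun x => ann X a ⊓ ann X x = B).card + geo q i = geo q (finrank F (din X B)) := by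
    intro B hB
    obtain ⟨x, hx, rfl⟩ := Finset.mem_image.mp hB
    obtain ⟨hxI, hxm⟩ := (Finset.mem_filter.mp hx).2
    have hle : I ≤ din X (ann X a ⊓ ann X x) := le_iInf fun Ψ => iInf_le _
      (⟨Ψ.1, Ψ.2.trans inf_le_left⟩ : {Ψ : Sub F (Dual F U) 1 // Ψ.1 ≤ ann X a})
    have hle' : din X (ann X x) ≤ din X (ann X a ⊓ ann X x) := le_iInf fun Ψ => iInf_le _
      (⟨Ψ.1, Ψ.2.trans inf_le_right⟩ : {Ψ : Sub F (Dual F U) 1 // Ψ.1 ≤ ann X x})
    have hbot : I ⊓ din X (ann X x) = ⊥ := by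
      by_contra hne
      obtain ⟨v, hv, hv0⟩ := Submodule.exists_mem_ne_zero_of_ne_bot hne
      obtain ⟨hv1, hv2⟩ := Submodule.mem_inf.mp hv
      have e1 := (Y.le_cls_iff a (pt v hv0)).mp ((Submodule.span_singleton_le_iff_mem _ _).mpr hv1)
      have e2 := (Y.le_cls_iff x (pt v hv0)).mp ((Submodule.span_singleton_le_iff_mem _ _).mpr hv2)
      exact hxI ((Y.le_cls_iff a x).mpr (e2.symm.trans e1))
    have h2i : i + i ≤ finrank F (din X (ann X a ⊓ ann X x)) := by
      have h := Submodule.finrank_sup_add_finrank_inf_eq I (din X (ann X x))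
      rw [hbot, finrank_bot, add_zero, ← Y.cls_congr a x, ← hi] at h
      rw [← h]
      exact Submodule.finrank_mono (sup_le hle hle')
    have hcard : (T.filter fun y => ann X a ⊓ ann X y = ann X a ⊓ ann X x).card + geo q i =
        geo q (finrank F (din X (ann X a ⊓ ann X x))) := by
      rw [← card_pts_geo_diff hle, ← hi, ← hq]
      congr 1
      rw [Finset.filter_filter, ← Fintype.card_subtype, ← Nat.card_eq_fintype_card]
      refine Nat.card_congr (Equiv.subtypeEquivRight fun y => ?_)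
      constructor
      · rintro ⟨⟨hyI, -⟩, e⟩
        exact ⟨(Y.le_din_iff y _).mpr (e ▸ inf_le_right), hyI⟩
      · rintro ⟨hB, hyI⟩
        have h1 : ann X a ⊓ ann X x ≤ ann X a ⊓ ann X y := le_inf inf_le_left ((Y.le_din_iff y _).mp hB)
        have h2 := Submodule.finrank_mono h1
        have h3 := hmax y hyI
        change finrank F ↥(ann X a ⊓ ann X x) ≤ j y at h2
        rw [show finrank F ↥(ann X a ⊓ ann X x) = m from hxm] at h2
        have h4 : j y = m := le_antisymm h3 h2
        exact ⟨⟨hyI, h4⟩, (Submodule.eq_of_le_of_finrank_le h1 (le_of_eq (h4.trans hxm.symm))).symm⟩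
    refine ⟨?_, hcard⟩
    rw [hcard, add_comm (q ^ i * _), ← geo_add]
    exact (geo_strictMono hq2).monotone h2i
  -- every small hyperplane lies in equally many meets
  obtain ⟨r, hr⟩ : ∃ r, ∀ Φ ∈ A, (Bs.filter fun B => Φ.1 ≤ B).card = r := by
    obtain ⟨Φ₁, hΦ₁⟩ := exists_pt_le (F := F) (L := ann X a) (by rw [Y.finrank_ann]; omega)
    refine ⟨(Bs.filter fun B => Φ₁.1 ≤ B).card, fun Φ hΦ => ?_⟩
    obtain ⟨g, hg, hga, rfl⟩ := Y.anti.trans_hyps Y.hk a Φ₁ Φ ((Y.le_ann_iff_small _ _).mp hΦ₁)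
      ((Y.le_ann_iff_small _ _).mp (Finset.mem_filter.mp hΦ).2)
    have hfa : (ann X a).map (dualE g : Dual F U →ₗ[F] Dual F U) = ann X a := by rw [← Y.ann_smul hg, hga]
    have hinj := Submodule.map_injective_of_injective (f := (dualE g : Dual F U →ₗ[F] Dual F U)) (dualE g).injective
    have hfI : ∀ y : Sub F U 1, (g • y).1 ≤ I ↔ y.1 ≤ I := fun y => by
      rw [hI, Y.le_cls_iff, Y.le_cls_iff, Y.ann_smul hg]
      exact ⟨fun h => hinj (h.trans hfa.symm), fun h => by rw [h, hfa]⟩
    have hB : Bs.image (fun B => B.map (dualE g : Dual F U →ₗ[F] Dual F U)) = Bs := by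
      refine Finset.eq_of_subset_of_card_le (fun B hB => ?_) (le_of_eq (Finset.card_image_of_injective _ hinj).symm)
      obtain ⟨_, hB', rfl⟩ := Finset.mem_image.mp hB
      obtain ⟨y, hy, rfl⟩ := Finset.mem_image.mp hB'
      refine Finset.mem_image.mpr ⟨g • y, Finset.mem_filter.mpr ⟨Finset.mem_univ _, ?_, ?_⟩, ?_⟩
      · rw [hfI]
        exact (Finset.mem_filter.mp hy).2.1
      · show finrank F ↥(ann X a ⊓ ann X (g • y)) = m
        rw [Y.ann_smul hg]
        conv_lhs => rw [← hfa]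
        rw [← Submodule.map_inf _ (dualE g).injective, LinearEquiv.finrank_map_eq]
        exact (Finset.mem_filter.mp hy).2.2
      · rw [Y.ann_smul hg]
        conv_lhs => rw [← hfa]
        rw [← Submodule.map_inf _ (dualE g).injective]
    conv_lhs => rw [← hB, Finset.filter_image]
    rw [Finset.card_image_of_injective _ hinj]
    refine congrArg Finset.card (Finset.filter_congr fun B _ => ?_)
    rw [sub_smul_val]
    exact Submodule.map_le_map_iff_of_injective (dualE g).injective _ _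
  have hN : Bs.card * geo q m = geo q s * r := by
    have h1 := Finset.sum_card_bipartiteAbove_eq_sum_card_bipartiteBelow
      (s := A) (t := Bs) (fun (Φ : Sub F (Dual F U) 1) (B : Submodule F (Dual F U)) => Φ.1 ≤ B)
    simp only [Finset.bipartiteAbove, Finset.bipartiteBelow] at h1
    rw [Finset.sum_congr rfl hr, Finset.sum_const, smul_eq_mul, hA,
      Finset.sum_congr rfl fun B hB => (hApts B (hBdim B hB).2).trans (by rw [(hBdim B hB).1]),
      Finset.sum_const, smul_eq_mul] at h1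
    exact h1.symm
  have hNpos : 0 < Bs.card := Finset.card_pos.mpr
    ⟨_, Finset.mem_image_of_mem _ (Finset.mem_filter.mpr ⟨Finset.mem_univ _, hx₁, rfl⟩)⟩
  have hTN : Bs.card * (q ^ i * geo q i) ≤ T.card := by
    rw [Finset.card_eq_sum_card_image (fun x => ann X a ⊓ ann X x) T, ← smul_eq_mul, ← Finset.sum_const]
    exact Finset.sum_le_sum fun B hB => by have := (hfib B hB).1; omega
  -- the points below each small hyperplane
  have hbelow : ∀ Φ ∈ A, (T.filter fun x => x.1 ≤ din X Φ.1) ⊆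
        Finset.univ.filter (fun x : Sub F U 1 => x.1 ≤ din X Φ.1 ∧ ¬ x.1 ≤ I) ∧
      (Finset.univ.filter fun x : Sub F U 1 => x.1 ≤ din X Φ.1 ∧ ¬ x.1 ≤ I).card = q ^ i * geo q (s - i) := by
    intro Φ hΦ
    refine ⟨fun x hx => ?_, ?_⟩
    · simp only [T, Finset.mem_filter, Finset.mem_univ, true_and] at hx ⊢
      exact ⟨hx.2, hx.1.1⟩
    · rw [← Fintype.card_subtype, ← Nat.card_eq_fintype_card]
      have h1 := card_pts_geo_diff (Y.cls_le_din (Finset.mem_filter.mp hΦ).2)
      rw [Y.finrank_din_pt, ← hi, ← hq] at h1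
      have h2 := geo_add q i (s - i)
      rw [Nat.add_sub_cancel' his.le] at h2
      exact Nat.add_right_cancel (h1.trans (h2.trans (add_comm _ _)))
  have hdouble : T.card * geo q m = ∑ Φ ∈ A, (T.filter fun x => x.1 ≤ din X Φ.1).card := by
    have h1 := Finset.sum_card_bipartiteAbove_eq_sum_card_bipartiteBelow
      (s := A) (t := T) (fun (Φ : Sub F (Dual F U) 1) (x : Sub F U 1) => x.1 ≤ din X Φ.1)
    simp only [Finset.bipartiteAbove, Finset.bipartiteBelow] at h1
    rw [h1, ← smul_eq_mul, ← Finset.sum_const]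
    refine Finset.sum_congr rfl fun x hx => ?_
    rw [← (Finset.mem_filter.mp hx).2.2]
    rw [Finset.filter_congr (q := fun Φ => Φ.1 ≤ ann X a ⊓ ann X x) fun Φ hΦ => by
      rw [Y.le_din_iff, le_inf_iff]
      exact ⟨fun h => ⟨(Finset.mem_filter.mp hΦ).2, h⟩, fun h => h.2⟩]
    exact (hApts _ inf_le_left).symm
  have hupper : ∑ Φ ∈ A, (T.filter fun x => x.1 ≤ din X Φ.1).card ≤ geo q s * (q ^ i * geo q (s - i)) := by
    rw [← hA, ← smul_eq_mul, ← Finset.sum_const]
    exact Finset.sum_le_sum fun Φ hΦ => (Finset.card_le_card (hbelow Φ hΦ).1).trans_eq (hbelow Φ hΦ).2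
  have hqi : 0 < q ^ i := pow_pos (by omega) i
  have h1 : Bs.card * geo q i * geo q m ≤ geo q s * geo q (s - i) := by
    refine Nat.le_of_mul_le_mul_right ?_ hqi
    calc Bs.card * geo q i * geo q m * q ^ i = Bs.card * (q ^ i * geo q i) * geo q m := by ring
      _ ≤ T.card * geo q m := Nat.mul_le_mul_right _ hTN
      _ ≤ geo q s * (q ^ i * geo q (s - i)) := hdouble.trans_le hupper
      _ = _ := by ring
  have hmono := geo_strictMono hq2
  have h2 : Bs.card * geo q i ≤ geo q s := by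
    refine Nat.le_of_mul_le_mul_right (c := geo q m) ?_ (geo_pos hq2 (by omega))
    exact h1.trans (Nat.mul_le_mul_left _ (hmono.monotone (by omega)))
  set g := Nat.gcd s m with hg
  have h3 : geo q s ∣ Bs.card * geo q g := by
    rw [← geo_gcd hq2, ← Nat.gcd_mul_left]
    exact Nat.dvd_gcd (dvd_mul_left _ _) ⟨r, hN⟩
  have hgpos : 0 < g := Nat.gcd_pos_of_pos_left _ (by omega)
  have h4 : i ≤ g := by
    refine hmono.le_iff_le.mp (Nat.le_of_mul_le_mul_left ?_ hNpos)
    exact h2.trans (Nat.le_of_dvd (Nat.mul_pos hNpos (geo_pos hq2 hgpos)) h3)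
  have h5 : g ∣ s - m := Nat.dvd_sub (Nat.gcd_dvd_left _ _) (Nat.gcd_dvd_right _ _)
  have h6 := Nat.le_of_dvd (by omega) h5
  have hgi : g = i := by omega
  have hmi : m + i = s := by omega
  have hNi : Bs.card * geo q i = geo q s :=
    le_antisymm h2 (Nat.le_of_dvd (Nat.mul_pos hNpos (geo_pos hq2 hi0)) (hgi ▸ h3))
  have hsm : s - i = m := by omega
  have hmpos : 0 < geo q m := geo_pos hq2 (by omega)
  have hTcard : T.card = q ^ i * geo q s := by
    refine le_antisymm (Nat.le_of_mul_le_mul_right (c := geo q m) ?_ hmpos) ?_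
    · calc T.card * geo q m ≤ geo q s * (q ^ i * geo q (s - i)) := hdouble.trans_le hupper
        _ = _ := by rw [hsm]; ring
    · calc q ^ i * geo q s = Bs.card * (q ^ i * geo q i) := by rw [← hNi]; ring
        _ ≤ _ := hTN
  have hBcard : ∀ B ∈ Bs, (T.filter fun x => ann X a ⊓ ann X x = B).card = q ^ i * geo q i := by
    intro B hB
    by_contra hne
    have hlt : q ^ i * geo q i < (T.filter fun x => ann X a ⊓ ann X x = B).card := by
      have := (hfib B hB).1
      omega
    have := Finset.sum_lt_sum (s := Bs) (f := fun _ => q ^ i * geo q i)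
      (g := fun B => (T.filter fun x => ann X a ⊓ ann X x = B).card)
      (fun B hB => by have := (hfib B hB).1; omega) ⟨B, hB, hlt⟩
    rw [Finset.sum_const, smul_eq_mul, ← Finset.card_eq_sum_card_image, hTcard, ← hNi] at this
    exact this.ne (by ring)
  have hall : ∀ x, ¬ x.1 ≤ I → ann X a ⊓ ann X x ≠ ⊥ → x ∈ T := by
    intro x hxI hx
    obtain ⟨φ, hφ, hφ0⟩ := Submodule.exists_mem_ne_zero_of_ne_bot hx
    set Φ : Sub F (Dual F U) 1 := pt φ hφ0
    have hΦ : Φ.1 ≤ ann X a ⊓ ann X x := (Submodule.span_singleton_le_iff_mem _ _).mpr hφ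
    have hΦA : Φ ∈ A := Finset.mem_filter.mpr ⟨Finset.mem_univ _, hΦ.trans inf_le_left⟩
    have hxD : x ∈ Finset.univ.filter (fun x : Sub F U 1 => x.1 ≤ din X Φ.1 ∧ ¬ x.1 ≤ I) :=
      Finset.mem_filter.mpr ⟨Finset.mem_univ _, (Y.le_din_iff _ _).mpr (hΦ.trans inf_le_right), hxI⟩
    have heq : (T.filter fun x => x.1 ≤ din X Φ.1).card =
        (Finset.univ.filter fun x : Sub F U 1 => x.1 ≤ din X Φ.1 ∧ ¬ x.1 ≤ I).card := by
      by_contra hne
      have h7 : (∑ Ψ ∈ A, (T.filter fun x => x.1 ≤ din X Ψ.1).card) < ∑ Ψ ∈ A, q ^ i * geo q (s - i) :=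
        Finset.sum_lt_sum (fun Ψ hΨ => (Finset.card_le_card (hbelow Ψ hΨ).1).trans_eq (hbelow Ψ hΨ).2)
          ⟨Φ, hΦA, (hbelow Φ hΦA).2 ▸ lt_of_le_of_ne (Finset.card_le_card (hbelow Φ hΦA).1) hne⟩
      rw [← hdouble, Finset.sum_const, smul_eq_mul, hA, hsm, hTcard] at h7
      exact h7.ne (by ring)
    exact (Finset.mem_filter.mp ((Finset.eq_of_subset_of_card_le (hbelow Φ hΦA).1 heq.ge).symm ▸ hxD)).1
  refine ⟨hgi ▸ Nat.gcd_dvd_left s m, fun x hne hx => ?_, ?_⟩
  · have hxI : ¬ x.1 ≤ I := fun h => hne ((Y.le_cls_iff a x).mp h)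
    have hxT := hall x hxI hx
    have hjx : j x = m := (Finset.mem_filter.mp hxT).2.2
    refine ⟨(congrArg (· + i) hjx).trans hmi, ?_⟩
    have hB : ann X a ⊓ ann X x ∈ Bs := Finset.mem_image_of_mem _ hxT
    have h8 := (hfib _ hB).2
    rw [hBcard _ hB, add_comm, ← geo_add] at h8
    rw [two_mul]
    exact (hmono.injective h8).symm
  · have hu : (Finset.univ.filter fun x : Sub F U 1 => ann X a ⊓ ann X x ≠ ⊥) =
        Finset.univ.filter (fun x : Sub F U 1 => x.1 ≤ I) ∪ T := by
      ext x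
      simp only [Finset.mem_filter, Finset.mem_univ, true_and, Finset.mem_union, T]
      refine ⟨fun hx => ?_, ?_⟩
      · by_cases hxI : x.1 ≤ I
        · exact Or.inl hxI
        · exact Or.inr ⟨hxI, (Finset.mem_filter.mp (hall x hxI hx)).2.2⟩
      · rintro (h | ⟨-, h⟩) e
        · rw [(Y.le_cls_iff a x).mp h, inf_idem] at e
          have := Y.finrank_ann a
          rw [e, finrank_bot] at this
          omega
        · rw [hj] at h
          simp only at h
          rw [e, finrank_bot] at h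
          omega
    rw [Nat.card_eq_fintype_card, Fintype.card_subtype, hu, Finset.card_union_of_disjoint
      (Finset.disjoint_filter.mpr fun x _ h1 h2 => h2.1 h1), ← Fintype.card_subtype, ← Nat.card_eq_fintype_card,
      card_pts_geo, ← hi, ← hq, hTcard, add_comm s, geo_add]

end CfsgLib.SingerPrime
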