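/-
A symmetric block relation with the parameters of a would-be polarity of lines: its spectrum is irrational.
-/
import Mathlib

set_option autoImplicit false
set_option linter.unusedSectionVars false
set_option maxHeartbeats 1000000

namespace CfsgLib.SingerPrime

variable {P : Type*} [Fintype P]

open Classical in
/-- The matrix of a relation. -/
noncomputable def relMat (R : P → P → Prop) : Matrix P P ℝ := Matrix.of fun a b => if R a b then 1 else 0

theorem relMat_apply (R : P → P → Prop) [∀ a b, Decidable (R a b)] (a b : P) :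
    relMat R a b = if R a b then 1 else 0 := by
  unfold relMat
  simp only [Matrix.of_apply]
  congr

theorem relMat_mul (R R' : P → P → Prop) (a b : P) :
    (relMat R * relMat R') a b = (Nat.card {x : P // R a x ∧ R' x b} : ℝ) := by
  classical
  rw [Matrix.mul_apply, Nat.card_eq_fintype_card, Fintype.card_subtype, ← Finset.sum_boole]
  refine Finset.sum_congr rfl fun x _ => ?_
  rw [relMat_apply, relMat_apply, ite_zero_mul_ite_zero, mul_one]

theorem relMat_trace (R : P → P → Prop) (hR : ∀ a, R a a) :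
    (relMat R).trace = (Fintype.card P : ℝ) := by
  classical
  simp [Matrix.trace, relMat_apply, hR]

/-- An idempotent matrix has a natural trace. -/
theorem exists_trace_nat [DecidableEq P] {T : Matrix P P ℝ} (h : T * T = T) : ∃ r : ℕ, T.trace = r := by
  have hidem : IsIdempotentElem (Matrix.toLin' T) := by
    show Matrix.toLin' T * Matrix.toLin' T = _
    rw [Module.End.mul_eq_comp, ← Matrix.toLin'_mul, h]
  exact ⟨_, (Matrix.trace_toLin'_eq T).symm.trans ((LinearMap.isProj_range_iff_isIdempotentElem _).mpr hidem).trace⟩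

/-- No relation has these parameters. -/
theorem no_block_graph (R E : P → P → Prop) (Q g : ℕ) (hQ : 2 ≤ Q) (hg : 0 < g)
    (hP : Fintype.card P = g * (1 + Q + Q ^ 2 + Q ^ 3 + Q ^ 4))
    (hsym : ∀ a b, R a b → R b a) (hrefl : ∀ a, R a a)
    (hEsym : ∀ a b, E a b → E b a) (hErefl : ∀ a, E a a) (hEtr : ∀ a b c, E a b → E b c → E a c)
    (hER : ∀ a b c, E a b → R a c → R b c)
    (hcardR : ∀ a, Nat.card {x // R a x} = g * (1 + Q + Q ^ 2))
    (hcardE : ∀ a, Nat.card {x // E a x} = g)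
    (heq : ∀ a y, E a y → Nat.card {x // R a x ∧ R x y} = g * (1 + Q + Q ^ 2))
    (hadj : ∀ a y, R a y → ¬ E a y → Nat.card {x // R a x ∧ R x y} = g * (1 + Q))
    (hfar : ∀ a y, ¬ R a y → Nat.card {x // R a x ∧ R x y} = g) : False := by
  classical
  have hEsub : ∀ a b, E a b → R a b := fun a b h => hER b a b (hEsym a b h) (hrefl b)
  set J : Matrix P P ℝ := relMat fun _ _ => True with hJ
  set B := relMat R with hB
  set C := relMat E with hC
  obtain ⟨gR, hgR⟩ : ∃ gR : ℝ, gR = g := ⟨_, rfl⟩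
  obtain ⟨q, hq⟩ : ∃ q : ℝ, q = Q := ⟨_, rfl⟩
  have hrow : ∀ (S : P → P → Prop) (m : ℕ) (c : ℝ), (m : ℝ) = c → (∀ a, Nat.card {x // S a x} = m) →
      (∀ a b, S a b → S b a) → relMat S * J = c • J ∧ J * relMat S = c • J := by
    intro S m c hmc hS hSsym
    constructor <;> ext a b <;> rw [hJ, relMat_mul, Matrix.smul_apply, relMat_apply, if_pos trivial, smul_eq_mul, mul_one,
      ← hmc]
    · rw [← hS a, Nat.card_congr (Equiv.subtypeEquivRight fun x => and_iff_left trivial)]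
    · rw [← hS b, Nat.card_congr (Equiv.subtypeEquivRight fun x => ⟨fun h => hSsym _ _ h.2, fun h => ⟨trivial, hSsym _ _ h⟩⟩)]
  obtain ⟨hBJ, hJB⟩ : B * J = (gR * (1 + q + q ^ 2)) • J ∧ J * B = (gR * (1 + q + q ^ 2)) • J := hrow R _ (gR * (1 + q + q ^ 2)) (by subst hgR hq; push_cast; ring) hcardR hsym
  obtain ⟨hCJ, hJC⟩ : C * J = gR • J ∧ J * C = gR • J := hrow E _ gR hgR.symm hcardE hEsym
  have hJJ : J * J = (gR * (1 + q + q ^ 2 + q ^ 3 + q ^ 4)) • J := (hrow (fun _ _ => True) (Fintype.card P) _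
    (by rw [hP]; subst hgR hq; push_cast; ring) (fun a => by
      rw [Nat.card_congr (Equiv.subtypeUnivEquiv fun _ => trivial), Nat.card_eq_fintype_card]) fun _ _ _ => trivial).1
  have hBB : B * B = gR • J + (gR * q) • B + (gR * q ^ 2) • C := by
    ext a y
    simp only [hB, hC, hJ, Matrix.add_apply, Matrix.smul_apply, relMat_mul, relMat_apply, smul_eq_mul, if_true]
    subst hgR hq
    by_cases hE : E a y
    · rw [heq a y hE, if_pos (hEsub a y hE), if_pos hE]; push_cast; ring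
    by_cases hR : R a y
    · rw [hadj a y hR hE, if_pos hR, if_neg hE]; push_cast; ring
    · rw [hfar a y hR, if_neg hR, if_neg hE]; push_cast; ring
  have hBC : B * C = gR • B ∧ C * B = gR • B ∧ C * C = gR • C := by
    refine ⟨?_, ?_, ?_⟩ <;> ext a y <;>
      simp only [hB, hC, Matrix.smul_apply, relMat_mul, relMat_apply, smul_eq_mul] <;> subst hgR
    · by_cases hR : R a y
      · rw [if_pos hR, mul_one, ← hcardE y, Nat.card_congr (Equiv.subtypeEquivRight fun x => ⟨fun h => hEsym _ _ h.2,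
          fun h => ⟨hsym _ _ (hER y x a h (hsym _ _ hR)), hEsym _ _ h⟩⟩)]
      · rw [if_neg hR, mul_zero, Nat.cast_eq_zero, Nat.card_eq_zero]
        exact Or.inl ⟨fun x => hR (hsym _ _ (hER x.1 y a x.2.2 (hsym _ _ x.2.1)))⟩
    · by_cases hR : R a y
      · rw [if_pos hR, mul_one, ← hcardE a, Nat.card_congr (Equiv.subtypeEquivRight fun x => ⟨fun h => h.1,
          fun h => ⟨h, hER a x y h hR⟩⟩)]
      · rw [if_neg hR, mul_zero, Nat.cast_eq_zero, Nat.card_eq_zero]
        exact Or.inl ⟨fun x => hR (hER x.1 a y (hEsym _ _ x.2.1) x.2.2)⟩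
    · by_cases hR : E a y
      · rw [if_pos hR, mul_one, ← hcardE a, Nat.card_congr (Equiv.subtypeEquivRight fun x => ⟨fun h => h.1,
          fun h => ⟨h, hEtr x a y (hEsym _ _ h) hR⟩⟩)]
      · rw [if_neg hR, mul_zero, Nat.cast_eq_zero, Nat.card_eq_zero]
        exact Or.inl ⟨fun x => hR (hEtr a x.1 y x.2.1 x.2.2)⟩
  obtain ⟨hBC, hCB, hCC⟩ := hBC
  -- the projection on one eigenspace
  have hg0 : gR ≠ 0 := by subst hgR; positivity
  have hq0 : q ≠ 0 := by subst hq; positivity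
  set N := 1 + q + q ^ 2 + q ^ 3 + q ^ 4 with hN
  have hN0 : N ≠ 0 := by
    have : 0 < q := by subst hq; positivity
    positivity
  set r5 := Real.sqrt 5 with hr5
  have h5 : r5 ^ 2 = 5 := Real.sq_sqrt (by norm_num)
  have hr0 : r5 ≠ 0 := fun h => by rw [h] at h5; norm_num at h5
  obtain ⟨θ, hθ⟩ : ∃ θ, θ = q * (1 - r5) / 2 := ⟨_, rfl⟩
  obtain ⟨d, hd⟩ : ∃ d, d = q * r5 := ⟨_, rfl⟩
  have hd0 : d ≠ 0 := hd ▸ mul_ne_zero hq0 hr0
  obtain ⟨u, hu⟩ : ∃ u, u = 1 / (d * gR) := ⟨_, rfl⟩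
  obtain ⟨v, hv⟩ : ∃ v, v = -θ / (d * gR) := ⟨_, rfl⟩
  obtain ⟨t, ht⟩ : ∃ t, t = -(1 + q + q ^ 2 - θ) / (d * gR * N) := ⟨_, rfl⟩
  set T := u • B + v • C + t • J with hT
  have hTT : T * T = T := by
    rw [hT]
    simp only [add_mul, mul_add, Matrix.smul_mul, Matrix.mul_smul, hBB, hBC, hCB, hCC, hBJ, hJB, hCJ, hJC, hJJ,
      smul_add, smul_smul]
    match_scalars <;> rw [hu, hv] <;> (try rw [ht]) <;> rw [hθ, hd] <;> field_simp <;> (try rw [hN]) <;> ring_nf <;>
      first | linear_combination (q ^ 2) * h5 | linear_combination (-(q ^ 2)) * h5 | linear_combination h5 | linear_combination (-1 : ℝ) * h5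
  obtain ⟨n, hn⟩ := exists_trace_nat hTT
  have hcard : (Fintype.card P : ℝ) = gR * N := by
    rw [hP, hN]; subst hgR hq; push_cast; ring
  rw [hT, Matrix.trace_add, Matrix.trace_add, Matrix.trace_smul, Matrix.trace_smul, Matrix.trace_smul, hB, hC, hJ,
    relMat_trace _ hrefl, relMat_trace _ hErefl, relMat_trace _ (fun _ => trivial), hcard, smul_eq_mul, smul_eq_mul,
    smul_eq_mul] at hn
  rw [hu, hv, ht, hθ, hd] at hn
  field_simp at hn
  have hlin : r5 * (2 * (n : ℝ) - (N - 1)) = 2 * q ^ 2 + 2 * q ^ 3 - (N - 1) := by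
    refine mul_left_cancel₀ hq0 ?_
    linear_combination (-1) * hn
  set A : ℤ := 2 * (Q : ℤ) ^ 2 + 2 * (Q : ℤ) ^ 3 - ((Q : ℤ) + Q ^ 2 + Q ^ 3 + Q ^ 4) with hA
  set m : ℤ := 2 * (n : ℤ) - ((Q : ℤ) + Q ^ 2 + Q ^ 3 + Q ^ 4) with hm
  have hlin' : r5 * (m : ℝ) = (A : ℝ) := by
    rw [hm, hA]
    push_cast
    rw [← hq]
    linear_combination hlin
  have hA0 : A ≠ 0 := by
    have h2 : (2 : ℤ) ≤ Q := by exact_mod_cast hQ
    have : A = -((Q : ℤ) * ((Q : ℤ) - 1) ^ 2 * ((Q : ℤ) + 1)) := by rw [hA]; ring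
    rw [this]
    have h3 : 0 < (Q : ℤ) * ((Q : ℤ) - 1) ^ 2 * ((Q : ℤ) + 1) :=
      mul_pos (mul_pos (by omega) (pow_pos (by omega) 2)) (by omega)
    omega
  have hm0 : (m : ℝ) ≠ 0 := fun h => hA0 (by
    rw [h, mul_zero] at hlin'
    exact_mod_cast hlin'.symm)
  refine (Nat.Prime.irrational_sqrt (by norm_num : Nat.Prime 5)) ⟨(A : ℚ) / m, ?_⟩
  push_cast
  rw [← hr5, div_eq_iff hm0]
  exact hlin'.symm

end CfsgLib.SingerPrime
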