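/-
The points with a common small hyperplane form blocks of half the dimension.
-/
import Cfsg.Agent.Lib.SingerPrime.Classes
import Cfsg.Agent.Lib.SingerPrime.Srg

set_option autoImplicit false
set_option linter.unusedSectionVars false
set_option linter.style.haveILetI false
set_option maxHeartbeats 1000000

namespace CfsgLib.SingerPrime

open Module
open CfsgLib.SingerFive (Sub pt exists_pt finite_field dualE)
open CfsgLib.SingerSeven

variable {F U : Type*} [Field F] [AddCommGroup U] [Module F U] [Finite U] {X : Subgroup (U ≃ₗ[F] U)} {w s : ℕ}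

/-- Classes of the points all of one size have a dimension dividing the whole. -/
theorem dvd_of_partition [Finite F] {β : Type*} (f : Sub F U 1 → β) (d : ℕ)
    (h : ∀ b, Nat.card {x : Sub F U 1 // f x = f b} = geo (Nat.card F) d) : d ∣ finrank F U := by
  classical
  haveI : Fintype (Sub F U 1) := Fintype.ofFinite _
  refine dvd_of_geo_dvd (q := Nat.card F) Finite.one_lt_card ?_
  have h1 := card_pts_geo (F := F) (U := U) ⊤
  rw [finrank_top, Nat.card_congr (Equiv.subtypeUnivEquiv fun P : Sub F U 1 => le_top)] at h1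
  rw [← h1, Nat.card_eq_fintype_card (α := Sub F U 1), ← Finset.card_univ, Finset.card_eq_sum_card_image f Finset.univ]
  refine Finset.dvd_sum fun B hB => ?_
  obtain ⟨b, -, rfl⟩ := Finset.mem_image.mp hB
  rw [← h b, Nat.card_eq_fintype_card, Fintype.card_subtype]

/-- The dimension of the meet of two subspaces. -/
theorem Sys.finrank_nb_inf (Y : Sys X w s) (a x : Sub F U 1) :
    finrank F ↥(nb X a ⊓ nb X x) + 2 * s = w + s + finrank F ↥(ann X a ⊓ ann X x) := by
  haveI : FiniteDimensional F U := Module.Finite.of_finite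
  have h4 := Subspace.finrank_add_finrank_dualAnnihilator_eq (nb X a ⊓ nb X x)
  rw [Subspace.dualAnnihilator_inf_eq, Y.dim] at h4
  change finrank F ↥(nb X a ⊓ nb X x) + finrank F ↥(ann X a ⊔ ann X x) = w + s at h4
  have h5 := Submodule.finrank_sup_add_finrank_inf_eq (ann X a) (ann X x)
  rw [Y.finrank_ann, Y.finrank_ann] at h5
  omega

theorem Sys.meet_self (Y : Sys X w s) (a : Sub F U 1) : ann X a ⊓ ann X a ≠ ⊥ := fun e => by
  have := Y.finrank_ann a
  rw [inf_idem] at e
  rw [e, finrank_bot] at this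
  have := Y.third
  omega

theorem Sys.meet_cls (Y : Sys X w s) {a x : Sub F U 1} (h : ann X x = ann X a) : ann X a ⊓ ann X x ≠ ⊥ :=
  h ▸ Y.meet_self a

/-- The codimension is more than twice the dimension of the classes. -/
theorem Sys.two_cls_lt (Y : Sys X w s) (a : Sub F U 1) : 2 * finrank F (din X (ann X a)) < s := by
  classical
  haveI : Nontrivial U := Module.nontrivial_of_finrank_pos (R := F) (by have := Y.hk; omega)
  haveI : Finite F := finite_field (V := U)
  haveI : FiniteDimensional F U := Module.Finite.of_finite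
  haveI : Fintype (Sub F U 1) := Fintype.ofFinite _
  obtain ⟨hdvd, -, -⟩ := Y.structure_at a
  obtain ⟨hi0, his⟩ := Y.cls_small a
  have hcls : ∀ b, Nat.card {x : Sub F U 1 // ann X x = ann X b} = geo (Nat.card F) (finrank F (din X (ann X a))) :=
    fun b => by
      rw [Y.cls_congr a b, ← card_pts_geo]
      exact Nat.card_congr (Equiv.subtypeEquivRight fun x => (Y.le_cls_iff b x).symm)
  have hik := dvd_of_partition (fun x => ann X x) _ hcls
  rw [Y.dim] at hik
  obtain ⟨i, hi⟩ : ∃ i, finrank F (din X (ann X a)) = i := ⟨_, rfl⟩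
  rw [hi] at hdvd hik hi0 his hcls ⊢
  have hcong : ∀ b, finrank F (din X (ann X b)) = i := fun b => (Y.cls_congr b a).trans hi
  obtain ⟨t, ht⟩ := hdvd
  obtain ⟨m, hm⟩ := hik
  by_contra hge
  have ht2 : t = 2 := by
    rcases Nat.lt_or_ge t 2 with h | h
    · interval_cases t <;> omega
    rcases Nat.lt_or_ge t 3 with h' | h'
    · omega
    · have := Nat.mul_le_mul_left i h'
      omega
  subst ht2
  have hm5 : m = 5 := by
    have := Y.half
    have := Y.third
    rcases Nat.lt_or_ge m 5 with h | h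
    · have := Nat.mul_le_mul_left i (show m ≤ 4 by omega)
      omega
    rcases Nat.lt_or_ge m 6 with h' | h'
    · omega
    · have := Nat.mul_le_mul_left i h'
      omega
  subst hm5
  have hw : w = 3 * i := by omega
  subst hw
  set q := Nat.card F with hq
  have hgeo : ∀ j, geo q (i + j) = geo q i + q ^ i * geo q j := fun j => geo_add q i j
  have hmeet : ∀ b x, ann X b ⊓ ann X x ≠ ⊥ ↔ x.1 ≤ nb X b := fun b x => by
    refine ⟨Y.nb_of_meet, fun hx => ?_⟩
    have h1 := (Y.structure_at b).2.2
    rw [hcong b, show s + i = 3 * i by omega, ← Y.sub b, ← card_pts_geo, Nat.card_eq_fintype_card,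
      Nat.card_eq_fintype_card, Fintype.card_subtype, Fintype.card_subtype] at h1
    have e := Finset.eq_of_subset_of_card_le (fun z hz => by
      simp only [Finset.mem_filter, Finset.mem_univ, true_and] at hz ⊢
      exact Y.nb_of_meet hz) h1.ge
    have hm' : x ∈ Finset.univ.filter fun z : Sub F U 1 => z.1 ≤ nb X b := by simpa using hx
    rw [← e] at hm'
    exact (Finset.mem_filter.mp hm').2
  have hq2 : 2 ≤ q := Y.q_two
  have h3i : geo q (3 * i) = geo q i * (1 + q ^ i + (q ^ i) ^ 2) := by
    rw [show 3 * i = i + (i + i) by omega, hgeo, hgeo]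
    ring
  have hcommon : ∀ b y, Nat.card {x : Sub F U 1 // ann X b ⊓ ann X x ≠ ⊥ ∧ ann X x ⊓ ann X y ≠ ⊥} =
      geo q (finrank F ↥(nb X b ⊓ nb X y)) := fun b y => by
    rw [← card_pts_geo]
    refine Nat.card_congr (Equiv.subtypeEquivRight fun x => ?_)
    rw [le_inf_iff, hmeet, inf_comm (ann X x), hmeet]
  refine no_block_graph (P := Sub F U 1) (fun b x => ann X b ⊓ ann X x ≠ ⊥) (fun b x => ann X x = ann X b)
    (q ^ i) (geo q i) (le_trans (by omega) (Nat.le_self_pow (by omega) q)) (geo_pos hq2 hi0) ?_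
    (fun b x h => by rwa [inf_comm]) Y.meet_self (fun b x h => h.symm) (fun b => rfl)
    (fun b x y h h' => h'.trans h) (fun b x y h h' => by rwa [h]) ?_ hcls ?_ ?_ ?_
  · have h1 := card_pts_geo (F := F) (U := U) ⊤
    rw [finrank_top, Y.dim, Nat.card_congr (Equiv.subtypeUnivEquiv fun P : Sub F U 1 => le_top),
      Nat.card_eq_fintype_card] at h1
    rw [h1, ← hq, show 3 * i + s = i + (i + (i + (i + i))) by omega, hgeo, hgeo, hgeo, hgeo]
    ring
  · intro b
    rw [(Y.structure_at b).2.2, hcong b, show s + i = 3 * i by omega, h3i]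
  · intro b y h
    rw [hcommon]
    have := Y.finrank_nb_inf b y
    rw [h, inf_idem (ann X b), Y.finrank_ann] at this
    rw [show finrank F ↥(nb X b ⊓ nb X y) = 3 * i by omega, h3i]
  · intro b y h hne
    rw [hcommon]
    have h1 := ((Y.structure_at b).2.1 y hne h).1
    rw [hcong] at h1
    have := Y.finrank_nb_inf b y
    rw [show finrank F ↥(nb X b ⊓ nb X y) = i + i by omega, hgeo]
    ring
  · intro b y h
    rw [hcommon]
    have := Y.finrank_nb_inf b y
    rw [not_not.mp h, finrank_bot] at this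
    rw [show finrank F ↥(nb X b ⊓ nb X y) = i by omega]

/-- Having a common small hyperplane is transitive. -/
theorem Sys.meet_trans (Y : Sys X w s) {a x y : Sub F U 1} (hx : ann X a ⊓ ann X x ≠ ⊥)
    (hy : ann X a ⊓ ann X y ≠ ⊥) : ann X x ⊓ ann X y ≠ ⊥ := by
  haveI : FiniteDimensional F U := Module.Finite.of_finite
  by_cases hxa : ann X x = ann X a
  · rwa [hxa]
  by_cases hya : ann X y = ann X a
  · rwa [hya, inf_comm]
  intro e
  have h1 := ((Y.structure_at a).2.1 x hxa hx).1
  have h2 := ((Y.structure_at a).2.1 y hya hy).1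
  have h3 := Submodule.finrank_sup_add_finrank_inf_eq (ann X a ⊓ ann X x) (ann X a ⊓ ann X y)
  have h4 : finrank F ↥((ann X a ⊓ ann X x) ⊔ (ann X a ⊓ ann X y)) ≤ s :=
    (Submodule.finrank_mono (sup_le inf_le_left inf_le_left)).trans_eq (Y.finrank_ann a)
  have h5 : (ann X a ⊓ ann X x) ⊓ (ann X a ⊓ ann X y) = ⊥ :=
    eq_bot_iff.mpr ((inf_le_inf inf_le_right inf_le_right).trans e.le)
  rw [h5, finrank_bot] at h3
  have := Y.two_cls_lt a
  omega

/-- The span of the points with a common small hyperplane. -/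
noncomputable def blk (X : Subgroup (U ≃ₗ[F] U)) (a : Sub F U 1) : Submodule F U :=
  ⨆ x : {x : Sub F U 1 // ann X a ⊓ ann X x ≠ ⊥}, x.1.1

/-- Blocks of half the dimension. -/
structure BlockSys (X : Subgroup (U ≃ₗ[F] U)) (s i : ℕ) : Prop where
  i_pos : 0 < i
  two_lt : 2 * i < s
  dim : finrank F U = 2 * (s + i)
  le_iff : ∀ a x : Sub F U 1, x.1 ≤ blk X a ↔ ann X a ⊓ ann X x ≠ ⊥
  finrank_blk : ∀ a, finrank F (blk X a) = s + i
  blk_le : ∀ a, blk X a ≤ nb X a
  blk_congr : ∀ a x : Sub F U 1, x.1 ≤ blk X a → blk X x = blk X a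
  cls : ∀ a, finrank F (din X (ann X a)) = i
  cls_le : ∀ a, din X (ann X a) ≤ blk X a
  tee : ∀ p y z : Sub F U 1, y.1 ≤ blk X p → z.1 ≤ nb X p → z.1 ≤ nb X y → ¬ z.1 ≤ blk X p → ann X y = ann X p

theorem Sys.le_blk_iff (Y : Sys X w s) (a x : Sub F U 1) : x.1 ≤ blk X a ↔ ann X a ⊓ ann X x ≠ ⊥ := by
  haveI : FiniteDimensional F U := Module.Finite.of_finite
  have hflip : ∀ {b c : Sub F U 1}, ann X b ⊓ ann X c ≠ ⊥ → ann X c ⊓ ann X b ≠ ⊥ := fun h => by rwa [inf_comm]
  let W : Submodule F U :=
    { carrier := {v | ∀ hv : v ≠ 0, ann X a ⊓ ann X (pt v hv) ≠ ⊥}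
      zero_mem' := fun hv => absurd rfl hv
      smul_mem' := fun c v hv h => by
        have hc : c ≠ 0 := fun e => h (by rw [e, zero_smul])
        have hv0 : v ≠ 0 := fun e => h (by rw [e, smul_zero])
        rw [show pt (c • v) h = pt v hv0 from Subtype.ext (Submodule.span_singleton_smul_eq hc.isUnit v)]
        exact hv hv0
      add_mem' := fun {u v} hu hv h => by
        by_cases hu0 : u = 0
        · subst hu0
          simp only [zero_add] at h ⊢
          exact hv h
        by_cases hv0 : v = 0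
        · subst hv0
          simp only [add_zero] at h ⊢
          exact hu h
        have hline := Y.ann_line (x := pt u hu0) (y := pt v hv0) (z := pt (u + v) h)
          ((Submodule.span_singleton_le_iff_mem _ _).mpr (add_mem
            (Submodule.mem_sup_left (Submodule.mem_span_singleton_self u))
            (Submodule.mem_sup_right (Submodule.mem_span_singleton_self v))))
        have huv := Y.meet_trans (hu hu0) (hv hv0)
        have h1 : ann X (pt u hu0) ⊓ ann X (pt (u + v) h) ≠ ⊥ := fun e =>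
          huv (eq_bot_iff.mpr ((le_inf inf_le_left hline).trans e.le))
        exact Y.meet_trans (hflip (hu hu0)) h1 }
  have hW : ∀ z : Sub F U 1, z.1 ≤ W ↔ ann X a ⊓ ann X z ≠ ⊥ := fun z => by
    obtain ⟨v, hv, rfl⟩ := exists_pt z
    rw [show (pt v hv).1 = F ∙ v from rfl, Submodule.span_singleton_le_iff_mem]
    exact ⟨fun h => h hv, fun h _ => h⟩
  refine ⟨fun h => (hW x).mp (h.trans (iSup_le fun z => (hW z.1).mpr z.2)), fun h => ?_⟩
  exact le_iSup_of_le (⟨x, h⟩ : {x : Sub F U 1 // ann X a ⊓ ann X x ≠ ⊥}) le_rfl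

/-- The blocks. -/
theorem Sys.blocks (Y : Sys X w s) : ∃ i, w = s + 2 * i ∧ BlockSys X s i := by
  classical
  haveI : Nontrivial U := Module.nontrivial_of_finrank_pos (R := F) (by have := Y.hk; omega)
  haveI : Finite F := finite_field (V := U)
  haveI : FiniteDimensional F U := Module.Finite.of_finite
  obtain ⟨a₀, -⟩ := exists_pt_le (F := F) (L := (⊤ : Submodule F U)) (by rw [finrank_top]; have := Y.hk; omega)
  obtain ⟨i, hi⟩ : ∃ i, finrank F (din X (ann X a₀)) = i := ⟨_, rfl⟩
  have hcls : ∀ a, finrank F (din X (ann X a)) = i := fun a => (Y.cls_congr a a₀).trans hi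
  have hi0 : 0 < i := hi ▸ (Y.cls_small a₀).1
  have h2i : 2 * i < s := hi ▸ Y.two_cls_lt a₀
  have hblk : ∀ a, finrank F (blk X a) = s + i := fun a => by
    refine (geo_strictMono Y.q_two).injective ?_
    rw [← card_pts_geo, ← hcls a, ← (Y.structure_at a).2.2]
    exact Nat.card_congr (Equiv.subtypeEquivRight fun x => Y.le_blk_iff a x)
  have hle : ∀ a, blk X a ≤ nb X a := fun a => iSup_le fun x => Y.nb_of_meet x.2
  have hcongr : ∀ a x : Sub F U 1, x.1 ≤ blk X a → blk X x = blk X a := fun a x hx => by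
    refine Submodule.eq_of_le_of_finrank_le (le_of_pts fun z hz => ?_) (by rw [hblk, hblk])
    rw [Y.le_blk_iff] at hx hz ⊢
    exact Y.meet_trans (by rwa [inf_comm]) hz
  have hdvd : s + i ∣ finrank F U := dvd_of_partition (fun x => blk X x) (s + i) fun b => by
    rw [← hblk b, ← card_pts_geo]
    refine Nat.card_congr (Equiv.subtypeEquivRight fun x => ?_)
    exact ⟨fun h => h ▸ (Y.le_blk_iff x x).mpr (Y.meet_self x), hcongr b x⟩
  obtain ⟨m, hm⟩ := hdvd
  have hm2 : m = 2 := by
    have := Y.half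
    have := Y.third
    have := Y.dim
    rcases Nat.lt_or_ge m 2 with h | h
    · interval_cases m <;> omega
    rcases Nat.lt_or_ge m 3 with h' | h'
    · omega
    · have := Nat.mul_le_mul_left (s + i) h'
      omega
  subst hm2
  have hw : w = s + 2 * i := by have := Y.dim; omega
  refine ⟨i, hw, hi0, h2i, by omega, Y.le_blk_iff, hblk, hle, hcongr, hcls, fun a => le_of_pts fun x hx =>
    (Y.le_blk_iff a x).mpr (Y.meet_cls ((Y.le_cls_iff a x).mp hx)), fun p y z hy hzp hzy hz => ?_⟩
  by_contra hne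
  have h1 := ((Y.structure_at p).2.1 y hne ((Y.le_blk_iff p y).mp hy)).1
  rw [hcls] at h1
  have h2 := Y.finrank_nb_inf p y
  have h3 : blk X p = nb X p ⊓ nb X y :=
    Submodule.eq_of_le_of_finrank_le (le_inf (hle p) ((hcongr p y hy).symm.le.trans (hle y))) (by
      rw [hblk]
      omega)
  exact hz (h3 ▸ le_inf hzp hzy)

end CfsgLib.SingerPrime
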