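/-
The blocks at the points of a doubly transitive group cannot fit together.
-/
import Cfsg.Agent.Lib.SingerPrime.Sym
import Cfsg.Agent.Lib.SingerPrime.Blocks

set_option autoImplicit false
set_option linter.unusedSectionVars false
set_option linter.style.haveILetI false
set_option maxHeartbeats 1000000

namespace CfsgLib.SingerPrime

open Module
open CfsgLib.SingerFive (Sub pt exists_pt smul_pt sub_smul_val finite_field PairTrans)
open CfsgLib.SingerSeven

variable {F V : Type*} [Field F] [AddCommGroup V] [Module F V] [Finite V] {G : Subgroup (V ≃ₗ[F] V)}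

attribute [local instance] finite_quot

open Classical in
/-- The block at a point and a line through it. -/
noncomputable def zb (G : Subgroup (V ≃ₗ[F] V)) (a b : Sub F V 1) : Submodule F V :=
  if h : b = a then ⊥ else (blk (qgrp G a) (qpt a.1 b (not_le_of_ne h))).comap a.1.mkQ

open Classical in
/-- The class at a point and a line through it. -/
noncomputable def ib (G : Subgroup (V ≃ₗ[F] V)) (a b : Sub F V 1) : Submodule F V :=
  if h : b = a then ⊥ else
    (din (qgrp G a) (ann (qgrp G a) (qpt a.1 b (not_le_of_ne h)))).comap a.1.mkQ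

/-- The blocks in the whole space. -/
structure Mid (G : Subgroup (V ≃ₗ[F] V)) (w s i : ℕ) : Prop where
  pairs : PairTrans G
  dim : finrank F V = 2 * (s + i) + 1
  i_pos : 0 < i
  two_lt : 2 * i < s
  w_eq : w = s + 2 * i
  wl_dim : ∀ a b : Sub F V 1, a ≠ b → finrank F (wl G a b) = w + 1
  le_zb : ∀ a b z : Sub F V 1, a ≠ b → a ≠ z → (z.1 ≤ zb G a b ↔ wl G a b ⊔ wl G a z ≠ ⊤)
  self_zb : ∀ a b : Sub F V 1, a ≠ b → a.1 ≤ zb G a b
  self_ib : ∀ a b : Sub F V 1, a ≠ b → a.1 ≤ ib G a b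
  zb_le : ∀ a b : Sub F V 1, a ≠ b → zb G a b ≤ wl G a b
  zb_dim : ∀ a b : Sub F V 1, a ≠ b → finrank F (zb G a b) = s + i + 1
  ib_dim : ∀ a b : Sub F V 1, a ≠ b → finrank F (ib G a b) = i + 1
  le_ib : ∀ a b z : Sub F V 1, a ≠ b → a ≠ z → (z.1 ≤ ib G a b ↔ wl G a z = wl G a b)
  ib_le : ∀ a b : Sub F V 1, a ≠ b → ib G a b ≤ zb G a b
  zb_congr : ∀ a b z : Sub F V 1, a ≠ b → a ≠ z → z.1 ≤ zb G a b → zb G a z = zb G a b
  tee : ∀ a b y z : Sub F V 1, a ≠ b → a ≠ y → y.1 ≤ zb G a b → z.1 ≤ wl G a b → z.1 ≤ wl G a y →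
    ¬ z.1 ≤ zb G a b → wl G a y = wl G a b
  sup_dim : ∀ a b z : Sub F V 1, a ≠ b → a ≠ z → wl G a b ⊔ wl G a z ≠ ⊤ →
    finrank F ↥(wl G a b ⊔ wl G a z) + (s - i) ≤ finrank F V

theorem sys_qgrp (h2 : PairTrans G) {w s : ℕ} (hn : finrank F V = w + s + 1) (hs : s < w) (h3 : w + s < 3 * s)
    (hw : ∀ a b : Sub F V 1, a ≠ b → finrank F (wl G a b) = w + 1) (a : Sub F V 1) : Sys (qgrp G a) w s := by
  haveI : FiniteDimensional F V := Module.Finite.of_finite
  refine ⟨qgrp_antiTrans h2 (by omega) a, ?_, fun A => ?_, hs, h3⟩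
  · have := finrank_quot a
    omega
  · obtain ⟨b, hb, rfl⟩ := exists_qpt a.1 A
    have hne : b ≠ a := fun e => hb (e ▸ le_rfl)
    have := hw a b hne.symm
    rw [wl_def a b hne hb, comap_mkQ_finrank] at this
    omega

theorem exists_mid (h2 : PairTrans G) {w s : ℕ} (hn : finrank F V = w + s + 1) (hs : s < w) (h3 : w + s < 3 * s)
    (hw : ∀ a b : Sub F V 1, a ≠ b → finrank F (wl G a b) = w + 1) : ∃ i, Mid G w s i := by
  classical
  haveI : FiniteDimensional F V := Module.Finite.of_finite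
  haveI : Nontrivial V := Module.nontrivial_of_finrank_pos (R := F) (by omega)
  obtain ⟨a₀, -⟩ := exists_pt_le (F := F) (L := (⊤ : Submodule F V)) (by rw [finrank_top]; omega)
  have Y := fun a => sys_qgrp h2 hn hs h3 hw a
  obtain ⟨i, hwi, B₀⟩ := (Y a₀).blocks
  have hB : ∀ a, BlockSys (qgrp G a) s i := fun a => by
    obtain ⟨j, hj, B⟩ := (Y a).blocks
    rwa [show i = j by omega]
  have hwl : ∀ a b, ∀ h : b ≠ a, wl G a b = (nb (qgrp G a) (qpt a.1 b (not_le_of_ne h))).comap a.1.mkQ :=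
    fun a b h => wl_def a b h _
  have hzb : ∀ a b, ∀ h : b ≠ a, zb G a b = (blk (qgrp G a) (qpt a.1 b (not_le_of_ne h))).comap a.1.mkQ :=
    fun a b h => dif_neg h
  have hib : ∀ a b, ∀ h : b ≠ a,
      ib G a b = (din (qgrp G a) (ann (qgrp G a) (qpt a.1 b (not_le_of_ne h)))).comap a.1.mkQ :=
    fun a b h => dif_neg h
  have hle : ∀ (a z : Sub F V 1) (h : z ≠ a) (L : Submodule F (V ⧸ a.1)),
      z.1 ≤ L.comap a.1.mkQ ↔ (qpt a.1 z (not_le_of_ne h)).1 ≤ L := fun a z h L => le_comap_iff a z L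
  have hmeet : ∀ (a b z : Sub F V 1) (hb : b ≠ a) (hz : z ≠ a),
      finrank F ↥(wl G a b ⊔ wl G a z) +
        finrank F ↥(ann (qgrp G a) (qpt a.1 b (not_le_of_ne hb)) ⊓ ann (qgrp G a) (qpt a.1 z (not_le_of_ne hz))) =
          finrank F V := by
    intro a b z hb hz
    have ha : a.1 ≤ wl G a b ⊔ wl G a z := le_sup_of_le_left (hwl a b hb ▸ self_le_comap a _)
    rw [← finrank_map_mkQ a ha, ← finrank_quot a, Submodule.map_sup, hwl a b hb, hwl a z hz,
      Submodule.map_comap_eq_of_surjective a.1.mkQ_surjective,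
      Submodule.map_comap_eq_of_surjective a.1.mkQ_surjective,
      ← Subspace.finrank_add_finrank_dualAnnihilator_eq (nb (qgrp G a) (qpt a.1 b (not_le_of_ne hb)) ⊔
        nb (qgrp G a) (qpt a.1 z (not_le_of_ne hz))), Submodule.dualAnnihilator_sup_eq]
    simp only [ann]
    exact Nat.add_right_comm _ _ _
  have hannwl : ∀ (a b z : Sub F V 1) (hb : b ≠ a) (hz : z ≠ a),
      ann (qgrp G a) (qpt a.1 z (not_le_of_ne hz)) = ann (qgrp G a) (qpt a.1 b (not_le_of_ne hb)) ↔
        wl G a z = wl G a b := by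
    intro a b z hb hz
    rw [hwl a b hb, hwl a z hz, (Submodule.comap_injective_of_surjective a.1.mkQ_surjective).eq_iff]
    exact Subspace.dualAnnihilator_inj
  refine ⟨i, h2, by omega, B₀.i_pos, B₀.two_lt, hwi, hw, ?_, ?_, ?_, ?_, ?_, ?_, ?_, ?_, ?_, ?_, ?_⟩
  · intro a b z hb hz
    rw [hzb a b hb.symm, hle a z hz.symm, (hB a).le_iff, ne_eq, ne_eq, not_iff_not]
    have h := hmeet a b z hb.symm hz.symm
    constructor
    · intro e
      rw [e, finrank_bot, add_zero] at h
      exact Submodule.eq_top_of_finrank_eq h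
    · intro e
      rw [e, finrank_top, Nat.add_eq_left, Submodule.finrank_eq_zero] at h
      exact h
  · intro a b hb
    rw [hzb a b hb.symm]
    exact self_le_comap a _
  · intro a b hb
    rw [hib a b hb.symm]
    exact self_le_comap a _
  · intro a b hb
    rw [hzb a b hb.symm, hwl a b hb.symm]
    exact Submodule.comap_mono ((hB a).blk_le _)
  · intro a b hb
    rw [hzb a b hb.symm, comap_mkQ_finrank, (hB a).finrank_blk]
  · intro a b hb
    rw [hib a b hb.symm, comap_mkQ_finrank, (hB a).cls]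
  · intro a b z hb hz
    rw [hib a b hb.symm, hle a z hz.symm, (Y a).le_cls_iff, hannwl a b z hb.symm hz.symm]
  · intro a b hb
    rw [hzb a b hb.symm, hib a b hb.symm]
    exact Submodule.comap_mono ((hB a).cls_le _)
  · intro a b z hb hz h
    rw [hzb a b hb.symm, hle a z hz.symm] at h
    rw [hzb a b hb.symm, hzb a z hz.symm, (hB a).blk_congr _ _ h]
  · intro a b y z hb hy h1 h2' h3' h4
    have hza : z ≠ a := fun e => h4 (by rw [e, hzb a b hb.symm]; exact self_le_comap a _)
    rw [hzb a b hb.symm, hle a y hy.symm] at h1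
    rw [hwl a b hb.symm, hle a z hza] at h2'
    rw [hwl a y hy.symm, hle a z hza] at h3'
    rw [hzb a b hb.symm, hle a z hza] at h4
    exact (hannwl a b y hb.symm hy.symm).mp ((hB a).tee _ _ _ h1 h2' h3' h4)
  · intro a b z hb hz hne
    have h := hmeet a b z hb.symm hz.symm
    by_cases hm : ann (qgrp G a) (qpt a.1 z (not_le_of_ne hz.symm)) = ann (qgrp G a) (qpt a.1 b (not_le_of_ne hb.symm))
    · rw [hm, inf_idem, (Y a).finrank_ann] at h
      omega
    · have h1 := ((Y a).structure_at (qpt a.1 b (not_le_of_ne hb.symm))).2.1 _ hm (fun e => hne (by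
        rw [e, finrank_bot, add_zero] at h
        exact Submodule.eq_top_of_finrank_eq h))
      rw [(hB a).cls] at h1
      omega

variable {w s i : ℕ}

theorem Mid.hn (M : Mid G w s i) : 3 ≤ finrank F V := by
  have := M.dim
  have := M.i_pos
  omega

theorem Mid.smul_zb (M : Mid G w s i) {g : V ≃ₗ[F] V} (hg : g ∈ G) (a b : Sub F V 1) (h : a ≠ b) :
    zb G (g • a) (g • b) = (zb G a b).map (g : V →ₗ[F] V) := by
  haveI : FiniteDimensional F V := Module.Finite.of_finite
  have h' : g • a ≠ g • b := fun e => h (MulAction.injective g e)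
  refine (Submodule.eq_of_le_of_finrank_le (le_of_pts fun z hz => ?_)
    (by rw [LinearEquiv.finrank_map_eq, M.zb_dim a b h, M.zb_dim _ _ h'])).symm
  obtain ⟨z, rfl⟩ : ∃ z', g • z' = z := ⟨g⁻¹ • z, smul_inv_smul g z⟩
  rw [map_le_smul] at hz
  by_cases hza : z = a
  · rw [hza]
    exact M.self_zb _ _ h'
  have hza' : g • a ≠ g • z := fun e => hza (MulAction.injective g e).symm
  rw [M.le_zb _ _ _ h' hza', wl_smul M.pairs M.hn h.symm hg, wl_smul M.pairs M.hn hza hg, ← Submodule.map_sup]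
  intro e
  have h1 := (M.le_zb a b z h (Ne.symm hza)).mp hz
  refine h1 (Submodule.eq_top_of_finrank_eq ?_)
  rw [← LinearEquiv.finrank_map_eq g, e, finrank_top]

theorem Mid.smul_ib (M : Mid G w s i) {g : V ≃ₗ[F] V} (hg : g ∈ G) (a b : Sub F V 1) (h : a ≠ b) :
    ib G (g • a) (g • b) = (ib G a b).map (g : V →ₗ[F] V) := by
  haveI : FiniteDimensional F V := Module.Finite.of_finite
  have h' : g • a ≠ g • b := fun e => h (MulAction.injective g e)
  refine (Submodule.eq_of_le_of_finrank_le (le_of_pts fun z hz => ?_)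
    (by rw [LinearEquiv.finrank_map_eq, M.ib_dim a b h, M.ib_dim _ _ h'])).symm
  obtain ⟨z, rfl⟩ : ∃ z', g • z' = z := ⟨g⁻¹ • z, smul_inv_smul g z⟩
  rw [map_le_smul] at hz
  by_cases hza : z = a
  · rw [hza]
    exact M.self_ib _ _ h'
  have hza' : g • a ≠ g • z := fun e => hza (MulAction.injective g e).symm
  rw [M.le_ib _ _ _ h' hza', wl_smul M.pairs M.hn h.symm hg, wl_smul M.pairs M.hn hza hg,
    (M.le_ib a b z h (Ne.symm hza)).mp hz]

theorem Mid.right_ib (M : Mid G w s i) (a b : Sub F V 1) (h : a ≠ b) : b.1 ≤ ib G a b :=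
  (M.le_ib a b b h h).mpr rfl

theorem Mid.right_zb (M : Mid G w s i) (a b : Sub F V 1) (h : a ≠ b) : b.1 ≤ zb G a b :=
  (M.right_ib a b h).trans (M.ib_le a b h)

/-- The blocks at the two ends of a line are equal or meet in a hyperplane of each. -/
theorem Mid.meet_large (M : Mid G w s i) {a b : Sub F V 1} (hab : a ≠ b) :
    s + i ≤ finrank F ↥(zb G a b ⊓ zb G b a) := by
  classical
  haveI : FiniteDimensional F V := Module.Finite.of_finite
  haveI : Nontrivial V := Module.nontrivial_of_finrank_pos (R := F) (by have := M.hn; omega)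
  haveI : Finite F := finite_field (V := V)
  haveI : Finite (V ≃ₗ[F] V) := finite_equiv
  have h2 := M.pairs
  have hn := M.hn
  obtain ⟨p, hchar⟩ := CharP.exists F
  haveI : Fact p.Prime := ⟨CharP.char_is_prime F p⟩
  obtain ⟨f, hf, hq⟩ := exists_card_field (F := F) p
  obtain ⟨S, hSle, hSp, hSmax⟩ := exists_sylow_sub p (flg G a (ln a b hab))
  set Sb := S ⊓ MulAction.stabilizer (V ≃ₗ[F] V) b with hSb
  have hidx : Nat.card S ≤ Nat.card Sb * Nat.card F := by
    rw [← card_fix_mul_orbit S b]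
    refine Nat.mul_le_mul_left _ ?_
    rw [← card_line_rest a (ln a b hab).2 le_sup_left]
    refine Nat.card_le_card_of_injective (fun x : MulAction.orbit S b => (⟨x.1, ?_⟩ :
      {e : Sub F V 1 // e.1 ≤ (ln a b hab).1 ∧ e ≠ a})) (fun x y h => Subtype.ext (congrArg (fun z :
        {e : Sub F V 1 // e.1 ≤ (ln a b hab).1 ∧ e ≠ a} => z.1) h))
    obtain ⟨⟨g, hg⟩, hx⟩ := x.2
    rw [← hx]
    exact ⟨line_stab (hSle hg), fun h => hab (MulAction.injective g (h.trans (mem_flg.mp (hSle hg)).2.1.symm)).symm⟩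
  have hmove : ∀ g ∈ Sb, g ∈ G ∧ g • a = a ∧ g • b = b := fun g hg =>
    ⟨(mem_flg.mp (hSle hg.1)).1, (mem_flg.mp (hSle hg.1)).2.1, hg.2⟩
  have hline : ∀ {g : V ≃ₗ[F] V}, g • a = a → ∀ (x : Sub F V 2), a.1 ≤ x.1 → a.1 ≤ (g • x).1 := fun {g} hga x hx => by
    have := (le_smul_iff g a x).mpr hx
    rwa [hga] at this
  have hkeep : ∀ {g : V ≃ₗ[F] V} {W : Submodule F V}, W.map (g : V →ₗ[F] V) = W → ∀ (x : Sub F V 2),
      (g • x).1 ≤ W ↔ x.1 ≤ W := fun {g W} hW x => by
    conv_lhs => rw [← hW]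
    exact line_le_smul g x W
  set Z := zb G a b with hZ
  set Z' := zb G b a with hZ'
  by_contra hy
  push Not at hy
  -- a line at the point in the block and off the class
  obtain ⟨mx, ⟨hamx, hmxZ, hmxI⟩, horb⟩ := exists_small_orbit Sb (hSp.to_le inf_le_left)
    (fun x : Sub F V 2 => a.1 ≤ x.1 ∧ x.1 ≤ Z ∧ ¬ x.1 ≤ ib G a b)
    (fun g hg x hx => by
      obtain ⟨hgG, hga, hgb⟩ := hmove g hg
      have e1 : Z.map (g : V →ₗ[F] V) = Z := by rw [hZ, ← M.smul_zb hgG a b hab, hga, hgb]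
      have e2 : (ib G a b).map (g : V →ₗ[F] V) = ib G a b := by rw [← M.smul_ib hgG a b hab, hga, hgb]
      exact ⟨hline hga x hx.1, (hkeep e1 x).mpr hx.2.1, fun h => hx.2.2 ((hkeep e2 x).mp h)⟩)
    hf hq (show i < s + i by have := M.two_lt; omega)
    (by
      have := card_lines_diff (F := F) a (M.self_ib a b hab) (M.ib_le a b hab)
      rw [M.ib_dim a b hab, M.zb_dim a b hab, Nat.add_sub_cancel, Nat.add_sub_cancel] at this
      exact this)
  obtain ⟨x, hax, rfl⟩ := exists_ln hamx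
  set Q := Sb ⊓ MulAction.stabilizer (V ≃ₗ[F] V) (ln a x hax) with hQ
  have hidx2 : Nat.card Sb ≤ Nat.card Q * Nat.card F ^ i := by
    rw [← card_fix_mul_orbit Sb (ln a x hax)]
    exact Nat.mul_le_mul_left _ horb
  have hQa : Q ≤ flg G a (ln a x hax) := fun g hg =>
    mem_flg.mpr ⟨(hmove g hg.1).1, (hmove g hg.1).2.1, hg.2⟩
  have hQp : IsPGroup p Q := hSp.to_le (inf_le_left.trans inf_le_left)
  set Y0 := Z ⊓ Z' with hY0
  have hbY : a.1 ≤ Y0 := le_inf (M.self_zb a b hab) (M.right_zb b a hab.symm)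
  have hy1 : 1 ≤ finrank F Y0 := a.2.symm.le.trans (Submodule.finrank_mono hbY)
  have hylt : finrank F Y0 < s + i + 1 := by omega
  obtain ⟨mz, ⟨hamz, hmzZ, hmzY⟩, hz⟩ := exists_small_orbit Q hQp
    (fun x : Sub F V 2 => a.1 ≤ x.1 ∧ x.1 ≤ Z' ∧ ¬ x.1 ≤ Y0)
    (fun g hg x hx => by
      obtain ⟨hgG, hga, hgb⟩ := hmove g hg.1
      have e1 : Z'.map (g : V →ₗ[F] V) = Z' := by rw [hZ', ← M.smul_zb hgG b a hab.symm, hga, hgb]
      have e2 : Y0.map (g : V →ₗ[F] V) = Y0 := by
        rw [hY0, Submodule.map_inf _ g.injective, e1, hZ, ← M.smul_zb hgG a b hab, hga, hgb]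
      exact ⟨hline hga x hx.1, (hkeep e1 x).mpr hx.2.1, fun h => hx.2.2 ((hkeep e2 x).mp h)⟩)
    hf hq (show finrank F Y0 - 1 < s + i by omega)
    (by
      have := card_lines_diff (F := F) a hbY (inf_le_right : Y0 ≤ Z')
      rw [hZ', M.zb_dim b a hab.symm, Nat.add_sub_cancel] at this
      exact this)
  obtain ⟨z, haz, rfl⟩ := exists_ln hamz
  have hzZ' : z.1 ≤ Z' := le_sup_right.trans hmzZ
  have hzZ : ¬ z.1 ≤ Z := fun h => hmzY (sup_le hbY (le_inf h hzZ'))
  have hxZ : x.1 ≤ Z := le_sup_right.trans hmxZ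
  have hzW : z.1 ≤ wl G a b := by
    rw [← wl_symm h2 hn hab]
    exact hzZ'.trans (M.zb_le b a hab.symm)
  have hzx : ¬ (ln a z haz).1 ≤ wl G a x := fun h => hmxI
    (sup_le (M.self_ib a b hab) ((M.le_ib a b x hab hax).mpr
      (M.tee a b x z hab hax hxZ hzW (le_sup_right.trans h) hzZ)))
  have hbig := line_orbit_large h2 hn hq hax S Q (fun d hd => hSmax d (by
    rwa [card_flg_eq h2 hab hax])) hQa hQp (show a.1 ≤ (ln a z haz).1 from le_sup_left) hzx
  rw [M.wl_dim a x hax, Nat.add_sub_cancel] at hbig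
  obtain ⟨y, hy'⟩ : ∃ y, finrank F Y0 = y + 1 := ⟨finrank F Y0 - 1, by omega⟩
  rw [hy', Nat.add_sub_cancel] at hz
  have hq2 : 2 ≤ Nat.card F := Finite.one_lt_card
  have h1 : Nat.card F ^ w * Nat.card Q ≤ Nat.card F ^ (y + i + 1) * Nat.card Q := by
    refine hbig.trans ((Nat.mul_le_mul hz (hidx.trans (Nat.mul_le_mul_right _ hidx2))).trans_eq ?_)
    rw [pow_succ, pow_add]
    ring
  have h3 := (Nat.pow_le_pow_iff_right hq2).mp (Nat.le_of_mul_le_mul_right h1 Nat.card_pos)
  have := M.w_eq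
  omega

/-- The blocks at the ends of a line differ. -/
theorem Mid.zb_ne (M : Mid G w s i) {a₀ b₀ : Sub F V 1} (h₀ : a₀ ≠ b₀) : zb G a₀ b₀ ≠ zb G b₀ a₀ := by
  classical
  haveI : FiniteDimensional F V := Module.Finite.of_finite
  haveI : Nontrivial V := Module.nontrivial_of_finrank_pos (R := F) (by have := M.hn; omega)
  haveI : Finite F := finite_field (V := V)
  intro he
  have hsym : ∀ a b : Sub F V 1, a ≠ b → zb G b a = zb G a b := fun a b h => by
    obtain ⟨g, hg, rfl, rfl⟩ := M.pairs a₀ b₀ a b h₀ h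
    rw [M.smul_zb hg _ _ h₀.symm, M.smul_zb hg _ _ h₀, he]
  have hin : ∀ a b z u : Sub F V 1, a ≠ b → z ≠ u → z.1 ≤ zb G a b → u.1 ≤ zb G a b → zb G z u = zb G a b := by
    intro a b z u hab hzu hz hu
    by_cases hza : z = a
    · subst hza
      exact M.zb_congr z b u hab hzu hu
    have h1 : zb G z a = zb G a b := by
      rw [hsym a z (Ne.symm hza), M.zb_congr a b z hab (Ne.symm hza) hz]
    rw [M.zb_congr z a u hza hzu (h1.symm ▸ hu), h1]
  set q := Nat.card F with hqdef
  set c := s + i with hc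
  have hq2 : 2 ≤ q := Finite.one_lt_card
  haveI : Fintype (Sub F V 1) := Fintype.ofFinite _
  let Pr := Finset.univ.filter fun x : Sub F V 1 × Sub F V 1 => x.1 ≠ x.2
  have hcard : ∀ L : Submodule F V,
      ((Finset.univ.filter fun x : Sub F V 1 => x.1 ≤ L).offDiag).card =
        geo q (finrank F L) * geo q (finrank F L) - geo q (finrank F L) := fun L => by
    rw [Finset.offDiag_card, ← Fintype.card_subtype, ← Nat.card_eq_fintype_card, card_pts_geo]
  have hfib : ∀ W ∈ Pr.image (fun x => zb G x.1 x.2),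
      (Pr.filter fun x => zb G x.1 x.2 = W).card = geo q (c + 1) * geo q (c + 1) - geo q (c + 1) := by
    intro W hW
    obtain ⟨⟨a, b⟩, hx, rfl⟩ := Finset.mem_image.mp hW
    have hab : a ≠ b := (Finset.mem_filter.mp hx).2
    rw [← M.zb_dim a b hab, ← hcard]
    congr 1
    ext ⟨z, u⟩
    simp only [Pr, Finset.mem_filter, Finset.mem_univ, true_and, Finset.mem_offDiag]
    constructor
    · rintro ⟨hne, e⟩
      exact ⟨e ▸ M.self_zb z u hne, e ▸ M.right_zb z u hne, hne⟩
    · rintro ⟨hz, hu, hne⟩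
      exact ⟨hne, hin a b z u hab hne hz hu⟩
  have hPr : Pr.card = geo q (c + (c + 1)) * geo q (c + (c + 1)) - geo q (c + (c + 1)) := by
    rw [show c + (c + 1) = finrank F (⊤ : Submodule F V) by rw [finrank_top, M.dim]; omega, ← hcard]
    congr 1
    ext ⟨z, u⟩
    simp [Pr, Finset.mem_offDiag]
  have hsum := Finset.card_eq_sum_card_image (fun x => zb G x.1 x.2) Pr
  rw [hPr, Finset.sum_congr rfl hfib, Finset.sum_const, smul_eq_mul] at hsum
  obtain ⟨N, hN⟩ : ∃ N, (Pr.image fun x => zb G x.1 x.2).card = N := ⟨_, rfl⟩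
  rw [hN] at hsum
  have hgc : geo q (c + 1) = 1 + q * geo q c := by
    rw [add_comm c 1, geo_add, pow_one]
    simp [geo]
  have hgn : geo q (c + (c + 1)) = 1 + q * (geo q c + q ^ c * geo q c) := by
    rw [show c + (c + 1) = 1 + (c + c) by omega, geo_add q 1, geo_add q c c, pow_one]
    simp [geo]
  have hc0 : 0 < geo q c := geo_pos hq2 (by have := M.two_lt; omega)
  have hdvd : geo q (c + 1) ∣ geo q (c + (c + 1)) * (1 + q ^ c) := by
    refine ⟨N, Nat.eq_of_mul_eq_mul_right (show 0 < q * geo q c by positivity) ?_⟩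
    have e : ∀ r, (1 + r) * (1 + r) - (1 + r) = (1 + r) * r := fun r =>
      Nat.sub_eq_of_eq_add (by ring)
    rw [hgn, hgc, e, e] at hsum
    rw [hgn, hgc]
    linear_combination hsum
  have hcop : Nat.Coprime (geo q (c + 1)) (geo q (c + (c + 1))) := by
    show Nat.gcd _ _ = 1
    rw [geo_gcd hq2, show Nat.gcd (c + 1) (c + (c + 1)) = 1 by
      rw [Nat.gcd_comm, Nat.gcd_add_self_left]
      simp]
    simp [geo]
  have h1 := Nat.le_of_dvd (by positivity) (hcop.dvd_of_dvd_mul_left hdvd)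
  have h2 : geo q 2 ≤ geo q c := (geo_strictMono hq2).monotone (by have := M.two_lt; have := M.i_pos; omega)
  have h3 : geo q 2 = 1 + q := by simp [geo, Finset.sum_range_succ]
  rw [geo_succ] at h1
  omega

/-- A third point in the two blocks of a line sees the two ends in one block. -/
theorem Mid.tri (M : Mid G w s i) {a b z : Sub F V 1} (hab : a ≠ b) (haz : a ≠ z) (hbz : b ≠ z)
    (h1 : z.1 ≤ zb G a b) (h2' : z.1 ≤ zb G b a) : b.1 ≤ zb G z a := by
  haveI : FiniteDimensional F V := Module.Finite.of_finite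
  have h2 := M.pairs
  have hn := M.hn
  rw [M.le_zb z a b haz.symm hbz.symm, wl_symm h2 hn haz, wl_symm h2 hn hbz]
  have e1 := M.sup_dim a b z hab haz ((M.le_zb a b z hab haz).mp h1)
  have e2 := M.sup_dim b a z hab.symm hbz ((M.le_zb b a z hab.symm hbz).mp h2')
  rw [wl_symm h2 hn hab] at e2
  intro htop
  have h4 := Submodule.finrank_sup_add_finrank_inf_eq (wl G a b ⊔ wl G a z) (wl G a b ⊔ wl G b z)
  have h5 : (wl G a b ⊔ wl G a z) ⊔ (wl G a b ⊔ wl G b z) = ⊤ :=
    eq_top_iff.mpr (htop ▸ sup_le (le_sup_right.trans le_sup_left) (le_sup_right.trans le_sup_right))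
  rw [h5, finrank_top] at h4
  have h6 : wl G a b ≤ (wl G a b ⊔ wl G a z) ⊓ (wl G a b ⊔ wl G b z) := le_inf le_sup_left le_sup_left
  have h7 := Submodule.finrank_mono h6
  rw [M.wl_dim a b hab] at h7
  have := M.dim
  have := M.w_eq
  have := M.two_lt
  omega

/-- The blocks cannot fit together. -/
theorem Mid.false (M : Mid G w s i) : False := by
  classical
  haveI : FiniteDimensional F V := Module.Finite.of_finite
  haveI : Nontrivial V := Module.nontrivial_of_finrank_pos (R := F) (by have := M.hn; omega)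
  have h2 := M.pairs
  have hn := M.hn
  set Yl : Sub F V 1 → Sub F V 1 → Submodule F V := fun a b => zb G a b ⊓ zb G b a with hYl
  have hdim : ∀ a b : Sub F V 1, a ≠ b → finrank F (Yl a b) = s + i := fun a b h => by
    refine le_antisymm ?_ (M.meet_large h)
    by_contra hlt
    push Not at hlt
    refine M.zb_ne h ?_
    have h1 : zb G a b ⊓ zb G b a = zb G a b := Submodule.eq_of_le_of_finrank_le inf_le_left (by
      rw [M.zb_dim a b h]; exact hlt)
    have h1' : zb G a b ⊓ zb G b a = zb G b a := Submodule.eq_of_le_of_finrank_le inf_le_right (by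
      rw [M.zb_dim b a h.symm]; exact hlt)
    exact h1.symm.trans h1'
  -- one of the other lines has the same subspace
  have keyA : ∀ a b z : Sub F V 1, a ≠ b → a ≠ z → b ≠ z → z.1 ≤ zb G a b → z.1 ≤ zb G b a →
      Yl a b ≤ zb G z a ∨ wl G z a = wl G z b := by
    intro a b z hab haz hbz h1 h2'
    refine or_iff_not_imp_left.mpr fun hnot => ?_
    obtain ⟨z', hz', hz'n⟩ := exists_pt_not_le hnot
    have ea : z'.1 ≤ wl G z a := by
      rw [wl_symm h2 hn haz]
      exact (hz'.trans inf_le_left).trans ((M.zb_congr a b z hab haz h1).symm.le.trans (M.zb_le a z haz))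
    have eb : z'.1 ≤ wl G z b := by
      rw [wl_symm h2 hn hbz]
      exact (hz'.trans inf_le_right).trans ((M.zb_congr b a z hab.symm hbz h2').symm.le.trans (M.zb_le b z hbz))
    exact (M.tee z a b z' haz.symm hbz.symm (M.tri hab haz hbz h1 h2') ea eb hz'n).symm
  have key : ∀ a b z : Sub F V 1, a ≠ b → a ≠ z → z.1 ≤ Yl a b → ¬ z.1 ≤ ib G a b → Yl a z = Yl a b := by
    intro a b z hab haz hz hzI
    have hbz : b ≠ z := fun e => hzI (e ▸ M.right_ib a b hab)
    obtain ⟨h1, h2'⟩ := le_inf_iff.mp hz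
    have hZ : zb G a z = zb G a b := M.zb_congr a b z hab haz h1
    rcases keyA a b z hab haz hbz h1 h2' with h | h
    · exact (Submodule.eq_of_le_of_finrank_le (le_inf (inf_le_left.trans_eq hZ.symm) h)
        (by rw [hdim a b hab, hdim a z haz])).symm
    · have g1 : b.1 ≤ zb G a z := hZ ▸ M.right_zb a b hab
      have g2 : b.1 ≤ zb G z a := M.tri hab haz hbz h1 h2'
      rcases keyA a z b haz hab hbz.symm g1 g2 with h' | h'
      · exact Submodule.eq_of_le_of_finrank_le (le_inf (inf_le_left.trans_eq hZ) h')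
          (by rw [hdim a b hab, hdim a z haz])
      · refine absurd ((M.le_ib a b z hab haz).mpr ?_) hzI
        rw [← wl_symm h2 hn haz, h, wl_symm h2 hn hbz, ← h', wl_symm h2 hn hab]
  obtain ⟨a, -⟩ := exists_pt_le (F := F) (L := (⊤ : Submodule F V)) (by rw [finrank_top]; omega)
  obtain ⟨b, -, hb⟩ := exists_pt_not_le (L := (⊤ : Submodule F V)) (L' := a.1) (fun h => by
    have := Submodule.finrank_mono h
    rw [finrank_top, a.2] at this
    omega)
  have hab : a ≠ b := fun e => hb (e ▸ le_rfl)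
  -- all points of the block would lie in one hyperplane of it
  have hle : zb G a b ≤ Yl a b := le_of_pts fun x hx => by
    by_cases hxa : x = a
    · rw [hxa]
      exact le_inf (M.self_zb a b hab) (M.right_zb b a hab.symm)
    have hax : a ≠ x := Ne.symm hxa
    have hZ : zb G a x = zb G a b := M.zb_congr a b x hab hax hx
    set K := Yl a x ⊓ Yl a b with hK
    have hKdim : s + i ≤ finrank F K + 1 := by
      have h := Submodule.finrank_sup_add_finrank_inf_eq (Yl a x) (Yl a b)
      have h' : finrank F ↥(Yl a x ⊔ Yl a b) ≤ s + i + 1 := (Submodule.finrank_mono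
        (sup_le (inf_le_left.trans_eq hZ) inf_le_left)).trans_eq (M.zb_dim a b hab)
      rw [hdim a x hax, hdim a b hab] at h
      rw [hK]
      omega
    have hout : ∀ y, a ≠ y → (ib G a y).comap K.subtype ≠ ⊤ := fun y hy e => by
      rw [Submodule.comap_subtype_eq_top] at e
      have := Submodule.finrank_mono e
      rw [M.ib_dim a y hy] at this
      have := M.two_lt
      have := M.i_pos
      omega
    obtain ⟨v, hv1, hv2⟩ := exists_not_mem_two (hout x hax) (hout b hab)
    have hv0 : (v : V) ≠ 0 := fun e => hv1 (by rw [show v = 0 from Subtype.ext e]; exact zero_mem _)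
    set z : Sub F V 1 := pt (v : V) hv0
    have hzK : z.1 ≤ K := (Submodule.span_singleton_le_iff_mem _ _).mpr v.2
    have hzi : ∀ W : Submodule F V, (v : V) ∉ W → ¬ z.1 ≤ W := fun W hW h =>
      hW (h (Submodule.mem_span_singleton_self _))
    have haz : a ≠ z := fun e => hzi _ hv2 (e ▸ M.self_ib a b hab)
    have e1 := key a x z hax haz (hzK.trans inf_le_left) (hzi _ hv1)
    have e2 := key a b z hab haz (hzK.trans inf_le_right) (hzi _ hv2)
    rw [← e2, e1]
    exact le_inf (M.right_zb a x hax) (M.self_zb x a hax.symm)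
  have := Submodule.finrank_mono hle
  rw [hdim a b hab, M.zb_dim a b hab] at this
  omega

/-- No doubly transitive group has subspaces of the middle dimensions at its points. -/
theorem no_middle (h2 : PairTrans G) {w s : ℕ} (hn : finrank F V = w + s + 1) (hs : s < w) (h3 : w + s < 3 * s)
    (hw : ∀ a b : Sub F V 1, a ≠ b → finrank F (wl G a b) = w + 1) : False :=
  let ⟨_, M⟩ := exists_mid h2 hn hs h3 hw
  M.false

end CfsgLib.SingerPrime
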