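/-
A linear map of prime order `r` and a primitive prime divisor: the fixed space has a complement on which
the centraliser is a field.
-/
import Cfsg.Agent.Lib.SingerSeven.Tools

set_option autoImplicit false
set_option linter.unusedSectionVars false
set_option linter.style.haveILetI false

namespace CfsgLib.SingerPrime

open Module
open CfsgLib.SingerFive (finite_field)

variable {F V : Type*} [Field F] [AddCommGroup V] [Module F V] [Finite V]

/-- The fixed vectors of a map. -/
def fixSp (x : V ≃ₗ[F] V) : Submodule F V := LinearMap.ker ((x : V →ₗ[F] V) - LinearMap.id)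

/-- The differences of a map from the identity. -/
def movSp (x : V ≃ₗ[F] V) : Submodule F V := LinearMap.range ((x : V →ₗ[F] V) - LinearMap.id)

theorem mem_fixSp {x : V ≃ₗ[F] V} {v : V} : v ∈ fixSp x ↔ x v = v := sub_eq_zero

theorem sub_mem_movSp (x : V ≃ₗ[F] V) (v : V) : x v - v ∈ movSp x := ⟨v, rfl⟩

theorem pow_fix {x : V ≃ₗ[F] V} {v : V} (h : x v = v) : ∀ i : ℕ, (x ^ i) v = v
  | 0 => rfl
  | i + 1 => by rw [pow_succ, LinearEquiv.mul_apply, h, pow_fix h i]

/-- A map of order prime to the characteristic splits the space. -/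
theorem isCompl_fix_mov {r : ℕ} (x : V ≃ₗ[F] V) (hx : x ^ r = 1) (hr : (r : F) ≠ 0) :
    IsCompl (fixSp x) (movSp x) := by
  haveI : FiniteDimensional F V := Module.Finite.of_finite
  have hdisj : Disjoint (fixSp x) (movSp x) := by
    rw [Submodule.disjoint_def]
    rintro v hv ⟨y, rfl⟩
    have hy : (x : V →ₗ[F] V) y - y = x y - y := rfl
    rw [mem_fixSp] at hv
    have h1 : ∀ i : ℕ, (x ^ i) y = y + (i : F) • (x y - y) := by
      intro i
      induction i with
      | zero => simp
      | succ i ih =>
        have h2 : (x ^ i) (x y - y) = x y - y := pow_fix hv i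
        rw [pow_succ, LinearEquiv.mul_apply, show x y = (x y - y) + y by abel, map_add, h2, ih,
          show x y - y + y - y = x y - y by abel, Nat.cast_add, Nat.cast_one, add_smul, one_smul]
        abel
    have h3 := h1 r
    rw [hx, show (1 : V ≃ₗ[F] V) y = y from rfl, left_eq_add, smul_eq_zero] at h3
    exact h3.resolve_left hr
  refine IsCompl.of_eq hdisj.eq_bot (Submodule.eq_top_of_disjoint _ _ ?_ hdisj)
  have := ((x : V →ₗ[F] V) - LinearMap.id).finrank_range_add_finrank_ker
  show finrank F V ≤ finrank F (fixSp x) + finrank F (movSp x)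
  exact le_of_eq (by rw [← this, add_comm]; rfl)

/-- A fixed-point-free invariant subspace of an element of order `r` has dimension a multiple of `e`. -/
theorem dvd_finrank_of_fpf {r e : ℕ} (hr : r.Prime) (x : V ≃ₗ[F] V) (hx : x ^ r = 1) (he : 0 < e)
    (hre : r ∣ Nat.card F ^ e - 1) (hppd : ∀ i, 1 ≤ i → i < e → ¬ r ∣ Nat.card F ^ i - 1)
    (D : Submodule F V) (hinv : ∀ v ∈ D, x v ∈ D) (hfpf : ∀ v ∈ D, x v = v → v = 0) :
    e ∣ finrank F D := by
  by_cases hD : finrank F D = 0
  · rw [hD]; exact dvd_zero e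
  haveI : Nontrivial D := Module.nontrivial_of_finrank_pos (R := F) (Nat.pos_of_ne_zero hD)
  haveI : Finite F := finite_field (V := D)
  haveI : Fact r.Prime := ⟨hr⟩
  have hpow : ∀ i : ℕ, ∀ v ∈ D, (x ^ i) v ∈ D := by
    intro i
    induction i with
    | zero => intro v hv; exact hv
    | succ i ih => intro v hv; rw [pow_succ, LinearEquiv.mul_apply]; exact ih _ (hinv v hv)
  let Q := Subgroup.zpowers x
  have hinv' : ∀ g ∈ Q, ∀ v ∈ D, g v ∈ D := fun g hg v hv => by
    obtain ⟨i, rfl⟩ : ∃ i : ℕ, x ^ i = g := by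
      exact (Submonoid.mem_powers_iff _ _).mp
        ((isOfFinOrder_iff_pow_eq_one.mpr ⟨r, hr.pos, hx⟩).mem_powers_iff_mem_zpowers.mpr hg)
    exact hpow i v hv
  letI : MulAction Q D :=
    { smul := fun g v => ⟨(g : V ≃ₗ[F] V) v.1, hinv' g g.2 v.1 v.2⟩
      one_smul := fun v => Subtype.ext rfl
      mul_smul := fun g h v => Subtype.ext rfl }
  have hQ : IsPGroup r Q := fun g => ⟨1, by
    obtain ⟨i, hi⟩ := g.2
    refine Subtype.ext ?_
    rw [pow_one, SubmonoidClass.coe_pow, OneMemClass.coe_one, ← hi, ← zpow_natCast (x ^ i) r, ← zpow_mul, mul_comm,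
      zpow_mul, zpow_natCast, hx, one_zpow]⟩
  have h1 := hQ.card_modEq_card_fixedPoints D
  have h2 : Nat.card (MulAction.fixedPoints Q D) = 1 := by
    refine Nat.card_eq_one_iff_unique.mpr ⟨⟨fun a b => Subtype.ext ?_⟩, ⟨⟨0, fun g => Subtype.ext (map_zero _)⟩⟩⟩
    have key : ∀ a : MulAction.fixedPoints Q D, a.1 = 0 := fun a => Subtype.ext
      (hfpf a.1.1 a.1.2 (congrArg Subtype.val (a.2 ⟨x, Subgroup.mem_zpowers x⟩)))
    rw [key a, key b]
  rw [h2, Module.natCard_eq_pow_finrank (K := F) (V := D)] at h1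
  have hq : 0 < Nat.card F := Nat.card_pos
  have h3 : r ∣ Nat.card F ^ finrank F D - 1 := (Nat.modEq_iff_dvd' (Nat.one_le_pow _ _ hq)).mp h1.symm
  have h4 := Nat.pow_sub_one_gcd_pow_sub_one (Nat.card F) (finrank F D) e
  have h5 : r ∣ Nat.card F ^ Nat.gcd (finrank F D) e - 1 := h4 ▸ Nat.dvd_gcd h3 hre
  have h6 : Nat.gcd (finrank F D) e = e := by
    by_contra hne
    exact hppd _ (Nat.gcd_pos_of_pos_right _ he)
      (lt_of_le_of_ne (Nat.le_of_dvd he (Nat.gcd_dvd_right _ _)) hne) h5
  rw [← h6]
  exact Nat.gcd_dvd_left _ _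

variable {W : Type*} [AddCommGroup W] [Module F W] [Finite W]

/-- The endomorphisms commuting with a map. -/
noncomputable abbrev centAlg (y : Module.End F W) : Subalgebra F (Module.End F W) := Subalgebra.centralizer F {y}

theorem mem_centAlg {y a : Module.End F W} : a ∈ centAlg y ↔ y * a = a * y := by
  simp [Subalgebra.mem_centralizer_iff]

/-- A map with no invariant subspace has a field as centraliser, of the dimension of the space. -/
theorem centAlg_field [Nontrivial W] (y : Module.End F W)
    (hirr : ∀ D : Submodule F W, (∀ v ∈ D, y v ∈ D) → D = ⊥ ∨ D = ⊤) :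
    IsField (centAlg y) ∧ Nat.card (centAlg y) = Nat.card W := by
  classical
  haveI : FiniteDimensional F W := Module.Finite.of_finite
  obtain ⟨v, hv⟩ := exists_ne (0 : W)
  let A : Subalgebra F (Module.End F W) := Algebra.adjoin F {y}
  have hAc : A ≤ centAlg y := Algebra.adjoin_le (Set.singleton_subset_iff.mpr (mem_centAlg.mpr rfl))
  let ev : Module.End F W →ₗ[F] W := LinearMap.applyₗ v
  have hev : Submodule.map ev A.toSubmodule = ⊤ := by
    refine (hirr _ fun w hw => ?_).resolve_left fun h => hv ?_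
    · obtain ⟨a, ha, rfl⟩ := hw
      exact ⟨y * a, A.mul_mem (Algebra.subset_adjoin rfl) ha, rfl⟩
    · have h1 : v ∈ Submodule.map ev A.toSubmodule := ⟨1, A.one_mem, rfl⟩
      rw [h] at h1
      exact (Submodule.mem_bot F).mp h1
  have key : ∀ a ∈ centAlg y, ∃ s ∈ A, a = s := by
    intro a ha
    obtain ⟨s, hs, hsv⟩ := (hev ▸ Submodule.mem_top : a v ∈ Submodule.map ev A.toSubmodule)
    refine ⟨s, hs, LinearMap.ext fun w => ?_⟩
    obtain ⟨t, ht, rfl⟩ := (hev ▸ Submodule.mem_top : w ∈ Submodule.map ev A.toSubmodule)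
    have h1 : t * a = a * t :=
      (Algebra.commute_of_mem_adjoin_of_forall_mem_commute ht fun z hz => by
        rw [Set.mem_singleton_iff.mp hz]; exact (mem_centAlg.mp ha).symm).symm.eq
    have h2 : t * s = s * t :=
      (Algebra.commute_of_mem_adjoin_of_forall_mem_commute ht fun z hz => by
        rw [Set.mem_singleton_iff.mp hz]; exact (mem_centAlg.mp (hAc hs)).symm).symm.eq
    show a (t v) = s (t v)
    rw [← Module.End.mul_apply, ← h1, Module.End.mul_apply, show a v = s v from hsv.symm, ← Module.End.mul_apply, h2,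
      Module.End.mul_apply]
  have hcomm : ∀ a b : centAlg y, a * b = b * a := fun a b => by
    obtain ⟨s, hs, e⟩ := key a a.2
    refine Subtype.ext ?_
    show (a : Module.End F W) * b = b * a
    rw [e]
    exact (Algebra.commute_of_mem_adjoin_of_forall_mem_commute hs fun z hz => by
      rw [Set.mem_singleton_iff.mp hz]; exact (mem_centAlg.mp b.2).symm).symm.eq
  haveI : Finite (Module.End F W) := Finite.of_injective (fun f : Module.End F W => (f : W → W)) DFunLike.coe_injective
  have hinj : Function.Injective fun a : centAlg y => (a : Module.End F W) v := by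
    intro a b h
    obtain ⟨s, hs, es⟩ := key a a.2
    refine Subtype.ext (LinearMap.ext fun w => ?_)
    obtain ⟨t, ht, rfl⟩ := (hev ▸ Submodule.mem_top : w ∈ Submodule.map ev A.toSubmodule)
    show (a : Module.End F W) (t v) = (b : Module.End F W) (t v)
    have h1 := hcomm a ⟨t, hAc ht⟩
    have h2 := hcomm b ⟨t, hAc ht⟩
    rw [← Module.End.mul_apply, ← Module.End.mul_apply,
      show (a : Module.End F W) * t = t * a from congrArg Subtype.val h1,
      show (b : Module.End F W) * t = t * b from congrArg Subtype.val h2, Module.End.mul_apply, Module.End.mul_apply]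
    exact congrArg t h
  have hsurj : Function.Surjective fun a : centAlg y => (a : Module.End F W) v := fun w => by
    obtain ⟨t, ht, rfl⟩ := (hev ▸ Submodule.mem_top : w ∈ Submodule.map ev A.toSubmodule)
    exact ⟨⟨t, hAc ht⟩, rfl⟩
  refine ⟨⟨⟨0, 1, fun h => hv ?_⟩, hcomm, fun {a} ha => ?_⟩, Nat.card_eq_of_bijective _ ⟨hinj, hsurj⟩⟩
  · have := congrArg (fun a : centAlg y => (a : Module.End F W) v) h
    simpa using this.symm
  · have hker : LinearMap.ker (a : Module.End F W) = ⊥ := by
      refine (hirr _ fun w hw => ?_).resolve_right fun h => ha (Subtype.ext ?_)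
      · rw [LinearMap.mem_ker] at hw ⊢
        rw [← Module.End.mul_apply, ← mem_centAlg.mp a.2, Module.End.mul_apply, hw, map_zero]
      · exact LinearMap.ker_eq_top.mp h
    have hbij : Function.Bijective fun b : centAlg y => a * b := by
      refine Finite.injective_iff_bijective.mp fun b c h => Subtype.ext (LinearMap.ext fun w => ?_)
      exact LinearMap.ker_eq_bot.mp hker (LinearMap.congr_fun (congrArg Subtype.val h) w)
    exact hbij.2 1

end CfsgLib.SingerPrime
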