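/-
A group of a plane, doubly transitive on its points, contains the special linear group.
-/
import Cfsg.Agent.Lib.SingerFive.PGroupBound
import Cfsg.Agent.Lib.SingerSeven.Tools
import Cfsg.Agent.Lib.StSL.Presentation

set_option autoImplicit false
set_option linter.unusedSectionVars false
set_option linter.style.haveILetI false
set_option maxHeartbeats 1000000
set_option linter.unnecessarySeqFocus false
set_option linter.unusedSimpArgs false

namespace CfsgLib.SingerPrime

open Module
open scoped commutatorElement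
open CfsgLib.SingerFive (Sub pt exists_pt smul_pt pt_eq_pt pt_le_iff finite_field)
open CfsgLib.SingerSeven (eq_of_pt_le exists_pt_not_le pt_eq_of_mem)

variable {F U : Type*} [Field F] [AddCommGroup U] [Module F U] [Finite U]

/-- The stabiliser of each point is transitive on the other points. -/
def PtwTrans (A : Subgroup (U ≃ₗ[F] U)) : Prop :=
  ∀ P Q Q' : Sub F U 1, Q ≠ P → Q' ≠ P → ∃ a ∈ A, (a : U ≃ₗ[F] U) • P = P ∧ (a : U ≃ₗ[F] U) • Q = Q'

theorem card_others [Finite F] (hU : finrank F U = 2) (P : Sub F U 1) :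
    Nat.card {Q : Sub F U 1 // Q ≠ P} = Nat.card F := by
  classical
  haveI : Fintype (Sub F U 1) := Fintype.ofFinite _
  let W : Sub F U 2 := ⟨⊤, by rw [finrank_top, hU]⟩
  have h := CfsgLib.SingerFive.card_on_line W
  rw [Nat.card_congr (Equiv.subtypeUnivEquiv fun Q : Sub F U 1 => le_top), Nat.card_eq_fintype_card] at h
  rw [Nat.card_eq_fintype_card, Fintype.card_subtype_compl, Fintype.card_subtype_eq, h]
  omega

/-- Every transvection of the plane lies in the group. -/
theorem tv_mem (hU : finrank F U = 2) {A : Subgroup (U ≃ₗ[F] U)} (hA : PtwTrans A) {v : U} (hv : v ≠ 0)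
    {φ : Dual F U} (hφ : φ v = 0) : ∃ a ∈ A, ∀ y, (a : U ≃ₗ[F] U) y = y + φ y • v := by
  classical
  haveI : FiniteDimensional F U := Module.Finite.of_finite
  haveI : Nontrivial U := ⟨v, 0, hv⟩
  haveI : Finite F := finite_field (V := U)
  haveI : Finite (U ≃ₗ[F] U) := Finite.of_injective (fun g : U ≃ₗ[F] U => (g : U → U)) DFunLike.coe_injective
  obtain ⟨p, hp⟩ := CharP.exists F
  haveI : Fact p.Prime := ⟨CharP.char_is_prime F p⟩
  haveI : Fintype F := Fintype.ofFinite F
  obtain ⟨k, -, hk⟩ := FiniteField.card F p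
  set P : Sub F U 1 := pt v hv
  let H : Subgroup (U ≃ₗ[F] U) := A ⊓ MulAction.stabilizer (U ≃ₗ[F] U) P
  obtain ⟨Q, -, hQ⟩ := exists_pt_not_le (L := (⊤ : Submodule F U)) (L' := P.1) (by
    intro h
    have := Submodule.finrank_mono h
    rw [finrank_top, hU, P.2] at this
    omega)
  have hQP : Q ≠ P := fun e => hQ (e ▸ le_rfl)
  have horb : MulAction.orbit H Q = {R | R ≠ P} := by
    ext R
    constructor
    · rintro ⟨⟨g, -, hgP⟩, rfl⟩
      exact fun h => hQP (MulAction.injective g ((show g • Q = P from h).trans hgP.symm))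
    · intro hR
      obtain ⟨a, ha, e1, e2⟩ := hA P Q R hQP hR
      exact ⟨⟨a, ha, e1⟩, e2⟩
  have hdvd : Nat.card F ∣ Nat.card H := by
    rw [← card_others hU P, ← (MulAction.stabilizer H Q).index_mul_card, MulAction.index_stabilizer, horb,
      ← Nat.card_coe_set_eq]
    exact dvd_mul_right _ _
  obtain ⟨S⟩ := (inferInstance : Nonempty (Sylow p H))
  have hS : Nat.card F ≤ Nat.card S := by
    refine Nat.le_of_dvd Nat.card_pos ?_
    rw [Nat.card_eq_fintype_card, hk]
    refine S.pow_dvd_card_of_pow_dvd_card ?_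
    rw [← hk, ← Nat.card_eq_fintype_card]
    exact hdvd
  -- a functional with kernel the point
  haveI : Finite (Dual F U) := Module.finite_of_finite F
  let K : Submodule F (Dual F U) := P.1.dualAnnihilator
  have hK : Nat.card K = Nat.card F := by
    have h := Subspace.finrank_add_finrank_dualAnnihilator_eq P.1
    rw [P.2, hU] at h
    rw [Module.natCard_eq_pow_finrank (K := F) (V := K), show finrank F K = 1 by show finrank F P.1.dualAnnihilator = 1; omega, pow_one]
  have hkey : ∀ s : S, ∃ ψ : K, ∀ y, ((s : H) : U ≃ₗ[F] U) y = y + (ψ : Dual F U) y • v := by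
    rintro ⟨⟨g, hgA, hgP⟩, hgS⟩
    obtain ⟨m, hm⟩ := S.2 ⟨_, hgS⟩
    have hgm : g ^ p ^ m = 1 := congrArg (fun s : (S : Subgroup H) => ((s : H) : U ≃ₗ[F] U)) hm
    obtain ⟨w, hw⟩ : ∃ w, w ∉ P.1 := by
      obtain ⟨x, hx, rfl⟩ := exists_pt Q
      exact ⟨x, fun h => hQ ((Submodule.span_singleton_le_iff_mem _ _).mpr h)⟩
    have hli : ⊤ ≤ Submodule.span F ({v, w} : Set U) := by
      refine le_of_eq (Submodule.eq_top_of_finrank_eq ?_).symm
      rw [hU]
      refine CfsgLib.SingerFive.finrank_span_pair ?_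
      rw [LinearIndependent.pair_iff' hv]
      exact fun a ha => hw (ha ▸ Submodule.smul_mem _ a (Submodule.mem_span_singleton_self v))
    have hgv : ∃ α : F, g v = α • v := by
      obtain ⟨c, -, hc⟩ := pt_eq_pt hv ((LinearEquiv.map_ne_zero_iff g).mpr hv) ((smul_pt g v hv).symm.trans hgP).symm
      exact ⟨c, hc⟩
    obtain ⟨α, hα⟩ := hgv
    obtain ⟨γ, β, hgw⟩ := Submodule.mem_span_pair.mp (hli (Submodule.mem_top : g w ∈ ⊤))
    have hpow1 : ∀ i : ℕ, (g ^ i) v = α ^ i • v := by
      intro i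
      induction i with
      | zero => simp
      | succ i ih => rw [pow_succ, LinearEquiv.mul_apply, hα, map_smul, ih, smul_smul, ← pow_succ']
    have hpow2 : ∀ i : ℕ, ∃ c : F, (g ^ i) w = c • v + β ^ i • w := by
      intro i
      induction i with
      | zero => exact ⟨0, by simp⟩
      | succ i ih =>
        obtain ⟨c, hc⟩ := ih
        refine ⟨γ * α ^ i + β * c, ?_⟩
        rw [pow_succ, LinearEquiv.mul_apply, ← hgw, map_add, map_smul, map_smul, hpow1, hc]
        module
    have hone : ∀ a : F, a ^ p ^ m = 1 → a = 1 := fun a ha => by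
      have h : (frobenius F p)^[m] a = (frobenius F p)^[m] 1 := by
        rw [iterate_frobenius, iterate_frobenius, ha, one_pow]
      exact (frobenius_inj F p).iterate m h
    have hα1 : α = 1 := hone α (by
      have h := hpow1 (p ^ m)
      rw [hgm] at h
      exact smul_left_injective F hv (show α ^ p ^ m • v = (1 : F) • v by rw [one_smul]; exact h.symm))
    have hβ1 : β = 1 := hone β (by
      obtain ⟨c, hc⟩ := hpow2 (p ^ m)
      rw [hgm] at hc
      have h : (1 - β ^ p ^ m) • w ∈ P.1 := by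
        rw [sub_smul, one_smul, show w - β ^ p ^ m • w = c • v by
          conv_lhs => arg 1; rw [show w = c • v + β ^ p ^ m • w from hc]
          abel]
        exact Submodule.smul_mem _ c (Submodule.mem_span_singleton_self v)
      by_contra hne
      exact hw (by simpa [smul_smul, inv_mul_cancel₀ (sub_ne_zero.mpr (Ne.symm hne))] using
        P.1.smul_mem (1 - β ^ p ^ m)⁻¹ h))
    obtain ⟨φ, hφw, hφv⟩ : ∃ φ : Dual F U, φ w = 1 ∧ φ v = 0 := by
      obtain ⟨f, hfw, hf⟩ := Submodule.exists_dual_map_eq_bot_of_notMem hw inferInstance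
      refine ⟨(f w)⁻¹ • f, inv_mul_cancel₀ hfw, ?_⟩
      have : f v ∈ P.1.map f := Submodule.mem_map_of_mem (Submodule.mem_span_singleton_self v)
      rw [hf, Submodule.mem_bot] at this
      show (f w)⁻¹ * f v = 0
      rw [this, mul_zero]
    refine ⟨⟨γ • φ, (Submodule.mem_dualAnnihilator _).mpr fun z hz => ?_⟩, fun y => ?_⟩
    · obtain ⟨c, rfl⟩ := Submodule.mem_span_singleton.mp hz
      simp [hφv]
    · obtain ⟨a, b, rfl⟩ := Submodule.mem_span_pair.mp (hli (Submodule.mem_top : y ∈ ⊤))
      show g (a • v + b • w) = a • v + b • w + (γ * φ (a • v + b • w)) • v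
      rw [map_add, map_smul, map_smul, hα, ← hgw, hα1, hβ1, map_add, map_smul, map_smul, hφv, hφw]
      simp only [smul_eq_mul, mul_zero, mul_one, zero_add, one_smul]
      module
  choose ψ hψ using hkey
  have hinj : Function.Injective ψ := fun s t h => Subtype.ext (Subtype.ext (LinearEquiv.ext fun y => by rw [hψ, hψ, h]))
  obtain ⟨s, hs⟩ := (Nat.bijective_iff_injective_and_card ψ).mpr ⟨hinj, le_antisymm
    (Nat.card_le_card_of_injective ψ hinj) (hK ▸ hS)⟩ |>.2 ⟨φ, (Submodule.mem_dualAnnihilator _).mpr fun z hz => by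
      obtain ⟨c, rfl⟩ := Submodule.mem_span_singleton.mp hz
      rw [map_smul, hφ, smul_zero]⟩
  exact ⟨_, (s : H).2.1, fun y => by rw [hψ, hs]⟩

/-- A matrix of determinant one as a map of the plane. -/
noncomputable def slMap (b : Basis (Fin 2) F U) : Matrix.SpecialLinearGroup (Fin 2) F →* (U ≃ₗ[F] U) where
  toFun s := b.equivFun.trans ((Matrix.SpecialLinearGroup.toLin' s).trans b.equivFun.symm)
  map_one' := LinearEquiv.ext fun x => by simp
  map_mul' s t := LinearEquiv.ext fun x => by
    simp only [LinearEquiv.trans_apply, LinearEquiv.mul_apply, map_mul, LinearEquiv.apply_symm_apply]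

theorem slMap_apply (b : Basis (Fin 2) F U) (s : Matrix.SpecialLinearGroup (Fin 2) F) (j : Fin 2) :
    slMap b s (b j) = ∑ i, (s : Matrix (Fin 2) (Fin 2) F) i j • b i := by
  refine b.equivFun.injective ?_
  have hj : b.equivFun (b j) = Pi.single j 1 := by
    ext k
    simp [Pi.single_apply, eq_comm]
  show b.equivFun (b.equivFun.symm (Matrix.toLin' (s : Matrix (Fin 2) (Fin 2) F) (b.equivFun (b j)))) = _
  rw [LinearEquiv.apply_symm_apply, hj, Matrix.toLin'_apply, Matrix.mulVec_single_one, ← Basis.equivFun_symm_apply b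
    (fun i => (s : Matrix (Fin 2) (Fin 2) F) i j), LinearEquiv.apply_symm_apply]
  rfl

/-- The group contains the special linear group. -/
theorem slMap_mem (hU : finrank F U = 2) {A : Subgroup (U ≃ₗ[F] U)} (hA : PtwTrans A) (b : Basis (Fin 2) F U)
    (s : Matrix.SpecialLinearGroup (Fin 2) F) : slMap b s ∈ A := by
  classical
  haveI : Nontrivial U := Module.nontrivial_of_finrank_pos (R := F) (by omega)
  haveI : Finite F := finite_field (V := U)
  haveI : Fintype F := Fintype.ofFinite F
  suffices h : (⊤ : Subgroup (Matrix.SpecialLinearGroup (Fin 2) F)) ≤ A.comap (slMap b) from h (Subgroup.mem_top s)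
  rw [← CfsgLib.StSL.closure_transvection_eq_top (K := F) (n := 2) le_rfl, Subgroup.closure_le]
  rintro _ ⟨i, j, hij, c, rfl⟩
  obtain ⟨a, ha, hay⟩ := tv_mem hU hA (b.ne_zero i) (φ := c • b.coord j) (by simp [Ne.symm hij])
  refine Subgroup.mem_comap.mpr ?_
  suffices h : slMap b (Matrix.SpecialLinearGroup.transvection hij c) = a from h ▸ ha
  refine LinearEquiv.toLinearMap_injective (b.ext fun k => ?_)
  show slMap b _ (b k) = a (b k)
  rw [slMap_apply, hay]
  show ∑ l, (Matrix.transvection i j c) l k • b l = _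
  simp only [Matrix.transvection, Matrix.add_apply, Matrix.one_apply, Matrix.single_apply, add_smul,
    Finset.sum_add_distrib, LinearMap.smul_apply, Basis.coord_apply, b.repr_self, Finsupp.single_apply, smul_eq_mul]
  congr 1
  · simp
  · by_cases hk : j = k
    · subst hk; simp
    · simp [hk, Ne.symm hk]

/-- Over more than three elements some transvection lies in the second derived group of the special linear group. -/
theorem exists_tv_second [Fintype F] [DecidableEq F] (hq : 4 ≤ Fintype.card F) :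
    Matrix.SpecialLinearGroup.transvection (show (0 : Fin 2) ≠ 1 by decide) (1 : F) ∈
      ⁅⁅(⊤ : Subgroup (Matrix.SpecialLinearGroup (Fin 2) F)), (⊤ : Subgroup (Matrix.SpecialLinearGroup (Fin 2) F))⁆,
        ⁅(⊤ : Subgroup (Matrix.SpecialLinearGroup (Fin 2) F)), (⊤ : Subgroup (Matrix.SpecialLinearGroup (Fin 2) F))⁆⁆ := by
  set D : Subgroup (Matrix.SpecialLinearGroup (Fin 2) F) :=
    ⁅(⊤ : Subgroup (Matrix.SpecialLinearGroup (Fin 2) F)), (⊤ : Subgroup (Matrix.SpecialLinearGroup (Fin 2) F))⁆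
  obtain ⟨c, hc0, hc⟩ : ∃ c : F, c ≠ 0 ∧ c * c ≠ 1 := by
    by_contra h
    push Not at h
    have hsub : (Finset.univ : Finset F) ⊆ {0, 1, -1} := fun c _ => by
      by_cases hc : c = 0
      · simp [hc]
      · rcases mul_self_eq_one_iff.mp (h c hc) with h' | h' <;> simp [h']
    have := Finset.card_le_card hsub
    rw [Finset.card_univ] at this
    have := Finset.card_le_three (a := (0 : F)) (b := 1) (c := -1)
    omega
  let up : F → Matrix.SpecialLinearGroup (Fin 2) F := fun x => ⟨!![1, x; 0, 1], by simp [Matrix.det_fin_two]⟩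
  let lo : F → Matrix.SpecialLinearGroup (Fin 2) F := fun x => ⟨!![1, 0; x, 1], by simp [Matrix.det_fin_two]⟩
  let dg : (a : F) → a ≠ 0 → Matrix.SpecialLinearGroup (Fin 2) F := fun a ha =>
    ⟨!![a, 0; 0, a⁻¹], by simp [Matrix.det_fin_two, ha]⟩
  let k : F := c * c - 1
  have hk : k ≠ 0 := sub_ne_zero.mpr hc
  have hcomm_up : ∀ x, ⁅dg c hc0, up x⁆ = up (k * x) := fun x => by
    rw [commutatorElement_def, mul_inv_eq_iff_eq_mul, mul_inv_eq_iff_eq_mul]
    refine Matrix.SpecialLinearGroup.ext _ _ fun i j => ?_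
    simp only [Matrix.SpecialLinearGroup.coe_mul, show ∀ x, ((up x : Matrix.SpecialLinearGroup (Fin 2) F) : Matrix (Fin 2) (Fin 2) F) = !![1, x; 0, 1] from fun x => rfl,
      show ∀ x, ((lo x : Matrix.SpecialLinearGroup (Fin 2) F) : Matrix (Fin 2) (Fin 2) F) = !![1, 0; x, 1] from fun x => rfl,
      show ∀ a h, ((dg a h : Matrix.SpecialLinearGroup (Fin 2) F) : Matrix (Fin 2) (Fin 2) F) = !![a, 0; 0, a⁻¹] from fun a h => rfl]
    fin_cases i <;> fin_cases j <;> simp [k, Matrix.mul_apply, Fin.sum_univ_two] <;> field_simp <;> ring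
  have hcomm_lo : ∀ x, ⁅dg c⁻¹ (inv_ne_zero hc0), lo x⁆ = lo (k * x) := fun x => by
    rw [commutatorElement_def, mul_inv_eq_iff_eq_mul, mul_inv_eq_iff_eq_mul]
    refine Matrix.SpecialLinearGroup.ext _ _ fun i j => ?_
    simp only [Matrix.SpecialLinearGroup.coe_mul, show ∀ x, ((up x : Matrix.SpecialLinearGroup (Fin 2) F) : Matrix (Fin 2) (Fin 2) F) = !![1, x; 0, 1] from fun x => rfl,
      show ∀ x, ((lo x : Matrix.SpecialLinearGroup (Fin 2) F) : Matrix (Fin 2) (Fin 2) F) = !![1, 0; x, 1] from fun x => rfl,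
      show ∀ a h, ((dg a h : Matrix.SpecialLinearGroup (Fin 2) F) : Matrix (Fin 2) (Fin 2) F) = !![a, 0; 0, a⁻¹] from fun a h => rfl]
    fin_cases i <;> fin_cases j <;> simp [k, Matrix.mul_apply, Fin.sum_univ_two] <;> field_simp <;> ring
  have hD : ∀ x, up x ∈ D ∧ lo x ∈ D := fun x => by
    constructor
    · rw [show x = k * (k⁻¹ * x) by rw [← mul_assoc, mul_inv_cancel₀ hk, one_mul], ← hcomm_up]
      exact Subgroup.commutator_mem_commutator (Subgroup.mem_top _) (Subgroup.mem_top _)
    · rw [show x = k * (k⁻¹ * x) by rw [← mul_assoc, mul_inv_cancel₀ hk, one_mul], ← hcomm_lo]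
      exact Subgroup.commutator_mem_commutator (Subgroup.mem_top _) (Subgroup.mem_top _)
  have hdg : dg c hc0 ∈ D := by
    have e : dg c hc0 = up c * lo (-c⁻¹) * up c * (up (-1) * lo 1 * up (-1)) := by
      refine Matrix.SpecialLinearGroup.ext _ _ fun i j => ?_
      simp only [Matrix.SpecialLinearGroup.coe_mul, show ∀ x, ((up x : Matrix.SpecialLinearGroup (Fin 2) F) : Matrix (Fin 2) (Fin 2) F) = !![1, x; 0, 1] from fun x => rfl,
      show ∀ x, ((lo x : Matrix.SpecialLinearGroup (Fin 2) F) : Matrix (Fin 2) (Fin 2) F) = !![1, 0; x, 1] from fun x => rfl,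
      show ∀ a h, ((dg a h : Matrix.SpecialLinearGroup (Fin 2) F) : Matrix (Fin 2) (Fin 2) F) = !![a, 0; 0, a⁻¹] from fun a h => rfl]
      fin_cases i <;> fin_cases j <;> simp [Matrix.mul_apply, Fin.sum_univ_two, hc0]
    rw [e]
    exact mul_mem (mul_mem (mul_mem (hD _).1 (hD _).2) (hD _).1) (mul_mem (mul_mem (hD _).1 (hD _).2) (hD _).1)
  have h := Subgroup.commutator_mem_commutator hdg (hD k⁻¹).1
  rw [hcomm_up, mul_inv_cancel₀ hk] at h
  suffices e : up 1 = Matrix.SpecialLinearGroup.transvection (show (0 : Fin 2) ≠ 1 by decide) (1 : F) from e ▸ h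
  refine Matrix.SpecialLinearGroup.ext _ _ fun i j => ?_
  show (!![1, 1; 0, 1] : Matrix (Fin 2) (Fin 2) F) i j = (Matrix.transvection (0 : Fin 2) 1 1) i j
  fin_cases i <;> fin_cases j <;> simp [Matrix.transvection]

end CfsgLib.SingerPrime
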