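/-
When every point stabiliser is doubly transitive on the quotient by the point: an element of primitive
prime order fixing exactly a line, whose normaliser induces everything on the line.
-/
import Cfsg.Agent.Lib.SingerPrime.Geo
import Cfsg.Agent.Lib.SingerPrime.FixCore
import Cfsg.Agent.Lib.SingerPrime.TwoLine
import Cfsg.Agent.Lib.PrimitivePart.Main

set_option autoImplicit false
set_option linter.unusedSectionVars false
set_option linter.style.haveILetI false
set_option maxHeartbeats 1000000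

namespace CfsgLib.SingerPrime

open Module
open CfsgLib.SingerFive (Sub pt exists_pt smul_pt pt_eq_pt pt_le_iff sub_smul_val mem_sub_smul finite_field PairTrans
  card_linearEquiv)
open CfsgLib.SingerSeven (fixer mem_fixer qgrp mem_qgrp quotHom qpt qpt_smul qpt_le_iff exists_qpt finrank_quot
  finrank_line eq_line map_le_smul exists_pt_not_le eq_of_pt_le exists_pt_le finite_quot)

attribute [local instance] finite_quot

variable {F V : Type*} [Field F] [AddCommGroup V] [Module F V] [Finite V] {G : Subgroup (V ≃ₗ[F] V)}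

/-- A primitive prime divisor of `q ^ e - 1` for odd `e`. -/
theorem exists_ppd {q e : ℕ} (hq : 2 ≤ q) (he : 3 ≤ e) (hodd : Odd e) :
    ∃ r, r.Prime ∧ r ∣ q ^ e - 1 ∧ ∀ i, 1 ≤ i → i < e → ¬ r ∣ q ^ i - 1 := by
  obtain ⟨k, hk⟩ := hodd
  obtain ⟨r, hr, h1, h2, -⟩ := CfsgLib.PrimitivePart.large_primitive_prime q e hq (by omega) (by omega) (by omega)
    (by omega) (by omega)
  exact ⟨r, hr, h1, h2⟩

/-- The stabiliser of a subspace. -/
def subStab (G : Subgroup (V ≃ₗ[F] V)) {k : ℕ} (W : Sub F V k) : Subgroup (V ≃ₗ[F] V) :=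
  G ⊓ MulAction.stabilizer (V ≃ₗ[F] V) W

theorem mem_subStab {k : ℕ} {W : Sub F V k} {g : V ≃ₗ[F] V} :
    g ∈ subStab G W ↔ g ∈ G ∧ g • W = W := Iff.rfl

/-- The restriction to an invariant subspace. -/
noncomputable def subHom (S : Subgroup (V ≃ₗ[F] V)) (L : Submodule F V)
    (h : ∀ g ∈ S, L.map (g : V →ₗ[F] V) = L) : S →* (L ≃ₗ[F] L) where
  toFun g := (g : V ≃ₗ[F] V).ofSubmodules L L (h g g.2)
  map_one' := LinearEquiv.ext fun x => Subtype.ext rfl
  map_mul' a b := LinearEquiv.ext fun x => Subtype.ext rfl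

@[simp] theorem subHom_apply (S : Subgroup (V ≃ₗ[F] V)) (L : Submodule F V)
    (h : ∀ g ∈ S, L.map (g : V →ₗ[F] V) = L) (g : S) (x : L) :
    ((subHom S L h g x : L) : V) = (g : V ≃ₗ[F] V) x := rfl

theorem subStab_map {k : ℕ} (W : Sub F V k) : ∀ g ∈ subStab G W, W.1.map (g : V →ₗ[F] V) = W.1 :=
  fun _ hg => congrArg Subtype.val hg.2

/-- The order of the stabiliser of a line is divisible by the lines through one of its points but itself. -/
theorem dvd_card_subStab (hq : ∀ a : Sub F V 1, PairTrans (qgrp G a)) (h3 : 3 ≤ finrank F V) (W : Sub F V 2) :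
    geo (Nat.card F) (finrank F V - 2) ∣ Nat.card (subStab G W) := by
  classical
  haveI : FiniteDimensional F V := Module.Finite.of_finite
  haveI : Nontrivial V := Module.nontrivial_of_finrank_pos (R := F) (by omega)
  haveI : Finite F := finite_field (V := V)
  haveI : Finite (V ≃ₗ[F] V) := Finite.of_injective (fun g : V ≃ₗ[F] V => (g : V → V)) DFunLike.coe_injective
  obtain ⟨a, haW⟩ := exists_pt_le (L := W.1) (by rw [W.2]; omega)
  obtain ⟨b, hbW, hba⟩ := exists_pt_not_le (L := W.1) (L' := a.1) (by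
    intro h
    have := Submodule.finrank_mono h
    rw [W.2, a.2] at this
    omega)
  have hW : W.1 = a.1 ⊔ b.1 := eq_line (fun e => hba (e ▸ le_rfl)) haW hbW W.2.le
  set w := qpt a.1 b hba with hw
  haveI : Finite ((V ⧸ a.1) ≃ₗ[F] (V ⧸ a.1)) :=
    Finite.of_injective (fun g : (V ⧸ a.1) ≃ₗ[F] (V ⧸ a.1) => (g : _ → _)) DFunLike.coe_injective
  let St : Subgroup ((V ⧸ a.1) ≃ₗ[F] (V ⧸ a.1)) := qgrp G a ⊓ MulAction.stabilizer _ w
  obtain ⟨Q, hQ⟩ : ∃ Q : Sub F (V ⧸ a.1) 1, Q ≠ w := by
    have hk := finrank_quot a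
    obtain ⟨Q, -, hQ⟩ := exists_pt_not_le (L := (⊤ : Submodule F (V ⧸ a.1))) (L' := w.1) (by
      intro h
      have := Submodule.finrank_mono h
      rw [finrank_top, w.2] at this
      omega)
    exact ⟨Q, fun e => hQ (e ▸ le_rfl)⟩
  have horb : MulAction.orbit St Q = {R | R ≠ w} := by
    ext R
    constructor
    · rintro ⟨⟨g, -, hgw⟩, rfl⟩
      exact fun h => hQ (MulAction.injective g ((show g • Q = w from h).trans hgw.symm))
    · intro hR
      obtain ⟨g, hg, e1, e2⟩ := hq a w Q w R (Ne.symm hQ) (Ne.symm hR)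
      exact ⟨⟨g, hg, e1⟩, e2⟩
  have hcard : Nat.card {R : Sub F (V ⧸ a.1) 1 // R ≠ w} = Nat.card F * geo (Nat.card F) (finrank F V - 2) := by
    have h1 := card_pts_geo_diff (F := F) (U := V ⧸ a.1) (L := ⊤) (L' := w.1) le_top
    rw [w.2, finrank_top, show finrank F (V ⧸ a.1) = 1 + (finrank F V - 2) by have := finrank_quot a; omega,
      geo_add, geo_succ, geo_zero, pow_zero, pow_one, zero_add] at h1
    have h2 : Nat.card {R : Sub F (V ⧸ a.1) 1 // R ≠ w} =
        Nat.card {R : Sub F (V ⧸ a.1) 1 // R.1 ≤ ⊤ ∧ ¬ R.1 ≤ w.1} :=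
      Nat.card_congr (Equiv.subtypeEquivRight fun R => ⟨fun h => ⟨le_top, fun hle => h (eq_of_pt_le hle)⟩,
        fun h e => h.2 (e ▸ le_rfl)⟩)
    omega
  have h3' : geo (Nat.card F) (finrank F V - 2) ∣ Nat.card St := by
    refine (dvd_mul_left _ (Nat.card F)).trans ?_
    rw [← hcard, ← (MulAction.stabilizer St Q).index_mul_card, MulAction.index_stabilizer, horb, ← Nat.card_coe_set_eq]
    exact dvd_mul_right _ _
  let f := quotHom (fixer G a) a.1 fun _ hg => congrArg Subtype.val hg.2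
  let H : Subgroup (fixer G a) := St.comap f
  have h4 : Nat.card St ∣ Nat.card H := by
    have h5 : Subgroup.map f H = St := Subgroup.map_comap_eq_self fun g hg => hg.1
    rw [← h5]
    exact Subgroup.card_map_dvd ..
  refine h3'.trans (h4.trans ?_)
  rw [Nat.card_congr (Subgroup.equivMapOfInjective H _ (fixer G a).subtype_injective).toEquiv]
  refine Subgroup.card_dvd_of_le ?_
  rintro _ ⟨⟨g, hg, hga⟩, hgH, rfl⟩
  refine ⟨hg, ?_⟩
  show g • W = W
  refine Subtype.ext (Submodule.eq_of_le_of_finrank_le ?_ (by rw [(g • W).2, W.2]))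
  have hgb : ¬ (g • b).1 ≤ a.1 := fun hle => hba (by
    rw [← map_le_smul g, show a.1.map (g : V →ₗ[F] V) = a.1 from congrArg Subtype.val hga]; exact hle)
  have he : f ⟨g, hg, hga⟩ • w = w := hgH.2
  rw [hw, qpt_smul (hP' := hgb), qpt_le_iff] at he
  rw [sub_smul_val, hW, Submodule.map_sup, sup_le_iff]
  exact ⟨(show a.1.map (g : V →ₗ[F] V) = a.1 from congrArg Subtype.val hga).le.trans le_sup_left,
    he.trans (le_of_eq (sup_comm _ _))⟩

theorem pow_mem_movSp (x : V ≃ₗ[F] V) : ∀ (i : ℕ) (v : V), (x ^ i) v - v ∈ movSp x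
  | 0, v => by simp
  | i + 1, v => by
    have e : (x ^ (i + 1)) v - v = (x ((x ^ i) v) - (x ^ i) v) + ((x ^ i) v - v) := by
      rw [pow_succ', LinearEquiv.mul_apply]; abel
    rw [e]
    exact add_mem (sub_mem_movSp x _) (pow_mem_movSp x i v)

/-- A map conjugating `x` to one of its powers preserves the differences of `x` from the identity. -/
theorem map_movSp {x g : V ≃ₗ[F] V} {i : ℕ} (h : g * x = x ^ i * g) :
    (movSp x).map (g : V →ₗ[F] V) = movSp x := by
  haveI : FiniteDimensional F V := Module.Finite.of_finite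
  refine Submodule.eq_of_le_of_finrank_le ?_ (g.finrank_map_eq _).ge
  rintro _ ⟨_, ⟨v, rfl⟩, rfl⟩
  have e : g (x v - v) = (x ^ i) (g v) - g v := by
    rw [map_sub]
    exact congrArg (· - g v) (LinearEquiv.congr_fun h v)
  show g (x v - v) ∈ movSp x
  rw [e]
  exact pow_mem_movSp x i _

/-- An element of primitive prime order fixing exactly the line, with the stabiliser of the line lifted to its
normaliser. -/
structure Core (G : Subgroup (V ≃ₗ[F] V)) (W : Sub F V 2) (x : V ≃ₗ[F] V) : Prop where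
  mem : x ∈ G
  compl : IsCompl W.1 (movSp x)
  dim : finrank F (movSp x) + 2 = finrank F V
  fixw : ∀ v ∈ W.1, x v = v
  irr : ∀ D ≤ movSp x, (∀ v ∈ D, x v ∈ D) → D = ⊥ ∨ D = movSp x
  lift : ∀ g ∈ G, g • W = W → ∃ g' ∈ G, (∀ v ∈ W.1, g' v = g v) ∧ ∃ i : ℕ, g' * x = x ^ i * g'

/-- A core exists at every line. -/
theorem exists_core (hodd : Odd (finrank F V)) (h5 : 5 ≤ finrank F V) (hq : ∀ a : Sub F V 1, PairTrans (qgrp G a))
    (W : Sub F V 2) : ∃ x, Core G W x := by
  classical
  haveI : FiniteDimensional F V := Module.Finite.of_finite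
  haveI : Nontrivial V := Module.nontrivial_of_finrank_pos (R := F) (by omega)
  haveI : Finite F := finite_field (V := V)
  haveI : Fintype F := Fintype.ofFinite F
  haveI : Finite (V ≃ₗ[F] V) := Finite.of_injective (fun g : V ≃ₗ[F] V => (g : V → V)) DFunLike.coe_injective
  have hq2 : 2 ≤ Nat.card F := Finite.one_lt_card
  obtain ⟨e, he⟩ : ∃ e, finrank F V = e + 2 := ⟨finrank F V - 2, by omega⟩
  obtain ⟨r, hr, hre, hppd⟩ := exists_ppd hq2 (show 3 ≤ e by omega) (by
    obtain ⟨k, hk⟩ := hodd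
    exact ⟨k - 1, by omega⟩)
  haveI : Fact r.Prime := ⟨hr⟩
  have hrq : ¬ r ∣ Nat.card F := fun h => by
    have h1 : r ∣ Nat.card F ^ e := h.trans (dvd_pow_self _ (by omega))
    have h2 : r ∣ Nat.card F ^ e - (Nat.card F ^ e - 1) := Nat.dvd_sub h1 hre
    rw [Nat.sub_sub_self (Nat.one_le_pow _ _ (by omega))] at h2
    exact hr.one_lt.ne' (Nat.dvd_one.mp h2)
  have hrF : (r : F) ≠ 0 := fun h => by
    obtain ⟨p, hp⟩ := CharP.exists F
    obtain ⟨k, hpp, hk⟩ := FiniteField.card F p
    have := (Nat.prime_dvd_prime_iff_eq hpp hr).mp ((CharP.cast_eq_zero_iff F p r).mp h)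
    subst this
    exact hrq (by rw [Nat.card_eq_fintype_card, hk]; exact dvd_pow_self _ k.ne_zero)
  let res := subHom (subStab G W) W.1 (subStab_map W)
  -- the pointwise stabiliser has order divisible by `r`
  have hrK : r ∣ Nat.card res.ker := by
    have h1 : r ∣ Nat.card (subStab G W) := by
      refine dvd_trans ?_ (dvd_card_subStab hq (by omega) W)
      rw [show finrank F V - 2 = e by omega]
      have h2 : r ∣ geo (Nat.card F) e * (Nat.card F - 1) := by
        have := geo_spec hq2 e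
        rw [show geo (Nat.card F) e * (Nat.card F - 1) = Nat.card F ^ e - 1 by omega]
        exact hre
      refine (hr.dvd_mul.mp h2).resolve_right fun h => hppd 1 le_rfl (by omega) (by rwa [pow_one])
    rw [← res.ker.card_mul_index, Subgroup.index_ker] at h1
    refine (hr.dvd_mul.mp h1).resolve_right fun h => ?_
    have h2 : r ∣ Nat.card (W.1 ≃ₗ[F] W.1) := h.trans (Subgroup.card_subgroup_dvd_card _)
    rw [card_linearEquiv W.2, Fin.prod_univ_two, ← Nat.card_eq_fintype_card] at h2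
    simp only [Fin.val_zero, Fin.val_one, pow_zero, pow_one] at h2
    rcases hr.dvd_mul.mp h2 with h3 | h3
    · exact hppd 2 (by norm_num) (by omega) h3
    · rw [show Nat.card F ^ 2 - Nat.card F = Nat.card F * (Nat.card F ^ 1 - 1) by
        rw [pow_one, Nat.mul_sub, sq, mul_one]] at h3
      rcases hr.dvd_mul.mp h3 with h4 | h4
      · exact hrq h4
      · exact hppd 1 le_rfl (by omega) h4
  obtain ⟨R⟩ := (inferInstance : Nonempty (Sylow r res.ker))
  haveI hRn : Nontrivial R := Finite.one_lt_card_iff_nontrivial.mp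
    (lt_of_lt_of_le hr.one_lt (Nat.le_of_dvd Nat.card_pos (R.dvd_card_of_dvd_card hrK)))
  have hRc := R.2.center_nontrivial
  obtain ⟨c, hc⟩ : ∃ c : Subgroup.center R, orderOf c = r := by
    refine exists_prime_orderOf_dvd_card' r ?_
    obtain ⟨n, hn⟩ := IsPGroup.iff_card.mp (R.2.to_subgroup (Subgroup.center R))
    rw [hn]
    refine dvd_pow_self r fun h0 => ?_
    rw [h0, pow_zero] at hn
    exact (Finite.one_lt_card_iff_nontrivial.mpr hRc).ne' hn
  set x : V ≃ₗ[F] V := ((((c : R) : res.ker) : subStab G W) : V ≃ₗ[F] V) with hxdef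
  have hxord : orderOf x = r := by
    rw [hxdef, Subgroup.orderOf_coe, Subgroup.orderOf_coe, Subgroup.orderOf_coe, Subgroup.orderOf_coe, hc]
  have hx : x ^ r = 1 := hxord ▸ pow_orderOf_eq_one x
  have hx1 : x ≠ 1 := fun h => by rw [h, orderOf_one] at hxord; exact hr.one_lt.ne hxord
  have hker : ∀ k : res.ker, ∀ v ∈ W.1, ((k : subStab G W) : V ≃ₗ[F] V) v = v := fun k v hv => by
    have h := congrArg (fun f : W.1 ≃ₗ[F] W.1 => ((f ⟨v, hv⟩ : W.1) : V)) (MonoidHom.mem_ker.mp k.2)
    exact h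
  have hxW : ∀ v ∈ W.1, x v = v := fun v hv => hker _ v hv
  have hcompl := isCompl_fix_mov x hx hrF
  -- invariant subspaces of the moved part
  have hdvd : ∀ D ≤ movSp x, (∀ v ∈ D, x v ∈ D) → e ∣ finrank F D := fun D hD hinv =>
    dvd_finrank_of_fpf hr x hx (by omega) hre hppd D hinv fun v hv hfix =>
      Submodule.disjoint_def.mp hcompl.disjoint v (mem_fixSp.mpr hfix) (hD hv)
  have hsum := Submodule.finrank_add_eq_of_isCompl hcompl
  have hWle : W.1 ≤ fixSp x := fun v hv => mem_fixSp.mpr (hxW v hv)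
  have hW2 := Submodule.finrank_mono hWle
  rw [W.2] at hW2
  have hm0 : finrank F (movSp x) ≠ 0 := fun h0 => hx1 (LinearEquiv.ext fun v => sub_eq_zero.mp (by
    have h1 : x v - v ∈ movSp x := sub_mem_movSp x v
    rwa [Submodule.finrank_eq_zero.mp h0, Submodule.mem_bot] at h1))
  have hE : finrank F (movSp x) = e := by
    have h1 := hdvd (movSp x) le_rfl fun v hv => by
      have : x v = (x v - v) + v := by abel
      rw [this]
      exact add_mem (sub_mem_movSp x v) hv
    have h2 := Nat.le_of_dvd (Nat.pos_of_ne_zero hm0) h1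
    omega
  have hfix : fixSp x = W.1 := (Submodule.eq_of_le_of_finrank_le hWle (by rw [W.2]; omega)).symm
  have hirr : ∀ D ≤ movSp x, (∀ v ∈ D, x v ∈ D) → D = ⊥ ∨ D = movSp x := fun D hD hinv => by
    by_cases h0 : finrank F D = 0
    · exact Or.inl (Submodule.finrank_eq_zero.mp h0)
    · exact Or.inr (Submodule.eq_of_le_of_finrank_le hD
        (hE ▸ Nat.le_of_dvd (Nat.pos_of_ne_zero h0) (hdvd D hD hinv)))
  refine ⟨x, (((c : R) : res.ker) : subStab G W).2.1, hfix ▸ hcompl, by omega, hxW, hirr, fun g hg hgW => ?_⟩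
  -- Frattini
  have hfr := Sylow.normalizer_sup_eq_top R
  have hgS : (⟨g, hg, hgW⟩ : subStab G W) ∈ (Subgroup.normalizer (((R : Subgroup res.ker).map res.ker.subtype :
      Subgroup (subStab G W)) : Set (subStab G W))) ⊔ res.ker := by rw [hfr]; trivial
  obtain ⟨n, hn, k, hk, hnk⟩ := Subgroup.mem_sup_of_normal_right.mp hgS
  refine ⟨(n : V ≃ₗ[F] V), n.2.1, fun v hv => ?_, ?_⟩
  · have h := congrArg (fun z : subStab G W => (z : V ≃ₗ[F] V) v) hnk
    simp only [Subgroup.coe_mul, LinearEquiv.mul_apply] at h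
    rwa [hker ⟨k, hk⟩ v hv] at h
  -- the conjugate lies in `R`, so it is a power in the field
  obtain ⟨⟨z, hzR⟩, hz⟩ : ∃ s : R, ((s : res.ker) : subStab G W) = n * ((c : R) : res.ker) * n⁻¹ := by
    obtain ⟨s, hs, he'⟩ := (Subgroup.mem_normalizer_iff.mp hn _).mp ⟨_, (c : R).2, rfl⟩
    exact ⟨⟨s, hs⟩, he'⟩
  set y : V ≃ₗ[F] V := ((z : subStab G W) : V ≃ₗ[F] V) with hy
  have hyn : y = (n : V ≃ₗ[F] V) * x * (n : V ≃ₗ[F] V)⁻¹ := congrArg Subtype.val hz
  have hxy : x * y = y * x := by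
    have h := (Subgroup.mem_center_iff.mp c.2 ⟨z, hzR⟩).symm
    exact congrArg (fun s : R => (((s : res.ker) : subStab G W) : V ≃ₗ[F] V)) h
  have hyr : y ^ r = 1 := by rw [hyn, conj_pow, hx, mul_one, mul_inv_cancel]
  have hinvE : ∀ g : V ≃ₗ[F] V, g * x = x * g → ∀ v ∈ movSp x, g v ∈ movSp x := fun g hgx v hv =>
    (map_movSp (i := 1) (by rw [pow_one]; exact hgx)).le (Submodule.mem_map_of_mem hv)
  let xE : Module.End F (movSp x) := (x : V →ₗ[F] V).restrict (hinvE x rfl)
  let yE : Module.End F (movSp x) := (y : V →ₗ[F] V).restrict (hinvE y hxy.symm)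
  haveI : Nontrivial (movSp x) := Module.nontrivial_of_finrank_pos (R := F) (by omega)
  obtain ⟨hfield, -⟩ := centAlg_field xE fun D hD => by
    rcases hirr (D.map (movSp x).subtype) (Submodule.map_subtype_le _ _) (fun v hv => by
      obtain ⟨w, hw, rfl⟩ := hv
      exact ⟨xE w, hD w hw, rfl⟩) with h | h
    · left
      exact Submodule.map_injective_of_injective (movSp x).injective_subtype (h.trans (Submodule.map_bot _).symm)
    · right
      exact Submodule.map_injective_of_injective (movSp x).injective_subtype (h.trans (Submodule.map_subtype_top _).symm)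
  letI : Field (centAlg xE) := hfield.toField
  have hpow : ∀ (g : V ≃ₗ[F] V) (hg : ∀ v ∈ movSp x, g v ∈ movSp x) (i : ℕ) (v : movSp x),
      ((((g : V →ₗ[F] V).restrict hg : Module.End F (movSp x)) ^ i) v : V) = (g ^ i) (v : V) := by
    intro g hg i v
    induction i generalizing v with
    | zero => rfl
    | succ i ih => rw [pow_succ, Module.End.mul_apply, ih, pow_succ, LinearEquiv.mul_apply]; rfl
  let X : centAlg xE := ⟨xE, mem_centAlg.mpr rfl⟩
  let Y : centAlg xE := ⟨yE, mem_centAlg.mpr (LinearMap.ext fun v => Subtype.ext (by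
    show x (y (v : V)) = y (x (v : V))
    rw [← LinearEquiv.mul_apply, ← LinearEquiv.mul_apply, hxy]))⟩
  have hXr : X ^ r = 1 := Subtype.ext (LinearMap.ext fun v => Subtype.ext (by
    rw [SubmonoidClass.coe_pow, hpow, hx]; rfl))
  have hYr : Y ^ r = 1 := Subtype.ext (LinearMap.ext fun v => Subtype.ext (by
    rw [SubmonoidClass.coe_pow, hpow, hyr]; rfl))
  have hX1 : X ≠ 1 := fun h => by
    obtain ⟨v, hv⟩ := exists_ne (0 : movSp x)
    refine hv (Subtype.ext (Submodule.disjoint_def.mp hcompl.disjoint v ?_ v.2))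
    rw [mem_fixSp]
    exact congrArg (fun A : centAlg xE => (((A : Module.End F (movSp x)) v : movSp x) : V)) h
  have hprim : IsPrimitiveRoot X r :=
    (orderOf_eq_prime hXr hX1) ▸ IsPrimitiveRoot.orderOf X
  haveI : NeZero r := ⟨hr.ne_zero⟩
  obtain ⟨i, -, hi⟩ := hprim.eq_pow_of_pow_eq_one hYr
  refine ⟨i, ?_⟩
  have hyx : y = x ^ i := by
    refine LinearEquiv.ext fun v => ?_
    have hv : v ∈ W.1 ⊔ movSp x := by rw [← hfix, hcompl.sup_eq_top]; trivial
    obtain ⟨w, hw, u, hu, rfl⟩ := Submodule.mem_sup.mp hv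
    rw [map_add, map_add, hker z w hw, pow_fix (hxW w hw) i]
    congr 1
    have h := congrArg (fun A : centAlg xE => (((A : Module.End F (movSp x)) ⟨u, hu⟩ : movSp x) : V)) hi
    simp only [SubmonoidClass.coe_pow] at h
    rw [hpow] at h
    exact h.symm
  rw [← hyx, hyn, inv_mul_cancel_right]

end CfsgLib.SingerPrime
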