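/-
A doubly transitive group all of whose point stabilisers are doubly transitive on the quotient by the point
contains a transvection, in odd dimension at least five.
-/
import Cfsg.Agent.Lib.SingerPrime.TransvCore
import Cfsg.Agent.Lib.SingerSeven.AllTransv
import Cfsg.Agent.Lib.SingerFive.Exist

set_option autoImplicit false
set_option linter.unusedSectionVars false
set_option linter.style.haveILetI false
set_option maxHeartbeats 1000000

namespace CfsgLib.SingerPrime

open Module
open scoped commutatorElement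
open CfsgLib.SingerFive (Sub pt exists_pt smul_pt pt_eq_pt pt_le_iff sub_smul_val finite_field PairTrans tin_of_rank_one)
open CfsgLib.SingerSeven (qgrp qpt qpt_smul qpt_le_iff mem_qgrp finrank_line eq_line map_le_smul exists_pt_not_le
  eq_of_pt_le exists_pt_le finite_quot quotHom fixer mem_fixer)
open CfsgLib.MaxSub.ExtLin (UIn TIn)

attribute [local instance] finite_quot

variable {F V : Type*} [Field F] [AddCommGroup V] [Module F V] [Finite V] {G : Subgroup (V ≃ₗ[F] V)}

/-- The elements of the stabiliser of the line conjugating `x` to a power. -/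
def normX (G : Subgroup (V ≃ₗ[F] V)) (W : Sub F V 2) (x : V ≃ₗ[F] V) : Subgroup (V ≃ₗ[F] V) :=
  haveI : Finite (V ≃ₗ[F] V) := Finite.of_injective (fun g : V ≃ₗ[F] V => (g : V → V)) DFunLike.coe_injective
  let S : Submonoid (V ≃ₗ[F] V) :=
    { carrier := {g | g ∈ subStab G W ∧ ∃ i : ℕ, g * x = x ^ i * g}
      one_mem' := ⟨one_mem _, 1, by simp⟩
      mul_mem' := by
        rintro g h ⟨hg, i, hi⟩ ⟨hh, j, hj⟩
        refine ⟨mul_mem hg hh, i * j, ?_⟩
        have hgj : g * x ^ j = (x ^ i) ^ j * g := (show SemiconjBy g x (x ^ i) from hi).pow_right j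
        rw [mul_assoc, hj, ← mul_assoc, hgj, pow_mul, mul_assoc] }
  { S with
    inv_mem' := fun {g} hg => by
      obtain ⟨k, hk⟩ : ∃ k : ℕ, g ^ k = g⁻¹ := (Submonoid.mem_powers_iff _ _).mp
        ((isOfFinOrder_of_finite g).mem_powers_iff_mem_zpowers.mpr (inv_mem (Subgroup.mem_zpowers g)))
      rw [← hk]
      exact S.pow_mem hg k }

theorem mem_normX {W : Sub F V 2} {x g : V ≃ₗ[F] V} :
    g ∈ normX G W x ↔ g ∈ subStab G W ∧ ∃ i : ℕ, g * x = x ^ i * g := Iff.rfl

theorem normX_map_line (W : Sub F V 2) (x : V ≃ₗ[F] V) :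
    ∀ g ∈ normX G W x, W.1.map (g : V →ₗ[F] V) = W.1 := fun g hg => subStab_map W g hg.1

theorem normX_map_mov (W : Sub F V 2) (x : V ≃ₗ[F] V) :
    ∀ g ∈ normX G W x, (movSp x).map (g : V →ₗ[F] V) = movSp x := fun _ hg => map_movSp hg.2.choose_spec

/-- The restriction to the line. -/
noncomputable def resW (G : Subgroup (V ≃ₗ[F] V)) (W : Sub F V 2) (x : V ≃ₗ[F] V) :
    normX G W x →* (W.1 ≃ₗ[F] W.1) :=
  subHom (normX G W x) W.1 (normX_map_line W x)

/-- The restriction to the moved part. -/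
noncomputable def resE (G : Subgroup (V ≃ₗ[F] V)) (W : Sub F V 2) (x : V ≃ₗ[F] V) :
    normX G W x →* (movSp x ≃ₗ[F] movSp x) :=
  subHom (normX G W x) (movSp x) (normX_map_mov W x)

variable {W : Sub F V 2} {x : V ≃ₗ[F] V}

theorem resW_val (g : normX G W x) (v : W.1) : ((resW G W x g v : W.1) : V) = (g : V ≃ₗ[F] V) v := rfl

theorem resE_val (g : normX G W x) (v : movSp x) : ((resE G W x g v : movSp x) : V) = (g : V ≃ₗ[F] V) v := rfl

theorem Core.self_mem (C : Core G W x) : x ∈ normX G W x :=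
  mem_normX.mpr ⟨⟨C.mem, Subtype.ext (le_antisymm
    (fun y hy => by obtain ⟨v, hv, rfl⟩ := hy; exact (C.fixw v hv).symm ▸ hv)
    (fun y hy => ⟨y, hy, C.fixw y hy⟩))⟩, 1, by rw [pow_one]⟩

/-- Elements with the same restrictions to the line and the moved part are equal. -/
theorem Core.res_ext (C : Core G W x) {g h : normX G W x} (e1 : resW G W x g = resW G W x h)
    (e2 : resE G W x g = resE G W x h) : g = h := by
  refine Subtype.ext (LinearEquiv.ext fun v => ?_)
  obtain ⟨a, ha, b, hb, rfl⟩ := Submodule.mem_sup.mp (C.compl.sup_eq_top ▸ Submodule.mem_top : v ∈ W.1 ⊔ movSp x)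
  rw [map_add, map_add, ← resW_val g ⟨a, ha⟩, ← resW_val h ⟨a, ha⟩, e1, ← resE_val g ⟨b, hb⟩, ← resE_val h ⟨b, hb⟩, e2]

/-- The restriction of `x` to the moved part. -/
noncomputable def Core.xE (C : Core G W x) : Module.End F (movSp x) :=
  ((resE G W x ⟨x, C.self_mem⟩ : movSp x ≃ₗ[F] movSp x) : movSp x →ₗ[F] movSp x)

theorem Core.centre_field (C : Core G W x) (h5 : 5 ≤ finrank F V) :
    IsField (centAlg C.xE) ∧ Nat.card (centAlg C.xE) = Nat.card (movSp x) := by
  haveI : Nontrivial (movSp x) := Module.nontrivial_of_finrank_pos (R := F) (by have := C.dim; omega)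
  refine centAlg_field C.xE fun D hD => ?_
  rcases C.irr (D.map (movSp x).subtype) (Submodule.map_subtype_le _ _) (fun v hv => by
    obtain ⟨w, hw, rfl⟩ := hv
    exact ⟨C.xE w, hD w hw, rfl⟩) with h | h
  · exact Or.inl (Submodule.map_injective_of_injective (movSp x).injective_subtype (h.trans (Submodule.map_bot _).symm))
  · exact Or.inr (Submodule.map_injective_of_injective (movSp x).injective_subtype
      (h.trans (Submodule.map_subtype_top _).symm))

theorem Core.mem_cent (C : Core G W x) {g : normX G W x} (h : (g : V ≃ₗ[F] V) * x = x * (g : V ≃ₗ[F] V)) :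
    ((resE G W x g : movSp x ≃ₗ[F] movSp x) : movSp x →ₗ[F] movSp x) ∈ centAlg C.xE :=
  mem_centAlg.mpr (LinearMap.ext fun v => Subtype.ext (LinearEquiv.congr_fun h.symm (v : V)))

/-- Commutators centralise `x`. -/
theorem commutator_commute {c : normX G W x}
    (hc : c ∈ ⁅(⊤ : Subgroup (normX G W x)), (⊤ : Subgroup (normX G W x))⁆) :
    (c : V ≃ₗ[F] V) * x = x * (c : V ≃ₗ[F] V) := by
  let S : Subgroup (normX G W x) := (Subgroup.centralizer {x}).comap (normX G W x).subtype
  suffices h : ⁅(⊤ : Subgroup (normX G W x)), (⊤ : Subgroup (normX G W x))⁆ ≤ S from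
    (Subgroup.mem_centralizer_singleton_iff.mp (h hc))
  rw [Subgroup.commutator_le]
  intro g _ h' _
  obtain ⟨-, i, hi⟩ := mem_normX.mp (g⁻¹).2
  obtain ⟨-, j, hj⟩ := mem_normX.mp (h'⁻¹).2
  refine Subgroup.mem_centralizer_singleton_iff.mpr ?_
  set a : V ≃ₗ[F] V := ((g⁻¹ : normX G W x) : V ≃ₗ[F] V) with ha
  set b : V ≃ₗ[F] V := ((h'⁻¹ : normX G W x) : V ≃ₗ[F] V) with hb
  have hab : SemiconjBy (a * b) x (x ^ (i * j)) := by
    rw [pow_mul]
    exact ((show SemiconjBy a x (x ^ i) from hi).pow_right j).mul_left (show SemiconjBy b x (x ^ j) from hj)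
  have hba : SemiconjBy (b * a) x (x ^ (i * j)) := by
    rw [mul_comm i j, pow_mul]
    exact ((show SemiconjBy b x (x ^ j) from hj).pow_right i).mul_left (show SemiconjBy a x (x ^ i) from hi)
  have h := hba.inv_symm_left.mul_left hab
  have e : ((⁅g, h'⁆ : normX G W x) : V ≃ₗ[F] V) = (b * a)⁻¹ * (a * b) := by
    rw [ha, hb, commutatorElement_def]
    push_cast
    group
  show ((⁅g, h'⁆ : normX G W x) : V ≃ₗ[F] V) * x = x * ((⁅g, h'⁆ : normX G W x) : V ≃ₗ[F] V)
  rw [e]
  exact h

/-- A transvection of the line extended by the identity is a transvection. -/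
theorem Core.tin_of_tv (C : Core G W x) (b : Basis (Fin 2) F W.1) {g : normX G W x} (hE : resE G W x g = 1)
    (hW : resW G W x g = slMap b (Matrix.SpecialLinearGroup.transvection (show (0 : Fin 2) ≠ 1 by decide) (1 : F))) :
    ∃ (u : V) (φ : Dual F V), u ≠ 0 ∧ φ ≠ 0 ∧ φ u = 0 ∧ TIn G u φ := by
  set s := Matrix.SpecialLinearGroup.transvection (show (0 : Fin 2) ≠ 1 by decide) (1 : F)
  have hs : (s : Matrix (Fin 2) (Fin 2) F) = Matrix.transvection 0 1 1 := rfl
  have h0 : slMap b s (b 0) = b 0 := by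
    rw [slMap_apply, hs, Fin.sum_univ_two]
    simp [Matrix.transvection]
  have h1 : slMap b s (b 1) = b 0 + b 1 := by
    rw [slMap_apply, hs, Fin.sum_univ_two]
    simp [Matrix.transvection]
  set u : V := ((b 0 : W.1) : V)
  have hu : u ≠ 0 := fun e => b.ne_zero 0 (Subtype.ext e)
  have hgu : (g : V ≃ₗ[F] V) u = u := by
    rw [← resW_val g (b 0), hW, h0]
  have hne : (g : V ≃ₗ[F] V) ≠ 1 := fun e => b.ne_zero 0 (by
    have h : slMap b s (b 1) = b 1 := Subtype.ext (by rw [← hW, resW_val, e]; rfl)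
    rw [h1] at h
    exact add_eq_right.mp h)
  suffices hr : ∀ y, (g : V ≃ₗ[F] V) y - y ∈ F ∙ u by
    obtain ⟨φ, hφ, hφu, hT⟩ := tin_of_rank_one (G := G) g.2.1.1 hu hne hr hgu
    exact ⟨u, φ, hu, hφ, hφu, hT⟩
  intro y
  obtain ⟨a, ha, c, hc, rfl⟩ := Submodule.mem_sup.mp (C.compl.sup_eq_top ▸ Submodule.mem_top : y ∈ W.1 ⊔ movSp x)
  rw [map_add, ← resE_val g ⟨c, hc⟩, hE, show ((1 : movSp x ≃ₗ[F] movSp x) ⟨c, hc⟩ : V) = c from rfl,
    ← resW_val g ⟨a, ha⟩, hW, add_sub_add_right_eq_sub]
  obtain ⟨v, hv⟩ : ∃ v : W.1, v = ⟨a, ha⟩ := ⟨_, rfl⟩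
  rw [show ((slMap b s ⟨a, ha⟩ : W.1) : V) - a = ((slMap b s v - v : W.1) : V) by rw [hv]; rfl,
    Submodule.mem_span_singleton]
  refine ⟨b.repr v 1, ?_⟩
  show ((b.repr v 1 • b 0 : W.1) : V) = _
  refine congrArg Subtype.val ?_
  conv_rhs => rw [← b.sum_repr v, Fin.sum_univ_two, map_add, map_smul, map_smul, h0, h1]
  simp only [smul_add]
  abel

/-- The normaliser induces the special linear group on the line. -/
theorem Core.sl_le (C : Core G W x) (h2 : PairTrans G) (b : Basis (Fin 2) F W.1) :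
    ∀ s : Matrix.SpecialLinearGroup (Fin 2) F, slMap b s ∈ (resW G W x).range := by
  haveI : FiniteDimensional F V := Module.Finite.of_finite
  refine slMap_mem W.2 (fun P Q Q' hQ hQ' => ?_) b
  let ι : Sub F W.1 1 → Sub F V 1 := fun R =>
    ⟨R.1.map W.1.subtype, (Submodule.equivMapOfInjective W.1.subtype W.1.injective_subtype R.1).finrank_eq.symm.trans R.2⟩
  have hι : Function.Injective ι := fun R R' h =>
    Subtype.ext (Submodule.map_injective_of_injective W.1.injective_subtype (congrArg Subtype.val h))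
  have hιW : ∀ R, (ι R).1 ≤ W.1 := fun R => Submodule.map_subtype_le _ _
  obtain ⟨g, hg, eP, eQ⟩ := h2 (ι P) (ι Q) (ι P) (ι Q') (fun e => hQ (hι e).symm) (fun e => hQ' (hι e).symm)
  have hgW : g • W = W := by
    refine Subtype.ext ((eq_line (fun e => hQ' (hι e).symm) ?_ ?_ (g • W).2.le).trans
      (eq_line (fun e => hQ' (hι e).symm) (hιW P) (hιW Q') W.2.le).symm)
    · exact eP ▸ Submodule.map_mono (hιW P)
    · exact eQ ▸ Submodule.map_mono (hιW Q)
  obtain ⟨g', hg', hagree, i, hi⟩ := C.lift g hg hgW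
  have hg'W : g' • W = W := by
    refine Subtype.ext ?_
    rw [← congrArg Subtype.val hgW, sub_smul_val, sub_smul_val]
    exact le_antisymm (fun y hy => by obtain ⟨v, hv, rfl⟩ := hy; exact ⟨v, hv, (hagree v hv).symm⟩)
      (fun y hy => by obtain ⟨v, hv, rfl⟩ := hy; exact ⟨v, hv, hagree v hv⟩)
  let n : normX G W x := ⟨g', mem_normX.mpr ⟨⟨hg', hg'W⟩, i, hi⟩⟩
  have hmove : ∀ R : Sub F W.1 1, ι (resW G W x n • R) = g • ι R := fun R => by
    refine Subtype.ext ?_
    show (R.1.map (resW G W x n : W.1 →ₗ[F] W.1)).map W.1.subtype = (R.1.map W.1.subtype).map (g : V →ₗ[F] V)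
    rw [← Submodule.map_comp, ← Submodule.map_comp]
    exact congrArg (fun k => R.1.map k) (LinearMap.ext fun v => hagree v v.2)
  exact ⟨_, ⟨n, rfl⟩, hι ((hmove P).trans eP), hι ((hmove Q).trans eQ)⟩

/-- Over more than three elements. -/
theorem Core.exists_of_four (C : Core G W x) (h2 : PairTrans G) (h5 : 5 ≤ finrank F V) [Fintype F]
    (hq : 4 ≤ Fintype.card F) : ∃ (u : V) (φ : Dual F V), u ≠ 0 ∧ φ ≠ 0 ∧ φ u = 0 ∧ TIn G u φ := by
  classical
  haveI : FiniteDimensional F V := Module.Finite.of_finite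
  let b := Module.finBasisOfFinrankEq F W.1 W.2
  let N := normX G W x
  have hle : (⊤ : Subgroup (Matrix.SpecialLinearGroup (Fin 2) F)).map (slMap b) ≤
      (⊤ : Subgroup N).map (resW G W x) := by
    rintro _ ⟨s, -, rfl⟩
    obtain ⟨n, hn⟩ := C.sl_le h2 b s
    exact ⟨n, Subgroup.mem_top _, hn⟩
  have h := Subgroup.mem_map_of_mem (slMap b) (exists_tv_second (F := F) hq)
  rw [Subgroup.map_commutator, Subgroup.map_commutator] at h
  have h' := Subgroup.commutator_mono (Subgroup.commutator_mono hle hle) (Subgroup.commutator_mono hle hle) h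
  rw [← Subgroup.map_commutator, ← Subgroup.map_commutator] at h'
  obtain ⟨g, hg, hgW⟩ := h'
  refine C.tin_of_tv b ?_ hgW
  have hker : ⁅⁅(⊤ : Subgroup N), (⊤ : Subgroup N)⁆, ⁅(⊤ : Subgroup N), (⊤ : Subgroup N)⁆⁆ ≤ (resE G W x).ker := by
    rw [Subgroup.commutator_le]
    intro c hc d hd
    rw [MonoidHom.mem_ker, map_commutatorElement, commutatorElement_eq_one_iff_mul_comm]
    obtain ⟨⟨-, hcomm, -⟩, -⟩ := C.centre_field h5
    have h1 := hcomm ⟨_, C.mem_cent (commutator_commute hc)⟩ ⟨_, C.mem_cent (commutator_commute hd)⟩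
    exact LinearEquiv.toLinearMap_injective (congrArg Subtype.val h1)
  exact hker hg

/-- Over two elements. -/
theorem Core.exists_of_two (C : Core G W x) (h2 : PairTrans G) (h5 : 5 ≤ finrank F V) (hodd : Odd (finrank F V))
    (hq : Nat.card F = 2) : ∃ (u : V) (φ : Dual F V), u ≠ 0 ∧ φ ≠ 0 ∧ φ u = 0 ∧ TIn G u φ := by
  classical
  haveI : FiniteDimensional F V := Module.Finite.of_finite
  haveI : Finite F := Nat.finite_of_card_ne_zero (by omega)
  haveI : Finite (V ≃ₗ[F] V) := Finite.of_injective (fun g : V ≃ₗ[F] V => (g : V → V)) DFunLike.coe_injective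
  haveI : Fintype F := Fintype.ofFinite F
  haveI : CharP F 2 := charP_of_card_eq_prime (by rw [← Nat.card_eq_fintype_card, hq])
  let b := Module.finBasisOfFinrankEq F W.1 W.2
  set t := Matrix.SpecialLinearGroup.transvection (show (0 : Fin 2) ≠ 1 by decide) (1 : F)
  have ht2 : t ^ 2 = 1 := by
    refine Matrix.SpecialLinearGroup.ext _ _ fun i j => ?_
    rw [sq, Matrix.SpecialLinearGroup.coe_mul, Matrix.SpecialLinearGroup.coe_one,
      show (t : Matrix (Fin 2) (Fin 2) F) = Matrix.transvection 0 1 1 from rfl]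
    fin_cases i <;> fin_cases j <;>
      simp [Matrix.transvection, Matrix.mul_apply, Matrix.single, CharTwo.add_self_eq_zero]
  obtain ⟨g₀, hg₀⟩ := C.sl_le h2 b t
  obtain ⟨a, m, hm, hord⟩ := Nat.exists_eq_pow_mul_and_not_dvd (orderOf_pos g₀).ne' 2 (by norm_num)
  set g := g₀ ^ m with hg
  have hgW : resW G W x g = slMap b t := by
    rw [hg, map_pow, hg₀, ← map_pow]
    obtain ⟨j, rfl⟩ : Odd m := Nat.not_even_iff_odd.mp fun h => hm (even_iff_two_dvd.mp h)
    rw [pow_succ, pow_mul, ht2, one_pow, one_mul]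
  have hg2 : g ^ 2 ^ a = 1 := by rw [hg, ← pow_mul, mul_comm, ← hord, pow_orderOf_eq_one]
  refine C.tin_of_tv b ?_ hgW
  -- on the moved part
  obtain ⟨hf, hcard⟩ := C.centre_field h5
  letI : Field (centAlg C.xE) := hf.toField
  haveI : Finite (centAlg C.xE) := Nat.finite_of_card_ne_zero (hcard ▸ Nat.card_pos.ne')
  set h : movSp x ≃ₗ[F] movSp x := resE G W x g with hh
  have hconj : ∀ c ∈ centAlg C.xE, ((h : movSp x →ₗ[F] movSp x) * c * (h.symm : movSp x →ₗ[F] movSp x) :
      Module.End F (movSp x)) ∈ centAlg C.xE := by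
    intro c hc
    obtain ⟨-, i, hi⟩ := mem_normX.mp (g⁻¹).2
    have hx' : ∀ v, h.symm (C.xE v) = (C.xE ^ i) (h.symm v) := fun v => by
      have hpow : ∀ (j : ℕ) (w : movSp x), (((C.xE ^ j) w : movSp x) : V) = (x ^ j) (w : V) := fun j => by
        induction j with
        | zero => intro w; rfl
        | succ j ih => intro w; rw [pow_succ, Module.End.mul_apply, ih, pow_succ, LinearEquiv.mul_apply]; rfl
      refine Subtype.ext ?_
      rw [hpow]
      have e : h.symm = resE G W x g⁻¹ := by rw [hh, map_inv]; rfl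
      rw [e, resE_val, resE_val]
      exact LinearEquiv.congr_fun hi (v : V)
    have hci : C.xE ^ i * c = c * C.xE ^ i := ((show Commute C.xE c from mem_centAlg.mp hc).pow_left i).eq
    refine mem_centAlg.mpr (LinearMap.ext fun v => ?_)
    show C.xE (h (c (h.symm v))) = h (c (h.symm (C.xE v)))
    refine h.symm.injective ?_
    rw [hx', LinearEquiv.symm_apply_apply, LinearEquiv.symm_apply_apply, hx']
    exact LinearMap.congr_fun hci (h.symm v)
  let f : centAlg C.xE →ₐ[F] centAlg C.xE :=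
    { toFun := fun c => ⟨_, hconj c.1 c.2⟩
      map_one' := Subtype.ext (LinearMap.ext fun v => h.apply_symm_apply v)
      map_mul' := fun c d => Subtype.ext (LinearMap.ext fun v => by
        show h ((c : Module.End F (movSp x)) ((d : Module.End F (movSp x)) (h.symm v))) =
          h ((c : Module.End F (movSp x)) (h.symm (h ((d : Module.End F (movSp x)) (h.symm v)))))
        rw [LinearEquiv.symm_apply_apply])
      map_zero' := Subtype.ext (LinearMap.ext fun v => by
        show h ((0 : Module.End F (movSp x)) (h.symm v)) = 0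
        rw [LinearMap.zero_apply, map_zero])
      map_add' := fun c d => Subtype.ext (LinearMap.ext fun v => by
        show h (((c : Module.End F (movSp x)) + (d : Module.End F (movSp x))) (h.symm v)) =
          h ((c : Module.End F (movSp x)) (h.symm v)) + h ((d : Module.End F (movSp x)) (h.symm v))
        rw [LinearMap.add_apply, map_add])
      commutes' := fun r => Subtype.ext (LinearMap.ext fun v => by
        show h (r • h.symm v) = r • v
        rw [map_smul, LinearEquiv.apply_symm_apply]) }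
  let σ : centAlg C.xE ≃ₐ[F] centAlg C.xE := AlgEquiv.ofBijective f (Finite.injective_iff_bijective.mp f.injective)
  have hiter : ∀ (k : ℕ) (c : centAlg C.xE) (v : movSp x), ((σ ^ k) c : Module.End F (movSp x)) ((h ^ k) v) =
      (h ^ k) ((c : Module.End F (movSp x)) v) := by
    intro k
    induction k with
    | zero => intro c v; rfl
    | succ k ih =>
      intro c v
      rw [pow_succ', pow_succ', LinearEquiv.mul_apply, LinearEquiv.mul_apply, ← ih]
      show h (((σ ^ k) c : Module.End F (movSp x)) (h.symm (h ((h ^ k) v)))) = _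
      rw [LinearEquiv.symm_apply_apply]
  have hh2 : h ^ 2 ^ a = 1 := by rw [hh, ← map_pow, hg2, map_one]
  have hσ2 : σ ^ 2 ^ a = 1 := AlgEquiv.ext fun c => Subtype.ext (LinearMap.ext fun v => by
    have h3 := hiter (2 ^ a) c v
    rw [hh2] at h3
    exact h3)
  have hdim : finrank F (centAlg C.xE) = finrank F (movSp x) := by
    have h3 := hcard
    rw [Module.natCard_eq_pow_finrank (K := F) (V := centAlg C.xE),
      Module.natCard_eq_pow_finrank (K := F) (V := movSp x), hq] at h3
    exact Nat.pow_right_injective le_rfl (show 2 ^ finrank F (centAlg C.xE) = 2 ^ finrank F (movSp x) from h3)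
  have hσ : σ = 1 := by
    rw [← orderOf_eq_one_iff]
    have h3 : orderOf σ ∣ Nat.card (centAlg C.xE ≃ₐ[F] centAlg C.xE) := orderOf_dvd_natCard σ
    rw [IsGalois.card_aut_eq_finrank, hdim] at h3
    obtain ⟨j, -, hj⟩ := (Nat.dvd_prime_pow Nat.prime_two).mp (orderOf_dvd_of_pow_eq_one hσ2)
    rw [hj] at h3 ⊢
    rcases Nat.eq_zero_or_pos j with rfl | hj0
    · rfl
    · exfalso
      obtain ⟨k, hk⟩ := hodd
      obtain ⟨d, hd⟩ : 2 ∣ finrank F (movSp x) := (dvd_pow_self 2 hj0.ne').trans h3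
      have := C.dim
      omega
  have hmem : (h : movSp x →ₗ[F] movSp x) ∈ centAlg C.xE := mem_centAlg.mpr (LinearMap.ext fun v => by
    have h3 := congrArg (fun τ : centAlg C.xE ≃ₐ[F] centAlg C.xE =>
      (τ ⟨C.xE, mem_centAlg.mpr rfl⟩ : Module.End F (movSp x)) (h v)) hσ
    change h (C.xE (h.symm (h v))) = C.xE (h v) at h3
    rw [LinearEquiv.symm_apply_apply] at h3
    exact h3.symm)
  set H : centAlg C.xE := ⟨_, hmem⟩
  have hH : H = 1 := by
    have hp : H ^ 2 ^ a = 1 := Subtype.ext (LinearMap.ext fun v => by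
      have hpow : ∀ j : ℕ, ((H ^ j : centAlg C.xE) : Module.End F (movSp x)) v = (h ^ j) v := fun j => by
        induction j with
        | zero => rfl
        | succ j ih => rw [pow_succ', pow_succ', Subalgebra.coe_mul, Module.End.mul_apply, ih, LinearEquiv.mul_apply]; rfl
      rw [hpow, hh2]
      rfl)
    haveI : CharP (centAlg C.xE) 2 := charP_of_injective_algebraMap (algebraMap F (centAlg C.xE)).injective 2
    have h4 : (frobenius (centAlg C.xE) 2)^[a] H = (frobenius (centAlg C.xE) 2)^[a] 1 := by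
      rw [iterate_frobenius, iterate_frobenius, hp, one_pow]
    exact (frobenius_inj _ 2).iterate a h4
  exact LinearEquiv.toLinearMap_injective (congrArg Subtype.val hH)

end CfsgLib.SingerPrime
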