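/-
Over three elements: a transvection of a doubly transitive group with doubly transitive quotient stabilisers.
-/
import Cfsg.Agent.Lib.SingerPrime.Transv

set_option autoImplicit false
set_option linter.unusedSectionVars false
set_option linter.style.haveILetI false
set_option maxHeartbeats 1000000

namespace CfsgLib.SingerPrime

open Module
open scoped commutatorElement
open CfsgLib.SingerFive (Sub pt exists_pt smul_pt pt_eq_pt pt_le_iff sub_smul_val finite_field PairTrans tin_of_rank_one)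
open CfsgLib.SingerSeven (qgrp qpt qpt_smul qpt_le_iff mem_qgrp eq_line map_le_smul exists_pt_not_le eq_of_pt_le
  exists_pt_le finite_quot quotHom fixer mem_fixer)
open CfsgLib.MaxSub.ExtLin (UIn TIn)

attribute [local instance] finite_quot

variable {F V : Type*} [Field F] [AddCommGroup V] [Module F V] [Finite V] {G : Subgroup (V ≃ₗ[F] V)}
variable {W : Sub F V 2} {x : V ≃ₗ[F] V}

/-- The stabiliser of the line does not fix the moved part. -/
theorem Core.exists_move (C : Core G W x) (hq : ∀ a : Sub F V 1, PairTrans (qgrp G a)) (h5 : 5 ≤ finrank F V) :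
    ∃ g ∈ subStab G W, (movSp x).map (g : V →ₗ[F] V) ≠ movSp x := by
  haveI : FiniteDimensional F V := Module.Finite.of_finite
  obtain ⟨a, haW⟩ := exists_pt_le (L := W.1) (by rw [W.2]; omega)
  obtain ⟨b, hbW, hba⟩ := exists_pt_not_le (L := W.1) (L' := a.1) (by
    intro h
    have := Submodule.finrank_mono h
    rw [W.2, a.2] at this
    omega)
  obtain ⟨w0, hw0, rfl⟩ := exists_pt b
  obtain ⟨ε, hεE, hε0⟩ : ∃ ε ∈ movSp x, ε ≠ 0 := Submodule.exists_mem_ne_zero_of_ne_bot fun h => by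
    have := C.dim
    rw [h, finrank_bot] at this
    omega
  have hdisj := Submodule.disjoint_def.mp C.compl.disjoint
  have hw0W : w0 ∈ W.1 := hbW (Submodule.mem_span_singleton_self w0)
  have hεW : ε ∉ W.1 := fun h => hε0 (hdisj ε h hεE)
  have hsumW : w0 + ε ∉ W.1 := fun h => hεW (by simpa using W.1.sub_mem h hw0W)
  have hsum0 : w0 + ε ≠ 0 := fun h => hsumW (h ▸ W.1.zero_mem)
  have hW : W.1 = a.1 ⊔ (pt w0 hw0 : Sub F V 1).1 := eq_line (fun e => hba (e ▸ le_rfl)) haW hbW W.2.le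
  have hoff : ∀ (v : V) (hv : v ≠ 0), v ∉ W.1 →
      ∃ hv' : ¬ (pt v hv : Sub F V 1).1 ≤ a.1, qpt a.1 (pt v hv) hv' ≠ qpt a.1 (pt w0 hw0) hba := by
    intro v hv hvW
    refine ⟨fun h => hvW (haW (h (Submodule.mem_span_singleton_self v))), fun e => hvW ?_⟩
    have h := (qpt_le_iff _ _ _ _ _).mp e
    rw [hW]
    exact (le_of_le_of_eq h (sup_comm _ _)) (Submodule.mem_span_singleton_self v)
  obtain ⟨hε', hεq⟩ := hoff ε hε0 hεW
  obtain ⟨hs', hsq⟩ := hoff (w0 + ε) hsum0 hsumW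
  obtain ⟨g', hg', e1, e2⟩ := hq a (qpt a.1 (pt w0 hw0) hba) (qpt a.1 (pt ε hε0) hε') (qpt a.1 (pt w0 hw0) hba)
    (qpt a.1 (pt (w0 + ε) hsum0) hs') (Ne.symm hεq) (Ne.symm hsq)
  obtain ⟨⟨g, hgG, hga⟩, rfl⟩ := hg'
  have hmap : a.1.map (g : V →ₗ[F] V) = a.1 := congrArg Subtype.val hga
  have hne : ∀ P : Sub F V 1, ¬ P.1 ≤ a.1 → ¬ (g • P).1 ≤ a.1 := fun P hP h => hP (by
    rw [← map_le_smul g, hmap]; exact h)
  rw [qpt_smul (hP' := hne _ hba), qpt_le_iff] at e1
  rw [qpt_smul (hP' := hne _ hε'), qpt_le_iff] at e2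
  have hgW : g • W = W := by
    refine Subtype.ext (Submodule.eq_of_le_of_finrank_le ?_ (by rw [(g • W).2, W.2]))
    rw [sub_smul_val, hW, Submodule.map_sup, sup_le_iff]
    exact ⟨hmap.le.trans le_sup_left, e1.trans (le_of_eq (sup_comm _ _))⟩
  refine ⟨g, ⟨hgG, hgW⟩, fun hE => ?_⟩
  have hgE : g ε ∈ movSp x := hE.le (Submodule.mem_map_of_mem hεE)
  obtain ⟨y, hy, α, hα, hsum⟩ := Submodule.mem_sup.mp (e2 (Submodule.mem_map_of_mem (Submodule.mem_span_singleton_self ε)))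
  obtain ⟨c, rfl⟩ := Submodule.mem_span_singleton.mp hy
  change c • (w0 + ε) + α = g ε at hsum
  have h1 : c • w0 + α = 0 := hdisj _ (W.1.add_mem (W.1.smul_mem c hw0W) (haW hα)) (by
    have h2 : c • w0 + α = g ε - c • ε := by rw [← hsum, smul_add]; abel
    rw [h2]
    exact (movSp x).sub_mem hgE ((movSp x).smul_mem c hεE))
  have hc : c = 0 := by
    by_contra hc
    refine hba ((Submodule.span_singleton_le_iff_mem _ _).mpr ?_)
    have h2 : w0 = c⁻¹ • (-α) := by
      rw [← eq_neg_of_add_eq_zero_left h1, smul_smul, inv_mul_cancel₀ hc, one_smul]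
    rw [h2]
    exact a.1.smul_mem _ (a.1.neg_mem hα)
  refine hε0 ((LinearEquiv.map_eq_zero_iff g).mp ?_)
  rw [← hsum, hc, zero_smul, zero_add]
  rwa [hc, zero_smul, zero_add] at h1

/-- The matrix `[[1, 1], [0, 1]]` over three elements. -/
def uu3 : Matrix.SpecialLinearGroup (Fin 2) (ZMod 3) := ⟨!![1, 1; 0, 1], by decide⟩

/-- The matrix `[[0, -1], [1, 0]]` over three elements. -/
def ii3 : Matrix.SpecialLinearGroup (Fin 2) (ZMod 3) := ⟨!![0, -1; 1, 0], by decide⟩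

/-- The quaternion units met. -/
def gam (m : Fin 4) : Matrix.SpecialLinearGroup (Fin 2) (ZMod 3) :=
  uu3 * ⁅uu3, ii3⁆ * uu3⁻¹ * (⁅uu3, ii3⁆ ^ (m : ℕ))⁻¹

theorem comm_pow_four : ⁅uu3, ii3⁆ ^ 4 = 1 := by decide +kernel

theorem gam_spec : ∀ m : Fin 4,
    ((gam m : Matrix (Fin 2) (Fin 2) (ZMod 3)) * (gam m : Matrix (Fin 2) (Fin 2) (ZMod 3)) = -1) ∧
    (1 + (gam m : Matrix (Fin 2) (Fin 2) (ZMod 3)) + ((uu3 * gam m * uu3⁻¹ :
      Matrix.SpecialLinearGroup (Fin 2) (ZMod 3)) : Matrix (Fin 2) (Fin 2) (ZMod 3))).det = 0 ∧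
    (1 - (gam m : Matrix (Fin 2) (Fin 2) (ZMod 3)) - ((uu3 * gam m * uu3⁻¹ :
      Matrix.SpecialLinearGroup (Fin 2) (ZMod 3)) : Matrix (Fin 2) (Fin 2) (ZMod 3))).det = 0 := by decide +kernel

/-- An element of the group moving the vectors into the image of a map of the line of determinant zero is a
transvection. -/
theorem Core.tin_of_det (_C : Core G W x) {g : V ≃ₗ[F] V} (hg : g ∈ G) (hg1 : g ≠ 1) (hfix : ∀ v ∈ W.1, g v = v)
    (P : Module.End F W.1) (hP : LinearMap.det P = 0) (h : ∀ v, ∃ p : W.1, g v - v = (P p : V)) :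
    ∃ (u : V) (φ : Dual F V), u ≠ 0 ∧ φ ≠ 0 ∧ φ u = 0 ∧ TIn G u φ := by
  haveI : FiniteDimensional F V := Module.Finite.of_finite
  have hr : finrank F (LinearMap.range P) ≤ 1 := by
    have h1 := P.finrank_range_add_finrank_ker
    rw [W.2] at h1
    have h2 : finrank F (LinearMap.ker P) ≠ 0 := fun h0 =>
      (LinearMap.bot_lt_ker_of_det_eq_zero hP).ne' (Submodule.finrank_eq_zero.mp h0)
    omega
  obtain ⟨v0, hv0⟩ : ∃ v, g v ≠ v := by
    by_contra hh
    push Not at hh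
    exact hg1 (LinearEquiv.ext hh)
  obtain ⟨p0, hp0⟩ := h v0
  have hu : (P p0 : V) ≠ 0 := by rw [← hp0]; exact sub_ne_zero.mpr hv0
  have hspan : LinearMap.range P = F ∙ P p0 := (Submodule.eq_of_le_of_finrank_le
    ((Submodule.span_singleton_le_iff_mem _ _).mpr (LinearMap.mem_range_self P p0))
    (by rw [finrank_span_singleton (fun e => hu (by rw [e]; rfl))]; exact hr)).symm
  have hsp : ∀ v, g v - v ∈ F ∙ (P p0 : V) := fun v => by
    obtain ⟨p, hp⟩ := h v
    have hm : P p ∈ LinearMap.range P := LinearMap.mem_range_self P p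
    rw [hspan] at hm
    obtain ⟨c, hc⟩ := Submodule.mem_span_singleton.mp hm
    rw [hp, Submodule.mem_span_singleton]
    exact ⟨c, congrArg Subtype.val hc⟩
  obtain ⟨φ, hφ, hφu, hT⟩ := tin_of_rank_one (G := G) hg hu hg1 hsp (hfix _ (P p0).2)
  exact ⟨_, φ, hu, hφ, hφu, hT⟩

/-- Over three elements. -/
theorem Core.exists_of_three (C : Core G W x) (h2 : PairTrans G) (hq : ∀ a : Sub F V 1, PairTrans (qgrp G a))
    (h5 : 5 ≤ finrank F V) (hF : Nat.card F = 3) :
    ∃ (u : V) (φ : Dual F V), u ≠ 0 ∧ φ ≠ 0 ∧ φ u = 0 ∧ TIn G u φ := by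
  classical
  haveI : FiniteDimensional F V := Module.Finite.of_finite
  haveI : Finite F := Nat.finite_of_card_ne_zero (by omega)
  haveI : Finite (V ≃ₗ[F] V) := Finite.of_injective (fun g : V ≃ₗ[F] V => (g : V → V)) DFunLike.coe_injective
  haveI : Fintype F := Fintype.ofFinite F
  haveI : Fact (Nat.Prime 3) := ⟨by norm_num⟩
  haveI : CharP F 3 := charP_of_card_eq_prime (by rw [← Nat.card_eq_fintype_card, hF])
  have two_ne : (2 : F) ≠ 0 := by
    intro h
    have := (CharP.cast_eq_zero_iff F 3 2).mp (by exact_mod_cast h)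
    norm_num at this
  have half : ∀ v : V, v + v = 0 → v = 0 := fun v hv => by
    rw [← two_smul F v, smul_eq_zero] at hv
    exact hv.resolve_left two_ne
  let b := Module.finBasisOfFinrankEq F W.1 W.2
  let φ := ZMod.castHom (dvd_refl 3) F
  let ψ : Matrix.SpecialLinearGroup (Fin 2) (ZMod 3) →* (W.1 ≃ₗ[F] W.1) :=
    (slMap b).comp (Matrix.SpecialLinearGroup.map φ)
  let ρ : Matrix (Fin 2) (Fin 2) (ZMod 3) →+* Module.End F W.1 :=
    (Matrix.toLinAlgEquiv b).toRingEquiv.toRingHom.comp φ.mapMatrix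
  have hψ : ∀ s v, ψ s v = ρ (s : Matrix (Fin 2) (Fin 2) (ZMod 3)) v := fun s v => by
    refine LinearMap.congr_fun (f := (ψ s : W.1 →ₗ[F] W.1)) (b.ext fun j => ?_) v
    show slMap b (Matrix.SpecialLinearGroup.map φ s) (b j) =
      Matrix.toLinAlgEquiv b (φ.mapMatrix (s : Matrix (Fin 2) (Fin 2) (ZMod 3))) (b j)
    rw [slMap_apply, Matrix.toLinAlgEquiv_self]
    rfl
  have hdet : ∀ A, LinearMap.det (ρ A) = φ A.det := fun A => by
    show LinearMap.det (Matrix.toLin b b (φ.mapMatrix A)) = _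
    rw [LinearMap.det_toLin, RingHom.map_det]
  obtain ⟨gu, hgu⟩ := C.sl_le h2 b (Matrix.SpecialLinearGroup.map φ uu3)
  obtain ⟨gi, hgi⟩ := C.sl_le h2 b (Matrix.SpecialLinearGroup.map φ ii3)
  change resW G W x gu = ψ uu3 at hgu
  change resW G W x gi = ψ ii3 at hgi
  set a := ⁅gu, gi⁆ with ha
  set b' := gu * a * gu⁻¹ with hb'
  have haD : a ∈ ⁅(⊤ : Subgroup (normX G W x)), (⊤ : Subgroup (normX G W x))⁆ :=
    Subgroup.commutator_mem_commutator (Subgroup.mem_top _) (Subgroup.mem_top _)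
  have hbD : b' ∈ ⁅(⊤ : Subgroup (normX G W x)), (⊤ : Subgroup (normX G W x))⁆ :=
    (inferInstance : (⁅(⊤ : Subgroup (normX G W x)), (⊤ : Subgroup (normX G W x))⁆).Normal).conj_mem a haD gu
  -- on the moved part the conjugate is a power
  obtain ⟨i, hi⟩ : ∃ i : ℕ, resE G W x a ^ i = resE G W x b' := by
    obtain ⟨hf, -⟩ := C.centre_field h5
    letI : Field (centAlg C.xE) := hf.toField
    let T := LinearEquiv.automorphismGroup.toLinearMapMonoidHom (R := F) (M := movSp x)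
    have hT : Function.Injective T := LinearEquiv.toLinearMap_injective
    let A : centAlg C.xE := ⟨_, C.mem_cent (commutator_commute haD)⟩
    let B : centAlg C.xE := ⟨_, C.mem_cent (commutator_commute hbD)⟩
    haveI : Finite (movSp x ≃ₗ[F] movSp x) :=
      Finite.of_injective (fun g : movSp x ≃ₗ[F] movSp x => (g : _ → _)) DFunLike.coe_injective
    set n := orderOf (resE G W x a) with hn
    have hA : orderOf A = n := by
      rw [hn, ← orderOf_injective T hT]
      exact (orderOf_injective (centAlg C.xE).val.toRingHom.toMonoidHom Subtype.val_injective A).symm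
    haveI : NeZero n := ⟨(orderOf_pos _).ne'⟩
    have hB : B ^ n = 1 := Subtype.ext (by
      show T (resE G W x b') ^ n = 1
      rw [← map_pow, hb', map_mul, map_mul, map_inv, conj_pow, hn, pow_orderOf_eq_one, mul_one, mul_inv_cancel, map_one])
    obtain ⟨i, -, hi⟩ := (hA ▸ IsPrimitiveRoot.orderOf A).eq_pow_of_pow_eq_one hB
    refine ⟨i, hT ?_⟩
    rw [map_pow]
    exact congrArg Subtype.val hi
  set w := b' * (a ^ i)⁻¹ with hw
  set w' := gu * w * gu⁻¹ with hw'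
  have hwE : resE G W x w = 1 := by rw [hw, map_mul, map_inv, map_pow, hi, mul_inv_cancel]
  have hw'E : resE G W x w' = 1 := by rw [hw', map_mul, map_mul, hwE, mul_one, map_inv, mul_inv_cancel]
  let m : Fin 4 := ⟨i % 4, Nat.mod_lt _ (by norm_num)⟩
  have haW : resW G W x a = ψ ⁅uu3, ii3⁆ := by
    rw [ha, map_commutatorElement, map_commutatorElement, hgu, hgi]
  have hwW : resW G W x w = ψ (gam m) := by
    rw [hw, hb', map_mul, map_inv, map_pow, map_mul, map_mul, map_inv, haW, hgu]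
    simp only [gam, map_mul, map_inv, map_pow, show (m : ℕ) = i % 4 from rfl]
    rw [← pow_eq_pow_mod i (by rw [← map_pow, comm_pow_four, map_one])]
  have hw'W : resW G W x w' = ψ (uu3 * gam m * uu3⁻¹) := by
    rw [hw', map_mul, map_mul, map_inv, hwW, hgu, map_mul, map_mul, map_inv]
  obtain ⟨hsq, hd, hd'⟩ := gam_spec m
  set γ : Module.End F W.1 := ρ (gam m : Matrix (Fin 2) (Fin 2) (ZMod 3)) with hγ
  set γ' : Module.End F W.1 := ρ ((uu3 * gam m * uu3⁻¹ : Matrix.SpecialLinearGroup (Fin 2) (ZMod 3)) :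
    Matrix (Fin 2) (Fin 2) (ZMod 3)) with hγ'
  set y : V ≃ₗ[F] V := (w : V ≃ₗ[F] V) with hy
  set y' : V ≃ₗ[F] V := (w' : V ≃ₗ[F] V) with hy'
  have hyG : y ∈ G := w.2.1.1
  have hy'G : y' ∈ G := w'.2.1.1
  have hyW : ∀ p : W.1, y (p : V) = (γ p : V) := fun p => by rw [hy, ← resW_val, hwW, hψ, hγ]
  have hy'W : ∀ p : W.1, y' (p : V) = (γ' p : V) := fun p => by rw [hy', ← resW_val, hw'W, hψ, hγ']
  have hyE : ∀ e ∈ movSp x, y e = e := fun e he => by rw [hy, ← resE_val w ⟨e, he⟩, hwE]; rfl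
  have hy'E : ∀ e ∈ movSp x, y' e = e := fun e he => by rw [hy', ← resE_val w' ⟨e, he⟩, hw'E]; rfl
  clear_value y y' γ γ' w w'
  have hdec : ∀ v : V, ∃ p : W.1, ∃ e ∈ movSp x, v = p + e := fun v => by
    obtain ⟨p, hp, e, he, h⟩ := Submodule.mem_sup.mp (C.compl.sup_eq_top ▸ Submodule.mem_top : v ∈ W.1 ⊔ movSp x)
    exact ⟨⟨p, hp⟩, e, he, h.symm⟩
  have hyd : ∀ v, y v - v ∈ W.1 := fun v => by
    obtain ⟨p, e, he, rfl⟩ := hdec v
    rw [map_add, hyE e he, add_sub_add_right_eq_sub, hyW]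
    exact W.1.sub_mem (γ p).2 p.2
  have hy'd : ∀ v, y' v - v ∈ W.1 := fun v => by
    obtain ⟨p, e, he, rfl⟩ := hdec v
    rw [map_add, hy'E e he, add_sub_add_right_eq_sub, hy'W]
    exact W.1.sub_mem (γ' p).2 p.2
  -- the involution
  set z := y * y with hz
  have hzv : ∀ (p : W.1) (e : V), e ∈ movSp x → z (p + e) = -(p : V) + e := fun p e he => by
    have h : γ (γ p) = -p := by
      have h1 := LinearMap.congr_fun (congrArg ρ hsq) p
      rw [map_mul, map_neg, map_one, ← hγ] at h1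
      exact h1
    rw [hz, LinearEquiv.mul_apply, map_add, hyE e he, map_add, hyE e he, hyW, hyW, h]
    rfl
  have hzW : ∀ v ∈ W.1, z v = -v := fun v hv => by simpa using hzv ⟨v, hv⟩ 0 (zero_mem _)
  have hzd : ∀ v, z v - v ∈ W.1 := fun v => by
    have h1 := W.1.add_mem (hyd (y v)) (hyd v)
    rwa [sub_add_sub_cancel] at h1
  have hzz : z * z = 1 := LinearEquiv.ext fun v => by
    obtain ⟨p, e, he, rfl⟩ := hdec v
    rw [LinearEquiv.mul_apply, hzv p e he, show -(p : V) = ((-p : W.1) : V) from rfl, hzv _ e he]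
    simp
  obtain ⟨g, hgS, hgE⟩ := C.exists_move hq h5
  have hgW : ∀ v ∈ W.1, g v ∈ W.1 := fun v hv => (subStab_map W g hgS).le (Submodule.mem_map_of_mem hv)
  have hgW' : ∀ v ∈ W.1, g⁻¹ v ∈ W.1 := fun v hv =>
    (subStab_map W g⁻¹ ((subStab G W).inv_mem hgS)).le (Submodule.mem_map_of_mem hv)
  have hzG : z ∈ G := hz ▸ G.mul_mem hyG hyG
  clear_value z
  set h := g * z * g⁻¹ * z with hh
  have hhG : h ∈ G := hh ▸ G.mul_mem (G.mul_mem (G.mul_mem hgS.1 hzG) (G.inv_mem hgS.1)) hzG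
  have hhW : ∀ v ∈ W.1, h v = v := fun v hv => by
    rw [hh, LinearEquiv.mul_apply, LinearEquiv.mul_apply, LinearEquiv.mul_apply, hzW v hv,
      hzW _ (hgW' _ (W.1.neg_mem hv))]
    simp only [map_neg, neg_neg]
    exact g.apply_symm_apply v
  have hhd : ∀ v, h v - v ∈ W.1 := fun v => by
    have h1 := hgW _ (hzd (g⁻¹ (z v)))
    rw [map_sub, show g (g⁻¹ (z v)) = z v from g.apply_symm_apply _] at h1
    have h2 := W.1.add_mem h1 (hzd v)
    rw [sub_add_sub_cancel] at h2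
    exact h2
  have hh1 : h ≠ 1 := fun h1 => hgE (by
    refine Submodule.eq_of_le_of_finrank_le ?_ (g.finrank_map_eq _).ge
    have hc : g * z = z * g := by
      have h2 : g * z * g⁻¹ = z⁻¹ := eq_inv_of_mul_eq_one_left h1
      rw [inv_eq_of_mul_eq_one_right hzz] at h2
      exact mul_inv_eq_iff_eq_mul.mp h2
    rintro _ ⟨e, he, rfl⟩
    obtain ⟨p, e', he', hpe⟩ := hdec (g e)
    have h3 := LinearEquiv.congr_fun hc e
    rw [LinearEquiv.mul_apply, LinearEquiv.mul_apply, show z e = e by simpa using hzv 0 e he, hpe, hzv p e' he'] at h3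
    have hp : (p : V) = 0 := half _ (by rw [← sub_neg_eq_add]; exact sub_eq_zero.mpr (add_right_cancel h3))
    show g e ∈ movSp x
    rw [hpe, hp, zero_add]
    exact he')
  clear_value h
  set f : V →ₗ[F] V := (h : V →ₗ[F] V) - LinearMap.id with hf
  have hfv : ∀ v, f v = h v - v := fun v => rfl
  have hfW : ∀ v ∈ W.1, f v = 0 := fun v hv => by rw [hfv, hhW v hv, sub_self]
  have hfm : ∀ v, f v ∈ W.1 := hhd
  have hconj : ∀ (t : V ≃ₗ[F] V), (∀ v, t v - v ∈ W.1) → ∀ v,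
      (t * h * t⁻¹) v = v + t (f v) ∧ (t * h⁻¹ * t⁻¹) v = v - t (f v) := by
    intro t ht v
    obtain ⟨u, hu⟩ : ∃ u, t u = v := t.surjective v
    have hfu : f v = f u := by
      have h1 := hfW _ (ht u)
      rwa [map_sub, hu, sub_eq_zero] at h1
    have hti : t⁻¹ v = u := by rw [← hu]; exact t.symm_apply_apply u
    have hinv : h⁻¹ u = u - f u := by
      refine h.injective ?_
      rw [show h (h⁻¹ u) = u from h.apply_symm_apply u, map_sub, hhW _ (hfm u), hfv]
      abel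
    rw [LinearEquiv.mul_apply, LinearEquiv.mul_apply, LinearEquiv.mul_apply, LinearEquiv.mul_apply, hti, hinv,
      show h u = u + f u by rw [hfv]; abel, map_add, map_sub, hu, hfu]
    exact ⟨rfl, rfl⟩
  have hadd : ∀ a c : V, c ∈ W.1 → f (a + c) = f a := fun a c hc => by rw [map_add, hfW c hc, add_zero]
  have hh' : ∀ u, h u = f u + u := fun u => by rw [hfv, sub_add_cancel]
  have hyf : ∀ v, y (f v) ∈ W.1 := fun v => (hyW ⟨_, hfm v⟩).symm ▸ (γ _).2
  have hy'f : ∀ v, y' (f v) ∈ W.1 := fun v => (hy'W ⟨_, hfm v⟩).symm ▸ (γ' _).2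
  have hP : ∀ v, (h * (y * h * y⁻¹) * (y' * h * y'⁻¹)) v - v = (((1 + γ + γ') ⟨f v, hfm v⟩ : W.1) : V) := fun v => by
    rw [LinearEquiv.mul_apply, LinearEquiv.mul_apply, (hconj y' hy'd v).1, (hconj y hyd _).1,
      hadd v _ (hy'f v),
      hh' (v + y' (f v) + y (f v)),
      hadd _ _ (hyf v), hadd v _ (hy'f v)]
    show f v + (v + y' (f v) + y (f v)) - v = f v + (γ ⟨f v, hfm v⟩ : V) + (γ' ⟨f v, hfm v⟩ : V)
    rw [← hyW, ← hy'W]
    abel
  have hP' : ∀ v, (h * (y * h⁻¹ * y⁻¹) * (y' * h⁻¹ * y'⁻¹)) v - v =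
      (((1 - γ - γ') ⟨f v, hfm v⟩ : W.1) : V) := fun v => by
    rw [LinearEquiv.mul_apply, LinearEquiv.mul_apply, (hconj y' hy'd v).2, (hconj y hyd _).2,
      sub_eq_add_neg v, hadd v _ (W.1.neg_mem (hy'f v)), sub_eq_add_neg _ (y (f v)),
      hh' (v + -y' (f v) + -y (f v)),
      hadd _ _ (W.1.neg_mem (hyf v)), hadd v _ (W.1.neg_mem (hy'f v))]
    show f v + (v + -y' (f v) + -y (f v)) - v = f v - (γ ⟨f v, hfm v⟩ : V) - (γ' ⟨f v, hfm v⟩ : V)
    rw [← hyW, ← hy'W]
    abel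
  have hdetP : LinearMap.det (1 + γ + γ') = 0 := by
    rw [show 1 + γ + γ' = ρ (1 + (gam m : Matrix (Fin 2) (Fin 2) (ZMod 3)) + ((uu3 * gam m * uu3⁻¹ :
      Matrix.SpecialLinearGroup (Fin 2) (ZMod 3)) : Matrix (Fin 2) (Fin 2) (ZMod 3))) by
        rw [hγ, hγ', map_add, map_add, map_one], hdet, hd, map_zero]
  have hdetP' : LinearMap.det (1 - γ - γ') = 0 := by
    rw [show 1 - γ - γ' = ρ (1 - (gam m : Matrix (Fin 2) (Fin 2) (ZMod 3)) - ((uu3 * gam m * uu3⁻¹ :
      Matrix.SpecialLinearGroup (Fin 2) (ZMod 3)) : Matrix (Fin 2) (Fin 2) (ZMod 3))) by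
        rw [hγ, hγ', map_sub, map_sub, map_one], hdet, hd', map_zero]
  have hzero : ∀ v ∈ W.1, (⟨f v, hfm v⟩ : W.1) = 0 := fun v hv => Subtype.ext (hfW v hv)
  by_cases h1 : h * (y * h * y⁻¹) * (y' * h * y'⁻¹) = 1
  · refine C.tin_of_det (G.mul_mem (G.mul_mem hhG (G.mul_mem (G.mul_mem hyG (G.inv_mem hhG)) (G.inv_mem hyG)))
      (G.mul_mem (G.mul_mem hy'G (G.inv_mem hhG)) (G.inv_mem hy'G))) (fun h2 => hh1 ?_) (fun v hv => ?_)
      (1 - γ - γ') hdetP' fun v => ⟨_, hP' v⟩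
    · refine LinearEquiv.ext fun v => sub_eq_zero.mp (half _ ?_)
      have e1 := hP v
      have e2 := hP' v
      rw [h1] at e1
      rw [h2] at e2
      rw [show (1 : V ≃ₗ[F] V) v - v = 0 from sub_self v] at e1 e2
      show f v + f v = 0
      calc f v + f v = (((1 + γ + γ') ⟨f v, hfm v⟩ : W.1) : V) + (((1 - γ - γ') ⟨f v, hfm v⟩ : W.1) : V) := by
            show f v + f v = f v + (γ ⟨f v, hfm v⟩ : V) + (γ' ⟨f v, hfm v⟩ : V) +
              (f v - (γ ⟨f v, hfm v⟩ : V) - (γ' ⟨f v, hfm v⟩ : V))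
            abel
        _ = 0 := by rw [← e1, ← e2, add_zero]
    · refine sub_eq_zero.mp ?_
      rw [hP', hzero v hv, map_zero]
      rfl
  · exact C.tin_of_det (G.mul_mem (G.mul_mem hhG (G.mul_mem (G.mul_mem hyG hhG) (G.inv_mem hyG)))
      (G.mul_mem (G.mul_mem hy'G hhG) (G.inv_mem hy'G))) h1
      (fun v hv => sub_eq_zero.mp (by rw [hP, hzero v hv, map_zero]; rfl)) (1 + γ + γ') hdetP fun v => ⟨_, hP v⟩

/-- A doubly transitive group with doubly transitive quotient stabilisers contains a transvection. -/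
theorem exists_transvection_of_stab (hodd : Odd (finrank F V)) (h5 : 5 ≤ finrank F V) (h2 : PairTrans G)
    (hq : ∀ a : Sub F V 1, PairTrans (qgrp G a)) :
    ∃ (u : V) (φ : Dual F V), u ≠ 0 ∧ φ ≠ 0 ∧ φ u = 0 ∧ TIn G u φ := by
  haveI : FiniteDimensional F V := Module.Finite.of_finite
  haveI : Nontrivial V := Module.nontrivial_of_finrank_pos (R := F) (by omega)
  haveI : Finite F := finite_field (V := V)
  obtain ⟨u, v, huv⟩ : ∃ u v : V, LinearIndependent F ![u, v] := by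
    let b := Module.finBasis F V
    exact ⟨b ⟨0, by omega⟩, b ⟨1, by omega⟩, by
      rw [show (![b ⟨0, by omega⟩, b ⟨1, by omega⟩] : Fin 2 → V) = b ∘ ![⟨0, by omega⟩, ⟨1, by omega⟩] by
        ext i; fin_cases i <;> rfl]
      exact b.linearIndependent.comp _ (by intro i j; fin_cases i <;> fin_cases j <;> simp)⟩
  let W : Sub F V 2 := ⟨Submodule.span F {u, v}, CfsgLib.SingerFive.finrank_span_pair huv⟩
  obtain ⟨x, C⟩ := exists_core (G := G) hodd h5 hq W
  have h1 : 1 < Nat.card F := Finite.one_lt_card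
  rcases Nat.lt_or_ge (Nat.card F) 4 with h | h
  · rcases (show Nat.card F = 2 ∨ Nat.card F = 3 by omega) with h' | h'
    · exact C.exists_of_two h2 h5 hodd h'
    · exact C.exists_of_three h2 hq h5 h'
  · haveI : Fintype F := Fintype.ofFinite F
    exact C.exists_of_four h2 h5 (by rwa [← Nat.card_eq_fintype_card])

end CfsgLib.SingerPrime
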