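/-
Doubly transitive groups containing the torus, in odd dimension, contain all transvections.
-/
import Cfsg.Agent.Lib.SingerPrime.Special
import Cfsg.Agent.Lib.SingerPrime.Degree
import Cfsg.Agent.Lib.SingerPrime.TransvThree
import Cfsg.Agent.Lib.SingerSeven.Dim
import Cfsg.Agent.Lib.SingerSeven.AllTransv

set_option autoImplicit false
set_option linter.unusedSectionVars false
set_option linter.style.haveILetI false
set_option maxHeartbeats 1000000

namespace CfsgLib.SingerPrime

open Module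
open CfsgLib.SingerFive (Sub pt exists_pt smul_pt dualE dualE_apply finite_field finiteDim PairTrans mulE mulE_apply)
open CfsgLib.SingerSeven
open CfsgLib.MaxSub.ExtLin (TIn)

attribute [local instance] finite_quot

variable {F L : Type*} [Field F] [Field L] [Algebra F L] [Finite L] {M : Subgroup (L ≃ₗ[F] L)}

/-- The dual group again contains the torus. -/
theorem exists_dual (hmul : ∀ u : Lˣ, Algebra.norm F (u : L) = 1 → mulE u ∈ M) :
    ∃ (M' : Subgroup (L ≃ₗ[F] L)) (D : L ≃ₗ[F] Dual F L),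
    (∀ u : Lˣ, Algebra.norm F (u : L) = 1 → mulE u ∈ M') ∧ Corr D M' (M.map (dualE : (L ≃ₗ[F] L) →* _)) ∧ Corr D.symm (M.map (dualE : (L ≃ₗ[F] L) →* _)) M' := by
  classical
  haveI : Finite F := Finite.of_injective _ (algebraMap F L).injective
  haveI : FiniteDimensional F L := finiteDim
  haveI : Finite (Dual F L) := finite_dual
  let D := (Algebra.traceForm F L).toDual (traceForm_nondegenerate F L)
  have hD : ∀ x y, D x y = Algebra.trace F L (x * y) := fun x y => by
    rw [← Algebra.traceForm_apply]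
    exact LinearMap.BilinForm.toDual_def _
  have hmem : ∀ {g : L ≃ₗ[F] L}, (∃ h ∈ M, ∀ x, D (g x) = dualE h (D x)) →
      conjE D g ∈ M.map (dualE : (L ≃ₗ[F] L) →* _) := by
    rintro g ⟨h, hh, he⟩
    refine ⟨h, hh, LinearEquiv.ext fun φ => ?_⟩
    obtain ⟨x, rfl⟩ := D.surjective φ
    rw [conjE_apply, he]
  let M' : Subgroup (L ≃ₗ[F] L) :=
    { carrier := {g | ∃ h ∈ M, ∀ x, D (g x) = dualE h (D x)}
      one_mem' := ⟨1, one_mem M, fun x => by rw [map_one]; rfl⟩
      mul_mem' := by
        rintro g g' ⟨h, hh, he⟩ ⟨h', hh', he'⟩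
        refine ⟨h * h', mul_mem hh hh', fun x => ?_⟩
        rw [map_mul, LinearEquiv.mul_apply, LinearEquiv.mul_apply, he, he']
      inv_mem' := by
        rintro g ⟨h, hh, he⟩
        refine ⟨h⁻¹, inv_mem hh, fun x => ?_⟩
        have h1 := he (g.symm x)
        rw [g.apply_symm_apply] at h1
        rw [map_inv, h1]
        exact ((dualE h).symm_apply_apply _).symm }
  refine ⟨M', D, ?_, fun φ => ⟨?_, ?_⟩, fun g => ⟨?_, ?_⟩⟩
  · intro u hu
    refine ⟨mulE u⁻¹, hmul _ ?_, fun x => LinearMap.ext fun y => ?_⟩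
    · have h1 : Algebra.norm F ((u * u⁻¹ : Lˣ) : L) = 1 := by rw [mul_inv_cancel, Units.val_one, map_one]
      rwa [Units.val_mul, map_mul, hu, one_mul] at h1
    · rw [dualE_apply, hD, hD, mulE_apply, show (mulE u⁻¹ : L ≃ₗ[F] L).symm y = (u : L) * y by
        rw [LinearEquiv.symm_apply_eq, mulE_apply, Units.inv_mul_cancel_left]]
      congr 1
      ring
  · rintro ⟨h, hh, rfl⟩
    exact ⟨conjE D.symm (dualE h), ⟨h, hh, fun x => by
      show D (D.symm (dualE h (D x))) = _
      rw [D.apply_symm_apply]⟩, fun x => by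
        show D (D.symm (dualE h (D x))) = _
        rw [D.apply_symm_apply]⟩
  · rintro ⟨g, hg, he⟩
    rw [show φ = conjE D g from LinearEquiv.ext fun ψ => by
      obtain ⟨x, rfl⟩ := D.surjective ψ
      rw [conjE_apply, he]]
    exact hmem hg
  · rintro ⟨h, hh, he⟩
    exact ⟨dualE h, ⟨h, hh, rfl⟩, fun φ => by rw [D.symm_apply_eq, he, D.apply_symm_apply]⟩
  · rintro ⟨_, ⟨h, hh, rfl⟩, he⟩
    exact ⟨h, hh, fun x => by
      have := he (D x)
      rw [D.symm_apply_apply] at this
      rw [← this, D.apply_symm_apply]⟩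

/-- The subspaces of the lines are at most half of the quotient. -/
theorem two_mul_nb_lt (h2 : PairTrans M) (hn : 3 ≤ finrank F L) (hodd : Odd (finrank F L))
    (hmul : ∀ u : Lˣ, Algebra.norm F (u : L) = 1 → mulE u ∈ M) (a : Sub F L 1) (P : Sub F (L ⧸ a.1) 1) :
    2 * finrank F (nb (qgrp M a) P) < finrank F L := by
  classical
  haveI : FiniteDimensional F L := finiteDim
  by_contra hge
  push Not at hge
  obtain ⟨c, hc⟩ := hodd
  have hlt : finrank F (nb (qgrp M a) P) < finrank F (L ⧸ a.1) :=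
    Submodule.finrank_lt ((qgrp_antiTrans h2 (by omega) a).good (by have := finrank_quot a; omega) P).2.1
  have hq := finrank_quot a
  obtain ⟨s, hs⟩ : ∃ s, finrank F L = finrank F (nb (qgrp M a) P) + s + 1 :=
    ⟨finrank F (L ⧸ a.1) - finrank F (nb (qgrp M a) P), by omega⟩
  have hw : ∀ x y : Sub F L 1, x ≠ y → finrank F (wl M x y) = finrank F (nb (qgrp M a) P) + 1 := fun x y hxy => by
    rw [wl_def x y hxy.symm (not_le_of_ne hxy.symm), comap_mkQ_finrank, finrank_nb_qgrp h2 hn x a _ P]
  obtain ⟨b, hb, -⟩ := exists_qpt a.1 P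
  have hne : a ≠ b := fun e => hb (e ▸ le_rfl)
  have htor := torus_bound h2 hn hmul hne
  rw [hw a b hne] at htor
  exact no_middle h2 hs (by omega) (by omega) hw

/-- The groups on the quotients by points are doubly transitive. -/
theorem pairs_qgrp (h2 : PairTrans M) (h5 : 5 ≤ finrank F L) (hodd : Odd (finrank F L))
    (hmul : ∀ u : Lˣ, Algebra.norm F (u : L) = 1 → mulE u ∈ M) (a : Sub F L 1) : PairTrans (qgrp M a) := by
  classical
  haveI : Finite F := Finite.of_injective _ (algebraMap F L).injective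
  haveI : FiniteDimensional F L := finiteDim
  haveI : Finite (Dual F L) := finite_dual
  have hn : 3 ≤ finrank F L := by omega
  have hq := finrank_quot a
  have hk : 2 ≤ finrank F (L ⧸ a.1) := by omega
  have hX := qgrp_antiTrans h2 (by omega) a
  refine pairTrans_of_one hX hk fun P => ?_
  have h1 : 1 ≤ finrank F (nb (qgrp M a) P) :=
    (le_of_eq P.2.symm).trans (Submodule.finrank_mono (hX.self_le hk P))
  by_contra hne
  have hw := two_mul_nb_lt h2 hn hodd hmul a P
  obtain ⟨Φ, -⟩ := exists_off a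
  have hd : finrank F (Dual F L ⧸ Φ.1) + 1 = finrank F L := by
    rw [finrank_quot Φ, Subspace.dual_finrank_eq]
  obtain ⟨A, -⟩ := exists_pt_le (F := F) (U := Dual F L ⧸ Φ.1) (L := ⊤) (by rw [finrank_top]; omega)
  have hco := coupling h2 hn a P Φ A (by omega)
  obtain ⟨M', D, hmul', hc, hc'⟩ := exists_dual hmul
  have h2' := pairTrans_dual h2 hn
  have hM' := pairTrans_corr hc' h2'
  obtain ⟨B, -⟩ := exists_pt_le (F := F) (U := L ⧸ a.1) (L := ⊤) (by rw [finrank_top]; omega)
  rw [finrank_qgrp_corr hc hM' h2' hn a B Φ A] at hco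
  have hv := two_mul_nb_lt hM' hn hodd hmul' a B
  omega

/-- All transvections. -/
theorem all_of_pairs (h2 : PairTrans M) (h5 : 5 ≤ finrank F L) (hodd : Odd (finrank F L))
    (hmul : ∀ u : Lˣ, Algebra.norm F (u : L) = 1 → mulE u ∈ M) (u : L) (φ : Dual F L) (hφ : φ u = 0) :
    TIn M u φ := by
  haveI : FiniteDimensional F L := finiteDim
  obtain ⟨u₀, φ₀, hu₀, hφ₀, h₀, hT₀⟩ := exists_transvection_of_stab hodd h5 h2 (pairs_qgrp h2 h5 hodd hmul)
  exact all_transvections_of_three h2 (by omega) hu₀ hφ₀ h₀ hT₀ u φ hφ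

end CfsgLib.SingerPrime
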