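/-
Subgroups of a general linear group over two elements transitive on a Mersenne prime number of vectors.
-/
import Cfsg.Agent.Lib.SingerPrime.Main
import Cfsg.Agent.Lib.SingerPrime.OverSetup
import Cfsg.Agent.Lib.Perm.PrimeDegree
import Cfsg.Agent.Lib.MaxSub.ExtLin.Main
import Cfsg.Agent.Lib.SingerFive.Exist

set_option autoImplicit false
set_option linter.unusedSectionVars false
set_option linter.style.haveILetI false
set_option maxHeartbeats 1000000

namespace CfsgLib.SingerPrime.Mersenne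

open Module
open CfsgLib.SingerFive (Sub pt exists_pt smul_pt pt_eq_pt PairTrans mulE mulE_apply autE autE_apply IsSemi finiteDim
  tin_of_rank_one)
open CfsgLib.SingerSeven (all_transvections_of_three)
open CfsgLib.MaxSub.ExtLin (TIn gmap gmap_apply gmap_det)

variable {F : Type*} [Field F] {V : Type*} [AddCommGroup V] [Module F V] [Finite V]

theorem units_one (hF : ∀ c : F, c = 0 ∨ c = 1) {c : F} (hc : c ≠ 0) : c = 1 := (hF c).resolve_left hc

theorem pt_inj (hF : ∀ c : F, c = 0 ∨ c = 1) {v w : V} (hv : v ≠ 0) (hw : w ≠ 0)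
    (h : (pt v hv : Sub F V 1) = pt w hw) : v = w := by
  obtain ⟨c, hc, e⟩ := pt_eq_pt hv hw h
  rw [e, units_one hF hc, one_smul]

/-- Over two elements a group with all transvections is everything. -/
theorem eq_top_of_all (hF : ∀ c : F, c = 0 ∨ c = 1) (hn : 2 ≤ finrank F V) {G : Subgroup (V ≃ₗ[F] V)}
    (h : ∀ (u : V) (φ : Dual F V), φ u = 0 → TIn G u φ) : G = ⊤ := by
  classical
  haveI : FiniteDimensional F V := Module.Finite.of_finite
  haveI : Finite F := Finite.of_surjective (fun b : Bool => if b then (1 : F) else 0) fun c =>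
    (hF c).elim (fun e => ⟨false, e.symm⟩) (fun e => ⟨true, e.symm⟩)
  haveI : Fintype F := Fintype.ofFinite F
  let φ : V ≃ₗ[F] (Fin (finrank F V) → F) := (Module.finBasis F V).equivFun
  let conj : ((Fin (finrank F V) → F) ≃ₗ[F] (Fin (finrank F V) → F)) ≃* (V ≃ₗ[F] V) :=
    { toFun := fun f => φ.trans (f.trans φ.symm)
      invFun := fun f => φ.symm.trans (f.trans φ)
      left_inv := fun f => LinearEquiv.ext fun x => by simp
      right_inv := fun f => LinearEquiv.ext fun x => by simp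
      map_mul' := fun f g => LinearEquiv.ext fun x => by simp }
  let Φ : GL (Fin (finrank F V)) F ≃* (V ≃ₗ[F] V) := gmap.trans conj
  have hΦ : ∀ g x, φ (Φ g x) = (g : Matrix _ _ F).mulVec (φ x) := fun g x => by
    show φ (φ.symm (gmap g (φ x))) = _
    rw [φ.apply_symm_apply, gmap_apply]
  let T : Subgroup (Matrix.SpecialLinearGroup (Fin (finrank F V)) F) :=
    G.comap (Φ.toMonoidHom.comp Matrix.SpecialLinearGroup.toGL)
  have hT : T = ⊤ := by
    rw [eq_top_iff, ← CfsgLib.StSL.closure_transvection_eq_top (K := F) (n := finrank F V) hn, Subgroup.closure_le]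
    rintro _ ⟨i, j, hij, c, rfl⟩
    obtain ⟨g', hg', hg'x⟩ := h (φ.symm (Pi.single i 1)) ((c • LinearMap.proj j) ∘ₗ φ.toLinearMap) (by simp [hij])
    show Φ (Matrix.SpecialLinearGroup.toGL _) ∈ G
    suffices hh : Φ (Matrix.SpecialLinearGroup.toGL (Matrix.SpecialLinearGroup.transvection hij c)) = g' from hh ▸ hg'
    refine LinearEquiv.ext fun x => φ.injective ?_
    rw [hΦ, hg'x, map_add, LinearMap.smulRight_apply, map_smul, φ.apply_symm_apply]
    show (Matrix.transvection i j c).mulVec (φ x) = _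
    rw [Matrix.transvection, Matrix.add_mulVec, Matrix.one_mulVec, Matrix.single_mulVec]
    congr 1
    funext l
    simp [Pi.single_apply, Function.update_apply]
  refine eq_top_iff.mpr fun f _ => ?_
  obtain ⟨A, rfl⟩ := Φ.surjective f
  have hd : (A : Matrix (Fin (finrank F V)) (Fin (finrank F V)) F).det = 1 :=
    units_one hF (Matrix.GeneralLinearGroup.det A).ne_zero
  let As : Matrix.SpecialLinearGroup (Fin (finrank F V)) F := ⟨_, hd⟩
  have : As ∈ T := hT ▸ Subgroup.mem_top As
  have hAA : Matrix.SpecialLinearGroup.toGL As = A := Units.ext rfl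
  exact hAA ▸ this

/-- In dimension three an involution is a transvection. -/
theorem exists_transvection_three (hF : ∀ c : F, c = 0 ∨ c = 1) (hn : finrank F V = 3) {G : Subgroup (V ≃ₗ[F] V)}
    (h2 : PairTrans G) : ∃ (u : V) (φ : Dual F V), u ≠ 0 ∧ φ ≠ 0 ∧ φ u = 0 ∧ TIn G u φ := by
  classical
  haveI : FiniteDimensional F V := Module.Finite.of_finite
  haveI : Finite (V ≃ₗ[F] V) := Finite.of_injective (fun g : V ≃ₗ[F] V => (g : V → V)) DFunLike.coe_injective
  let b := Module.finBasisOfFinrankEq F V hn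
  have hne : (pt (b 0) (b.ne_zero 0) : Sub F V 1) ≠ pt (b 1) (b.ne_zero 1) := fun e =>
    absurd (b.injective (pt_inj hF _ _ e)) (by decide)
  obtain ⟨g, hg, eP, eQ⟩ := h2 _ _ _ _ hne hne.symm
  have heven : 2 ∣ orderOf g := by
    by_contra hodd
    obtain ⟨k, hk⟩ : ∃ k, orderOf g = 2 * k + 1 := ⟨orderOf g / 2, by omega⟩
    have h2k : ∀ j, g ^ (2 * j) • (pt (b 0) (b.ne_zero 0) : Sub F V 1) = pt (b 0) (b.ne_zero 0) := by
      intro j
      induction j with
      | zero => rw [pow_zero, one_smul]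
      | succ j ih => rw [mul_add, mul_one, pow_add, mul_smul, pow_two, mul_smul, eP, eQ, ih]
    have h1 := h2k k
    have h3 : g ^ (2 * k + 1) • (pt (b 0) (b.ne_zero 0) : Sub F V 1) = pt (b 1) (b.ne_zero 1) := by
      rw [add_comm, pow_add, pow_one, mul_smul, h1, eP]
    rw [← hk, pow_orderOf_eq_one, one_smul] at h3
    exact hne h3
  obtain ⟨m, hm⟩ := heven
  have hpos := orderOf_pos g
  set t := g ^ m with ht'
  have htG : t ∈ G := pow_mem hg m
  have ht1 : t ≠ 1 := pow_ne_one_of_lt_orderOf (by omega) (by omega)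
  have ht2 : ∀ x, t (t x) = x := fun x => by
    rw [← LinearEquiv.mul_apply, ← pow_add, ← two_mul, ← hm, pow_orderOf_eq_one]
    rfl
  let X : V →ₗ[F] V := (t : V →ₗ[F] V) - LinearMap.id
  have hXa : ∀ x, X x = t x - x := fun x => rfl
  have h20 : ∀ y : V, y + y = 0 := fun y => by
    rw [← one_smul F y, ← add_smul]
    rcases hF (1 + 1 : F) with e | e
    · rw [e, zero_smul]
    · exact absurd (add_eq_left.mp e) one_ne_zero
  have hXX : LinearMap.range X ≤ LinearMap.ker X := by
    rintro _ ⟨x, rfl⟩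
    rw [LinearMap.mem_ker, hXa, hXa, map_sub, ht2, show x - t x - (t x - x) = (x + x) - (t x + t x) by abel,
      h20, h20, sub_zero]
  have hr : finrank F (LinearMap.range X) = 1 := by
    have h1 := LinearMap.finrank_range_add_finrank_ker X
    have h3 := Submodule.finrank_mono hXX
    have h4 : finrank F (LinearMap.range X) ≠ 0 := fun e => by
      rw [Submodule.finrank_eq_zero, LinearMap.range_eq_bot] at e
      exact ht1 (LinearEquiv.ext fun x => sub_eq_zero.mp (LinearMap.congr_fun e x))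
    omega
  obtain ⟨u, hu, hspan⟩ := exists_pt (⟨_, hr⟩ : Sub F V 1)
  have hle : LinearMap.range X = F ∙ u := congrArg Subtype.val hspan
  have hu' : u ∈ LinearMap.range X := hle ▸ Submodule.mem_span_singleton_self u
  obtain ⟨φ, hφ, hφu, hT⟩ := tin_of_rank_one htG hu ht1 (fun x => hle ▸ ⟨x, rfl⟩) (sub_eq_zero.mp (hXX hu'))
  exact ⟨u, φ, hu, hφ, hφu, hT⟩

/-- A doubly transitive group over two elements on a Mersenne number of points is everything. -/
theorem top_of_pairs (hF : ∀ c : F, c = 0 ∨ c = 1) {L : Type*} [Field L] [Algebra F L] [Finite L]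
    (hp : (finrank F L).Prime) {M : Subgroup (L ≃ₗ[F] L)} (hmul : ∀ u : Lˣ, mulE u ∈ M) (h2 : PairTrans M) :
    M = ⊤ := by
  haveI : FiniteDimensional F L := finiteDim
  have h2n := hp.two_le
  rcases h2n.lt_or_eq with h3 | h3
  · refine eq_top_of_all hF h2n fun u φ hφ => ?_
    have hodd : Odd (finrank F L) := hp.odd_of_ne_two (by omega)
    by_cases h5 : 5 ≤ finrank F L
    · exact CfsgLib.SingerPrime.all_of_pairs h2 h5 hodd (fun u _ => hmul u) u φ hφ
    · have hn : finrank F L = 3 := by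
        obtain ⟨c, hc⟩ := hodd
        omega
      obtain ⟨u₀, φ₀, hu₀, hφ₀, h₀, hT⟩ := exists_transvection_three hF hn h2
      exact all_transvections_of_three h2 h3 hu₀ hφ₀ h₀ hT u φ hφ
  · refine eq_top_iff.mpr fun f _ => ?_
    let b := Module.finBasisOfFinrankEq F L h3.symm
    have hf0 : ∀ i, f (b i) ≠ 0 := fun i => by simpa using b.ne_zero i
    have hne : (pt (b 0) (b.ne_zero 0) : Sub F L 1) ≠ pt (b 1) (b.ne_zero 1) := fun e =>
      absurd (b.injective (pt_inj hF _ _ e)) (by decide)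
    have hne' : (pt (f (b 0)) (hf0 0) : Sub F L 1) ≠ pt (f (b 1)) (hf0 1) := fun e =>
      absurd (b.injective (f.injective (pt_inj hF _ _ e))) (by decide)
    obtain ⟨g, hg, e1, e2⟩ := h2 _ _ _ _ hne hne'
    rw [smul_pt] at e1 e2
    have h0 := pt_inj hF _ _ e1
    have h1 := pt_inj hF _ _ e2
    have : f = g := b.ext' fun i => by
      fin_cases i
      · exact h0.symm
      · exact h1.symm
    exact this ▸ hg

/-- A group of semilinear maps containing the multiplications. -/
theorem card_of_semi {L : Type*} [Field L] [Algebra F L] [Finite L] (hp : (finrank F L).Prime)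
    {M : Subgroup (L ≃ₗ[F] L)} (hmul : ∀ u : Lˣ, mulE u ∈ M) (hsemi : ∀ g ∈ M, IsSemi g) :
    Nat.card M = Nat.card Lˣ ∨ Nat.card M = finrank F L * Nat.card Lˣ := by
  classical
  haveI : FiniteDimensional F L := finiteDim
  by_cases htriv : ∀ g ∈ M, ∀ c τ, g = mulE c * autE τ → τ = (1 : L ≃ₐ[F] L)
  · left
    refine (Nat.card_eq_of_bijective (fun u : Lˣ => (⟨mulE u, hmul u⟩ : M)) ⟨fun u u' e => ?_, ?_⟩).symm
    · refine Units.ext ?_
      have := LinearEquiv.congr_fun (congrArg Subtype.val e) 1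
      simpa using this
    · rintro ⟨g, hg⟩
      obtain ⟨c, τ, hc⟩ := hsemi g hg
      refine ⟨c, Subtype.ext ?_⟩
      show mulE c = g
      rw [hc, htriv g hg c τ hc, map_one, mul_one]
  · right
    push Not at htriv
    obtain ⟨g, hg, c, τ, hc, hτ⟩ := htriv
    have hτM : autE τ ∈ M := by
      have := mul_mem (inv_mem (hmul c)) hg
      rwa [hc, ← mul_assoc, inv_mul_cancel, one_mul] at this
    have haut : ∀ σ : L ≃ₐ[F] L, autE σ ∈ M := fun σ => by
      obtain ⟨i, -, rfl⟩ := Singer.aut_eq_pow hp hτ σ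
      rw [map_pow]
      exact pow_mem hτM i
    rw [← Singer.card_aut hp, mul_comm, ← Nat.card_prod]
    refine (Nat.card_eq_of_bijective
      (fun x : Lˣ × (L ≃ₐ[F] L) => (⟨mulE x.1 * autE x.2, mul_mem (hmul _) (haut _)⟩ : M)) ⟨?_, ?_⟩).symm
    · rintro ⟨u, σ⟩ ⟨u', σ'⟩ e
      have e' : mulE u * autE σ = (mulE u' * autE σ' : L ≃ₗ[F] L) := congrArg Subtype.val e
      have h1 : u = u' := Units.ext (by simpa using LinearEquiv.congr_fun e' 1)
      subst h1
      refine Prod.ext rfl (AlgEquiv.ext fun x => ?_)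
      simpa using LinearEquiv.congr_fun (mul_left_cancel e') x
    · rintro ⟨m, hm⟩
      obtain ⟨u, σ, rfl⟩ := hsemi m hm
      exact ⟨(u, σ), rfl⟩

/-- Conjugation into a larger space. -/
def conjHom {W : Type*} [AddCommGroup W] [Module F W] (Φ : W ≃ₗ[F] V) : (V ≃ₗ[F] V) →* (W ≃ₗ[F] W) where
  toFun f := Φ.trans (f.trans Φ.symm)
  map_one' := LinearEquiv.ext fun x => by simp
  map_mul' f g := LinearEquiv.ext fun x => by simp

theorem conjHom_injective {W : Type*} [AddCommGroup W] [Module F W] (Φ : W ≃ₗ[F] V) :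
    Function.Injective (conjHom Φ) := fun f g e => LinearEquiv.ext fun x => by
  have := LinearEquiv.congr_fun e (Φ.symm x)
  simpa [conjHom] using this

variable (hF : ∀ c : F, c = 0 ∨ c = 1)

/-- A group of prime order moving a vector is transitive on a Mersenne prime number of vectors. -/
theorem transitive_of_card {p : ℕ} (hp : p.Prime) (hV : Nat.card {v : V // v ≠ 0} = p)
    {C : Subgroup (V ≃ₗ[F] V)} (hC : Nat.card C = p) (v w : V) (hv : v ≠ 0) (hw : w ≠ 0) :
    ∃ h ∈ C, h v = w := by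
  classical
  haveI : Finite (V ≃ₗ[F] V) := Finite.of_injective (fun g : V ≃ₗ[F] V => (g : V → V)) DFunLike.coe_injective
  haveI : Fact p.Prime := ⟨hp⟩
  haveI : Fact (Nat.card C).Prime := ⟨hC ▸ hp⟩
  obtain ⟨c, hc⟩ : ∃ c : C, c ≠ 1 := by
    by_contra h
    push Not at h
    haveI : Subsingleton C := ⟨fun a b => (h a).trans (h b).symm⟩
    have := Nat.card_of_subsingleton (1 : C)
    exact hp.ne_one (by omega)
  obtain ⟨x, hx⟩ : ∃ x, (c : V ≃ₗ[F] V) x ≠ x := by
    by_contra h
    push Not at h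
    exact hc (Subtype.ext (LinearEquiv.ext h))
  have hx0 : x ≠ 0 := fun e => hx (by rw [e, map_zero])
  have hstab : (MulAction.stabilizer (V ≃ₗ[F] V) x).subgroupOf C = ⊥ :=
    (Subgroup.eq_bot_or_eq_top_of_prime_card _).resolve_right fun e => hx (by
      have h1 : c ∈ (MulAction.stabilizer (V ≃ₗ[F] V) x).subgroupOf C := e ▸ Subgroup.mem_top c
      exact Subgroup.mem_subgroupOf.mp h1)
  let o : C → {v : V // v ≠ 0} := fun d => ⟨(d : V ≃ₗ[F] V) x, by simpa using hx0⟩
  have ho : Function.Surjective o := by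
    refine ((Nat.bijective_iff_injective_and_card o).mpr ⟨fun d e h => ?_, hC.trans hV.symm⟩).2
    have h1 : d⁻¹ * e ∈ (MulAction.stabilizer (V ≃ₗ[F] V) x).subgroupOf C := by
      rw [Subgroup.mem_subgroupOf, MulAction.mem_stabilizer_iff]
      show ((d : V ≃ₗ[F] V)⁻¹) ((e : V ≃ₗ[F] V) x) = x
      rw [← show (d : V ≃ₗ[F] V) x = (e : V ≃ₗ[F] V) x from congrArg Subtype.val h]
      exact (d : V ≃ₗ[F] V).symm_apply_apply x
    rw [hstab, Subgroup.mem_bot, inv_mul_eq_one] at h1
    exact h1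
  obtain ⟨a, ha⟩ := ho ⟨v, hv⟩
  obtain ⟨b, hb⟩ := ho ⟨w, hw⟩
  refine ⟨_, (b * a⁻¹).2, ?_⟩
  show (b : V ≃ₗ[F] V) ((a : V ≃ₗ[F] V).symm v) = w
  rw [show (a : V ≃ₗ[F] V).symm v = x from by
    rw [LinearEquiv.symm_apply_eq]; exact (congrArg Subtype.val ha).symm]
  exact congrArg Subtype.val hb

include hF in
/-- The points are the vectors. -/
theorem card_pts : Nat.card (Sub F V 1) = Nat.card {v : V // v ≠ 0} := by
  refine (Nat.card_eq_of_bijective (fun v : {v : V // v ≠ 0} => (pt v.1 v.2 : Sub F V 1))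
    ⟨fun v w e => Subtype.ext (pt_inj hF v.2 w.2 e), fun P => ?_⟩).symm
  obtain ⟨v, hv, rfl⟩ := exists_pt P
  exact ⟨⟨v, hv⟩, rfl⟩

include hF in
/-- A map fixing all points is trivial. -/
theorem eq_of_pts {f g : V ≃ₗ[F] V} (h : ∀ P : Sub F V 1, f • P = g • P) : f = g := by
  refine LinearEquiv.ext fun x => ?_
  by_cases hx : x = 0
  · rw [hx, map_zero, map_zero]
  · have := h (pt x hx)
    rw [smul_pt, smul_pt] at this
    exact pt_inj hF _ _ this

include hF in
/-- A subgroup transitive on a Mersenne prime number of vectors. -/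
theorem classify (hp : (2 ^ finrank F V - 1).Prime) (hV : Nat.card {v : V // v ≠ 0} = 2 ^ finrank F V - 1)
    {H : Subgroup (V ≃ₗ[F] V)} (htr : ∀ v w : V, v ≠ 0 → w ≠ 0 → ∃ h ∈ H, h v = w) :
    H = ⊤ ∨ ∃ g ∈ H, orderOf g = 2 ^ finrank F V - 1 ∧ ((Subgroup.zpowers g).subgroupOf H).Normal ∧
      (Nat.card H = 2 ^ finrank F V - 1 ∨ Nat.card H = finrank F V * (2 ^ finrank F V - 1)) := by
  classical
  haveI : FiniteDimensional F V := Module.Finite.of_finite
  haveI : Finite (V ≃ₗ[F] V) := Finite.of_injective (fun g : V ≃ₗ[F] V => (g : V → V)) DFunLike.coe_injective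
  set n := finrank F V with hn
  set p := 2 ^ n - 1 with hpdef
  have hn1 : n ≠ 1 := fun e => by rw [hpdef, e] at hp; norm_num at hp
  have hnp : n.Prime := (Nat.prime_of_pow_sub_one_prime hn1 hp).2
  haveI : Fact p.Prime := ⟨hp⟩
  obtain ⟨⟨v₀, hv₀⟩⟩ : Nonempty {v : V // v ≠ 0} := (Nat.card_pos_iff.mp (hV ▸ hp.pos)).1
  haveI : MulAction.IsPretransitive H (Sub F V 1) := ⟨fun P Q => by
    obtain ⟨v, hv, rfl⟩ := exists_pt P
    obtain ⟨w, hw, rfl⟩ := exists_pt Q
    obtain ⟨h, hh, rfl⟩ := htr v w hv hw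
    exact ⟨⟨h, hh⟩, smul_pt h v hv⟩⟩
  have hcard : Nat.card (Sub F V 1) = p := (card_pts hF).trans hV
  -- an element of order p
  obtain ⟨⟨g, hgH⟩, hg⟩ : ∃ g : H, orderOf g = p := by
    refine exists_prime_orderOf_dvd_card' p ?_
    rw [← hcard, ← MulAction.index_stabilizer_of_transitive H (pt v₀ hv₀ : Sub F V 1)]
    exact Subgroup.index_dvd_card _
  rw [Subgroup.orderOf_mk] at hg
  have hg1 : g ≠ 1 := fun e => hp.ne_one (by rw [← hg, e, orderOf_one])
  have horb : ∀ v w : V, v ≠ 0 → w ≠ 0 → ∃ i : ℕ, (g ^ i) v = w := fun v w hv hw => by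
    obtain ⟨c, hc, e⟩ := transitive_of_card hp hV (C := Subgroup.zpowers g) (by rw [Nat.card_zpowers, hg]) v w hv hw
    obtain ⟨i, rfl⟩ := (Submonoid.mem_powers_iff _ _).mp ((mem_powers_iff_mem_zpowers).mpr hc)
    exact ⟨i, e⟩
  -- the field
  let e0 : Module.End F V := (g : V →ₗ[F] V)
  let A := Algebra.adjoin F ({e0} : Set (Module.End F V))
  have hpow : ∀ i : ℕ, e0 ^ i = ((g ^ i : V ≃ₗ[F] V) : V →ₗ[F] V) := fun i => by
    induction i with
    | zero => rfl
    | succ i ih => rw [pow_succ, ih, pow_succ]; rfl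
  have hge0 : ∀ a ∈ A, Commute a e0 := fun a ha => by
    induction ha using Algebra.adjoin_induction with
    | mem x hx => rw [Set.mem_singleton_iff.mp hx]
    | algebraMap r => exact Algebra.commutes r e0
    | add x y _ _ hx hy => exact hx.add_left hy
    | mul x y _ _ hx hy => exact hx.mul_left hy
  have hcomm : ∀ a ∈ A, ∀ b ∈ A, Commute a b := fun a ha b hb => by
    induction hb using Algebra.adjoin_induction with
    | mem x hx => rw [Set.mem_singleton_iff.mp hx]; exact hge0 a ha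
    | algebraMap r => exact (Algebra.commutes r a).symm
    | add x y _ _ hx hy => exact hx.add_right hy
    | mul x y _ _ hx hy => exact hx.mul_right hy
  have he0 : e0 ∈ A := Algebra.subset_adjoin rfl
  let ev : A →ₗ[F] V :=
    { toFun := fun a => (a : Module.End F V) v₀
      map_add' := fun a b => by simp
      map_smul' := fun c a => by simp }
  have hinj : Function.Injective ev := by
    rw [← LinearMap.ker_eq_bot, LinearMap.ker_eq_bot']
    intro a ha
    refine Subtype.ext (LinearMap.ext fun w => ?_)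
    by_cases hw : w = 0
    · rw [hw, map_zero, map_zero]
    · obtain ⟨i, rfl⟩ := horb v₀ w hv₀ hw
      have h1 := LinearMap.congr_fun ((hge0 _ a.2).pow_right i).eq v₀
      rw [hpow, Module.End.mul_apply, Module.End.mul_apply, show (a : Module.End F V) v₀ = 0 from ha, map_zero] at h1
      exact h1
  have hsurj : Function.Surjective ev := fun w => by
    by_cases hw : w = 0
    · exact ⟨0, by rw [map_zero, hw]⟩
    · obtain ⟨i, rfl⟩ := horb v₀ w hv₀ hw
      exact ⟨⟨e0 ^ i, pow_mem he0 i⟩, LinearMap.congr_fun (hpow i) v₀⟩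
  haveI : Nontrivial V := ⟨v₀, 0, hv₀⟩
  have hfield : IsField A := by
    refine ⟨⟨0, 1, fun h => zero_ne_one (congrArg Subtype.val h)⟩, fun x y => Subtype.ext (hcomm x x.2 y y.2),
      fun {a} ha => ?_⟩
    have hav : ev a ≠ 0 := fun h => ha (hinj (h.trans (map_zero ev).symm))
    obtain ⟨i, hi⟩ := horb (ev a) v₀ hav hv₀
    refine ⟨⟨e0 ^ i, pow_mem he0 i⟩, hinj ?_⟩
    show ((a : Module.End F V) * e0 ^ i) v₀ = (1 : Module.End F V) v₀
    rw [((hge0 _ a.2).pow_right i).eq, hpow]
    exact hi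
  letI : Field A := hfield.toField
  haveI : Finite A := Finite.of_injective ev hinj
  let Φ : A ≃ₗ[F] V := LinearEquiv.ofBijective ev ⟨hinj, hsurj⟩
  have hΦ : ∀ a b : A, Φ (a * b) = (a : Module.End F V) (Φ b) := fun a b => rfl
  have hdim : finrank F A = n := Φ.finrank_eq
  have hnA : (finrank F A).Prime := hdim ▸ hnp
  have hg0 : (⟨e0, he0⟩ : A) ≠ 0 := fun e => hv₀ (g.injective (by
    rw [map_zero]
    exact LinearMap.congr_fun (congrArg Subtype.val e) v₀))
  let u₀ : (A)ˣ := Units.mk0 ⟨e0, he0⟩ hg0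
  have hu₀ : conjHom Φ g = mulE u₀ := LinearEquiv.ext fun x => Φ.injective (by
    show Φ (Φ.symm (g (Φ x))) = Φ (_ * x)
    rw [Φ.apply_symm_apply, hΦ]
    rfl)
  set M : Subgroup (A ≃ₗ[F] A) := H.map (conjHom Φ)
  have hunit : ∀ u : (A)ˣ, ∃ i : ℕ, u₀ ^ i = u := fun u => by
    obtain ⟨i, hi⟩ := horb v₀ (ev u) hv₀ (fun h => u.ne_zero (hinj (h.trans (map_zero ev).symm)))
    refine ⟨i, Units.ext (hinj ?_)⟩
    rw [Units.val_pow_eq_pow_val]
    refine Eq.trans ?_ hi
    show ((⟨e0, he0⟩ : A) ^ i : A).1 v₀ = _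
    rw [SubmonoidClass.coe_pow]
    exact LinearMap.congr_fun (hpow i) v₀
  have hmul : ∀ u : (A)ˣ, mulE u ∈ M := fun u => by
    obtain ⟨i, rfl⟩ := hunit u
    rw [map_pow, ← hu₀, ← map_pow]
    exact Subgroup.mem_map_of_mem _ (pow_mem hgH i)
  by_cases h2 : MulAction.IsMultiplyPretransitive H (Sub F V 1) 2
  · left
    have hP : PairTrans M := by
      intro P Q P' Q' hne hne'
      obtain ⟨x, hx, rfl⟩ := exists_pt P
      obtain ⟨y, hy, rfl⟩ := exists_pt Q
      obtain ⟨x', hx', rfl⟩ := exists_pt P'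
      obtain ⟨y', hy', rfl⟩ := exists_pt Q'
      have hpt : ∀ {a b : A} (ha : a ≠ 0) (hb : b ≠ 0), (pt a ha : Sub F A 1) ≠ pt b hb →
          (pt (Φ a) (by simpa using ha) : Sub F V 1) ≠ pt (Φ b) (by simpa using hb) := fun ha hb h e => by
        have := Φ.injective (pt_inj hF _ _ e)
        subst this
        exact h rfl
      obtain ⟨⟨h, hh⟩, e1, e2⟩ := MulAction.is_two_pretransitive_iff.mp h2 (hpt hx hy hne) (hpt hx' hy' hne')
      rw [Subgroup.mk_smul, smul_pt] at e1 e2
      have h1 := pt_inj hF _ _ e1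
      have h2' := pt_inj hF _ _ e2
      refine ⟨conjHom Φ h, Subgroup.mem_map_of_mem _ hh, ?_, ?_⟩
      · rw [smul_pt]; congr 1; show Φ.symm (h (Φ x)) = x'; rw [h1, Φ.symm_apply_apply]
      · rw [smul_pt]; congr 1; show Φ.symm (h (Φ y)) = y'; rw [h2', Φ.symm_apply_apply]
    have htop := top_of_pairs hF hnA hmul hP
    refine eq_top_iff.mpr fun f _ => ?_
    obtain ⟨f', hf', e⟩ : conjHom Φ f ∈ M := htop ▸ Subgroup.mem_top _
    exact (conjHom_injective Φ e) ▸ hf'
  · right
    obtain ⟨e, he⟩ := CfsgLib.PrimeDegree.affine_coordinates hcard h2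
    obtain ⟨a, b, hab⟩ := he ⟨g, hgH⟩
    change ∀ x, g • e x = _ at hab
    have hiter : ∀ k : ℕ, ∃ c, ∀ x, g ^ k • e x = e (a ^ k * x + c) := fun k => by
      induction k with
      | zero => exact ⟨0, fun x => by simp⟩
      | succ k ih =>
        obtain ⟨c, hc⟩ := ih
        exact ⟨a * c + b, fun x => by rw [pow_succ', mul_smul, hc, hab]; congr 1; ring⟩
    obtain rfl : a = 1 := by
      obtain ⟨c, hc⟩ := hiter p
      have hgp : g ^ p = 1 := hg ▸ pow_orderOf_eq_one g
      simp only [ZMod.pow_card, hgp, one_smul] at hc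
      have h0 := e.injective (hc 0)
      have h1 := e.injective (hc 1)
      rw [mul_zero, zero_add] at h0
      rw [← h0, mul_one, add_zero] at h1
      exact h1.symm
    simp only [one_mul] at hab
    have hgk : ∀ (k : ℕ) x, g ^ k • e x = e (x + k * b) := fun k => by
      induction k with
      | zero => intro x; simp
      | succ k ih => intro x; rw [pow_succ', mul_smul, ih, hab]; congr 1; push_cast; ring
    have hnorm : ∀ h ∈ H, ∃ k : ℕ, h * g = g ^ k * h := fun h hh => by
      obtain ⟨a', b', hab'⟩ := he ⟨h, hh⟩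
      change ∀ x, h • e x = _ at hab'
      refine ⟨a'.val, eq_of_pts hF fun P => ?_⟩
      obtain ⟨x, rfl⟩ := e.surjective P
      rw [mul_smul, mul_smul, hab, hab', hab', hgk, ZMod.natCast_zmod_val]
      congr 1
      ring
    refine ⟨g, hgH, hg, ⟨fun x hx y => ?_⟩, ?_⟩
    · rw [Subgroup.mem_subgroupOf] at hx ⊢
      obtain ⟨z, hz⟩ := Subgroup.mem_zpowers_iff.mp hx
      obtain ⟨k, hk⟩ := hnorm y y.2
      show (y : V ≃ₗ[F] V) * (x : V ≃ₗ[F] V) * (y : V ≃ₗ[F] V)⁻¹ ∈ Subgroup.zpowers g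
      rw [← hz, ← conj_zpow, show (y : V ≃ₗ[F] V) * g * (y : V ≃ₗ[F] V)⁻¹ = g ^ k by rw [hk, mul_inv_cancel_right]]
      exact zpow_mem (pow_mem (Subgroup.mem_zpowers g) k) z
    · have hu : (⟨e0, he0⟩ : A) ∉ Set.range (algebraMap F A) := by
        rintro ⟨c, hc⟩
        rcases hF c with rfl | rfl
        · exact hg0 (by rw [← hc, map_zero])
        · refine hg1 (LinearEquiv.ext fun x => ?_)
          have := LinearMap.congr_fun (congrArg Subtype.val hc) x
          rw [map_one] at this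
          exact this.symm
      have hsemi : ∀ m ∈ M, IsSemi m := by
        rintro _ ⟨h, hh, rfl⟩
        obtain ⟨k, hk⟩ := hnorm h hh
        refine Singer.semi_of_intertwine hnA _ (u := (u₀ : A)) (u' := ((u₀ ^ k : (A)ˣ) : A)) hu fun x => ?_
        have := congrArg (conjHom Φ) hk
        rw [map_mul, map_mul, map_pow, hu₀, ← map_pow] at this
        exact LinearEquiv.congr_fun this x
      have hM : Nat.card M = Nat.card H := Subgroup.card_map_of_injective (conjHom_injective Φ)
      have hU : Nat.card (A)ˣ = p := by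
        rw [← hV]
        refine Nat.card_eq_of_bijective (fun u : (A)ˣ => (⟨Φ u, by simp⟩ : {v : V // v ≠ 0})) ⟨fun u u' h => ?_, fun w => ?_⟩
        · have h' : Φ (u : A) = Φ (u' : A) := congrArg (fun z : {v : V // v ≠ 0} => z.1) h
          exact Units.ext (Φ.injective h')
        · exact ⟨Units.mk0 (Φ.symm w) (by simpa using w.2), Subtype.ext (Φ.apply_symm_apply _)⟩
      rw [← hM, ← hU, ← hdim]
      exact card_of_semi hnA hmul hsemi

end CfsgLib.SingerPrime.Mersenne
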